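import Groth.Agent.S7732
import Groth.Agent.S7733
import Groth.Agent.S3246
import Groth.Agent.S13680
import Groth.Agent.H29Ci.Ext

/-!
# Fields with the property `C₁`: no higher étale cohomology of `G_m`, cohomological dimension at most one
-/

set_option autoImplicit false
set_option linter.style.haveILetI false
set_option backward.isDefEq.respectTransparency false

universe u

open CategoryTheory CategoryTheory.Limits AlgebraicGeometry Opposite Abelian

namespace Groth.Agent.H05EGA4.EtCl.Fields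

open scoped Groth.Agent.H18Et

/-- Norms from all finite extensions of algebraic extensions of a `C₁` field are surjective. -/
theorem normSurj_of_isCi (k : Type u) [Field k] (hk : Curves.IsCi k 1) (p : ℕ) [Fact p.Prime] :
    S7732.NormSurj k p := by
  intro K _ _ _ L _ _ _ _ hL c hc
  classical
  have hKC : Curves.IsCr K 1 := H29Ci.isCr_of_isCi (H29Ci.isCi_of_algebraic K hk)
  let b := (Module.finBasis K L).reindex (finCongr hL)
  let M : Matrix (Fin p) (Fin p) (MvPolynomial (Fin (p + 1)) K) := Matrix.of fun r s =>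
    ∑ j : Fin p, MvPolynomial.C (Algebra.leftMulMatrix b (b j) r s) * MvPolynomial.X (Fin.castSucc j)
  let f := M.det - MvPolynomial.C c * MvPolynomial.X (Fin.last p) ^ p
  have hM : M.det.IsHomogeneous p := by
    rw [Matrix.det_apply]
    refine MvPolynomial.IsHomogeneous.sum _ _ _ fun σ _ => ?_
    have h1 : (∏ i : Fin p, M (σ i) i).IsHomogeneous p := by
      have h := MvPolynomial.IsHomogeneous.prod (Finset.univ : Finset (Fin p)) (fun i => M (σ i) i)
        (fun _ => 1) (fun i _ => by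
          simp only [M, Matrix.of_apply]
          exact MvPolynomial.IsHomogeneous.sum _ _ _ fun j _ => by
            simpa using (MvPolynomial.isHomogeneous_C _ _).mul (MvPolynomial.isHomogeneous_X K (Fin.castSucc j)))
      simpa using h
    rcases Int.units_eq_one_or (Equiv.Perm.sign σ) with hσ | hσ <;> rw [hσ]
    · simpa using h1
    · simpa using h1.neg
  have hf : f.IsHomogeneous p := hM.sub (by
    simpa using (MvPolynomial.isHomogeneous_C _ c).mul ((MvPolynomial.isHomogeneous_X K (Fin.last p)).pow p))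
  obtain ⟨a, ha, h⟩ := hKC (p + 1) p f hf (Fact.out : p.Prime).pos (by rw [pow_one]; exact Nat.lt_succ_self p)
  let z : L := ∑ j : Fin p, a (Fin.castSucc j) • b j
  have hz : Algebra.norm K z = c * a (Fin.last p) ^ p := by
    have hmat : (MvPolynomial.eval a).mapMatrix M = Algebra.leftMulMatrix b z := by
      ext r s
      simp [M, z, Matrix.sum_apply, mul_comm]
    rw [Algebra.norm_eq_matrix_det b, ← hmat, ← RingHom.map_det, ← sub_eq_zero]
    simpa [f] using h
  have hy : a (Fin.last p) ≠ 0 := fun h0 => ha (funext fun i => by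
    rw [h0, zero_pow (Fact.out : p.Prime).ne_zero, mul_zero, Algebra.norm_eq_zero_iff] at hz
    induction i using Fin.lastCases with
    | last => exact h0
    | cast j => exact Fintype.linearIndependent_iff.1 b.linearIndependent _ hz j)
  refine ⟨(a (Fin.last p))⁻¹ • z, ?_⟩
  rw [Algebra.smul_def, map_mul, Algebra.norm_algebraMap, hL, hz, inv_pow]
  field_simp

variable (K : Type u) [Field K]

/-- Fields with surjective norms have no second cohomology of `G_m`. -/
theorem eq_zero_H2_Gm (h : ∀ p : ℕ, p.Prime → S7732.NormSurj K p)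
    (x : EtCoh.H (Spec (CommRingCat.of K)) (EtCoh.Gm (Spec (CommRingCat.of K))) 2) : x = 0 := by
  classical
  obtain ⟨L₀, _, _, _, _, _, hL⟩ := H9GalCoh.Killing.exists_finite_killing _ 2 (by norm_num) x
  haveI : ∀ {X Y : Scheme.{u}} (f : X ⟶ Y), PreservesFiniteLimits (EtCoh.pull f) :=
    fun f => H18Et.pull_preservesFiniteLimits f
  haveI := H9GalCoh.Transfer.etale_str K L₀
  let Ω := SeparableClosure K
  let φ₀ : L₀ →ₐ[K] Ω := IsSepClosed.lift
  letI : Algebra L₀ Ω := φ₀.toRingHom.toAlgebra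
  haveI : IsScalarTower K L₀ Ω := IsScalarTower.of_algebraMap_eq fun y => (φ₀.commutes y).symm
  let M := IntermediateField.normalClosure K L₀ Ω
  haveI : IsGalois K M := IsGalois.normalClosure K L₀ Ω
  haveI := H9GalCoh.Transfer.etale_str K M
  let t₀ := H9GalCoh.Transfer.str K L₀
  let f₀ := H9GalCoh.Transfer.str L₀ M
  have w₀ : f₀ ≫ t₀ = H9GalCoh.Transfer.str K M := by
    show Spec.map _ ≫ Spec.map _ = Spec.map _
    rw [← Spec.map_comp, ← CommRingCat.ofHom_comp, ← IsScalarTower.algebraMap_eq]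
  have hxM : EtCore.Hpull (H9GalCoh.Transfer.str K M) (EtCoh.Gm (Spec (CommRingCat.of K))) 2 x = 0 := by
    rw [← S7733.via_pull t₀ f₀ _ w₀ _ 2 x, hL]
    exact map_zero _
  have hfin := H9GalCoh.Transfer.finrank_nsmul_eq_zero K M _ 2 x hxM
  refine AddMonoid.addOrderOf_eq_one_iff.1 (Nat.eq_one_iff_not_exists_prime_dvd.2 fun p hp hpx => ?_)
  haveI : Fact p.Prime := ⟨hp⟩
  obtain ⟨P⟩ := (inferInstance : Nonempty (Sylow p (M ≃ₐ[K] M)))
  let L := IntermediateField.fixedField (P : Subgroup (M ≃ₐ[K] M))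
  obtain ⟨m, hm⟩ := IsPGroup.iff_card.1 P.isPGroup'
  have hLM : Module.finrank L M = p ^ m := by rw [IntermediateField.finrank_fixedField_eq_card, hm]
  have hndvd : ¬ p ∣ Module.finrank K L := by
    have h1 : (P : Subgroup (M ≃ₐ[K] M)).index = Module.finrank K L := by
      refine Nat.eq_of_mul_eq_mul_left (Module.finrank_pos (R := L) (M := M)) ?_
      rw [mul_comm, IntermediateField.finrank_fixedField_eq_card, Subgroup.index_mul_card, IsGalois.card_aut_eq_finrank]
      rw [← Module.finrank_mul_finrank K L M, hLM, ← hm, mul_comm]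
    rw [← h1]
    exact P.not_dvd_index
  haveI : IsGalois L M := IsGalois.tower_top_of_isGalois K L M
  haveI : Algebra.IsSeparable K L := Algebra.isSeparable_tower_bot_of_isSeparable K L M
  haveI := H9GalCoh.Transfer.etale_str K L
  let t := H9GalCoh.Transfer.str K L
  let f := H9GalCoh.Transfer.str L M
  have w : f ≫ t = H9GalCoh.Transfer.str K M := by
    show Spec.map _ ≫ Spec.map _ = Spec.map _
    rw [← Spec.map_comp]
    rfl
  have hy : EtCore.Hpull t (EtCoh.Gm (Spec (CommRingCat.of K))) 2 x = 0 :=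
    S7732.eq_zero_of_split K p (h p hp) m L M hLM _ (H9GalCoh.Cyclic.pullGmIso t) _
      (H9GalCoh.Tower.Hpull_Hpull_eq_zero t f _ w _ 2 x hxM)
  exact hndvd (hpx.trans (addOrderOf_dvd_of_nsmul_eq_zero (H9GalCoh.Transfer.finrank_nsmul_eq_zero K L _ 2 x hy)))

theorem subsingleton_H2_Gm (h : ∀ p : ℕ, p.Prime → S7732.NormSurj K p) :
    Subsingleton (EtCoh.H (Spec (CommRingCat.of K)) (EtCoh.Gm (Spec (CommRingCat.of K))) 2) :=
  subsingleton_of_forall_eq 0 (eq_zero_H2_Gm K h)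

/-- A sheaf locally killed by powers of `ℓ` is uniquely divisible by integers prime to `ℓ`. -/
theorem isIso_nsmul {X : Scheme.{u}} {F : EtCoh.Ab X} {ℓ b : ℕ} (hF : Dix.IsPrimaryTorsion ℓ F)
    (hb : Nat.Coprime b ℓ) : IsIso (b • 𝟙 F) := by
  have hsm : ∀ (U : X.Etale) (s : EtCoh.sect F U), ((b • 𝟙 F : F ⟶ F).hom.app (op U)) s = b • s := fun U s => by
    have h1 : (sheafToPresheaf X.smallEtaleTopology AddCommGrpCat.{u + 1}).map (b • 𝟙 F) = b • 𝟙 F.obj := by
      rw [Functor.map_nsmul, CategoryTheory.Functor.map_id]; rfl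
    have h2 := ConcreteCategory.congr_hom (congrArg (fun t => t.app (op U)) h1) s
    rw [NatTrans.app_nsmul] at h2
    exact h2
  have hbez : ∀ k : ℕ, ∃ a : ℤ, ∃ c : ℤ, a * b + c * (ℓ : ℤ) ^ k = 1 := fun k => by
    obtain ⟨a, c, h⟩ := Int.isCoprime_iff_nat_coprime.2 (show Nat.Coprime (b : ℤ).natAbs ((ℓ : ℤ) ^ k).natAbs by
      rw [Int.natAbs_pow, Int.natAbs_natCast, Int.natAbs_natCast]; exact hb.pow_right k)
    exact ⟨a, c, h⟩
  haveI : Presheaf.IsLocallyInjective X.smallEtaleTopology (b • 𝟙 F : F ⟶ F).hom := ⟨fun {U} s s' h => by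
    rw [hsm, hsm, ← sub_eq_zero, ← smul_sub] at h
    refine H18Et.mem_topology_of_forall_point _ fun w => ?_
    obtain ⟨V, g, ⟨v, hv⟩, k, hk⟩ := hF U.unop (s - s') w
    refine ⟨V, g, v, ?_, hv⟩
    obtain ⟨a, c, hac⟩ := hbez k
    show F.obj.map g.op s = F.obj.map g.op s'
    rw [← sub_eq_zero, ← map_sub, ← one_zsmul (F.obj.map g.op (s - s')), ← hac, add_zsmul, mul_zsmul, mul_zsmul,
      natCast_zsmul, show ((ℓ : ℤ) ^ k) = ((ℓ ^ k : ℕ) : ℤ) by push_cast; rfl, natCast_zsmul, hk,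
      ← map_nsmul, h, map_zero, zsmul_zero, zsmul_zero, add_zero]⟩
  haveI : Presheaf.IsLocallySurjective X.smallEtaleTopology (b • 𝟙 F : F ⟶ F).hom := ⟨fun {U} s => by
    refine H18Et.mem_topology_of_forall_point _ fun w => ?_
    obtain ⟨V, g, ⟨v, hv⟩, k, hk⟩ := hF U s w
    refine ⟨V, g, v, ?_, hv⟩
    obtain ⟨a, c, hac⟩ := hbez k
    refine ⟨a • F.obj.map g.op s, ?_⟩
    rw [hsm, ← natCast_zsmul, ← mul_zsmul']
    have hk' : ((ℓ ^ k : ℕ) : ℤ) • F.obj.map g.op s = 0 := by rw [natCast_zsmul]; exact hk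
    calc _ = (a * (b : ℤ) + c * ((ℓ ^ k : ℕ) : ℤ)) • F.obj.map g.op s := by
          rw [add_zsmul, mul_zsmul _ c, hk', zsmul_zero, add_zero]
      _ = _ := by rw [Nat.cast_pow, hac, one_zsmul]⟩
  exact (Sheaf.isLocallyBijective_iff_isIso _).1 ⟨inferInstance, inferInstance⟩

/-- Classes of primary torsion sheaves over a field are primary. -/
theorem exists_pow_nsmul_eq_zero {F : EtCoh.Ab (Spec (CommRingCat.of K))} {ℓ : ℕ} (hℓ : ℓ.Prime)
    (hF : Dix.IsPrimaryTorsion ℓ F) {i : ℕ} (hi : 0 < i) (x : EtCoh.H (Spec (CommRingCat.of K)) F i) :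
    ∃ m : ℕ, ℓ ^ m • x = 0 := by
  obtain ⟨n, hn, hx⟩ := isOfFinAddOrder_iff_nsmul_eq_zero.1 (H9GalCoh.Killing.isOfFinAddOrder F i hi x)
  obtain ⟨m, b, hb, rfl⟩ := Nat.exists_eq_pow_mul_and_not_dvd hn.ne' ℓ hℓ.ne_one
  haveI := isIso_nsmul hF (hℓ.coprime_iff_not_dvd.2 hb).symm
  refine ⟨m, ?_⟩
  rw [mul_comm, mul_nsmul'] at hx
  have h2 : (ℓ ^ m • x).comp (Ext.mk₀ (b • 𝟙 F)) (add_zero i) = 0 := by
    rw [show Ext.mk₀ (b • 𝟙 F) = b • Ext.mk₀ (𝟙 F) from map_nsmul Ext.addEquiv₀.symm _ _,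
      ← Ext.bilinearComp_apply_apply (h := add_zero i), map_nsmul, Ext.bilinearComp_apply_apply, Ext.comp_mk₀_id]
    exact hx
  rw [← Ext.comp_mk₀_id (ℓ ^ m • x), ← IsIso.hom_inv_id (b • 𝟙 F), ← Ext.mk₀_comp_mk₀,
    ← Ext.comp_assoc_of_third_deg_zero, h2, Ext.zero_comp]

theorem isTorsion_of_primary {X : Scheme.{u}} {F : EtCoh.Ab X} {ℓ : ℕ} (hℓ : 0 < ℓ)
    (hF : Dix.IsPrimaryTorsion ℓ F) : EtCoh.IsTorsion F := fun U s x => by
  obtain ⟨V, g, hv, k, hk⟩ := hF U s x
  exact ⟨V, g, hv, isOfFinAddOrder_iff_nsmul_eq_zero.2 ⟨ℓ ^ k, pow_pos hℓ k, hk⟩⟩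

/-- Fields with surjective norms have cohomological dimension at most one at each prime. -/
theorem cohDimLEAt_one (ℓ : ℕ) (hℓ : ℓ.Prime) (h : S7732.NormSurj K ℓ) :
    Dix.CohDimLEAt (Spec (CommRingCat.of K)) ℓ 1 := fun F hF q hq => by
  haveI : Fact ℓ.Prime := ⟨hℓ⟩
  refine subsingleton_of_forall_eq 0 fun x => ?_
  have hx := exists_pow_nsmul_eq_zero K hℓ hF (Nat.lt_of_lt_of_le one_pos hq.le) x
  have hT := isTorsion_of_primary hℓ.pos hF
  by_cases h0 : (ℓ : K) = 0
  · haveI : CharP K ℓ := CharP.charP_iff_prime_eq_zero hℓ |>.2 h0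
    exact S7733.result K ℓ F hT q hq x hx
  · exact S7732.cd_of_normSurj K ℓ h0 h F hT q hq x hx

/-- Fields with surjective norms have no higher cohomology of `G_m`. -/
theorem subsingleton_H_Gm (h : ∀ p : ℕ, p.Prime → S7732.NormSurj K p) (q : ℕ) (hq : 1 ≤ q) :
    Subsingleton (EtCoh.H (Spec (CommRingCat.of K)) (EtCoh.Gm (Spec (CommRingCat.of K))) q) := by
  rcases (show q = 1 ∨ q = 2 ∨ 2 < q by omega) with rfl | rfl | hq3
  · exact S13680.subsingleton_H1_Gm
  · exact subsingleton_H2_Gm K h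
  refine subsingleton_of_forall_eq 0 fun ξ => ?_
  refine AddMonoid.addOrderOf_eq_one_iff.1 (Nat.eq_one_iff_not_exists_prime_dvd.2 fun p hp hpx => ?_)
  have hfin := (H9GalCoh.Killing.isOfFinAddOrder _ q (by omega) ξ).addOrderOf_pos
  let ξ' := (addOrderOf ξ / p) • ξ
  have h1 : ξ' = 0 := (S3246.result _ p hp 1 (cohDimLEAt_one K p hp (h p hp))).1 q hq3 ξ'
    ⟨1, by rw [pow_one, smul_smul, Nat.mul_div_cancel' hpx, addOrderOf_nsmul_eq_zero]⟩
  exact Nat.not_dvd_of_pos_of_lt (Nat.div_pos (Nat.le_of_dvd hfin hpx) hp.pos) (Nat.div_lt_self hfin hp.one_lt)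
    (addOrderOf_dvd_of_nsmul_eq_zero h1)

/-- `C₁` fields have no higher étale cohomology of `G_m`. -/
theorem subsingleton_H_Gm_of_isCi (hK : Curves.IsCi K 1) (q : ℕ) (hq : 1 ≤ q) :
    Subsingleton (EtCoh.H (Spec (CommRingCat.of K)) (EtCoh.Gm (Spec (CommRingCat.of K))) q) :=
  subsingleton_H_Gm K (fun p hp => haveI : Fact p.Prime := ⟨hp⟩; normSurj_of_isCi K hK p) q hq

/-- Fields of transcendence degree at most one over an algebraically closed field are `C₁`. -/
theorem isCi_one_of_trdeg_le_one (k : Type u) [Field k] [IsAlgClosed k] [Algebra k K]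
    (hK : Algebra.trdeg k K ≤ 1) : Curves.IsCi K 1 := by
  classical
  obtain ⟨s, hs⟩ := exists_isTranscendenceBasis k K
  have hfin : Cardinal.mk s < Cardinal.aleph0 := by
    rw [hs.cardinalMk_eq_trdeg]
    exact hK.trans_lt Cardinal.one_lt_aleph0
  haveI : Finite s := Cardinal.lt_aleph0_iff_finite.1 hfin
  haveI : Fintype s := Fintype.ofFinite s
  have hcard : Fintype.card s ≤ 1 := by
    have h1 : Cardinal.mk s ≤ 1 := hs.cardinalMk_eq_trdeg.trans_le hK
    rw [Cardinal.mk_fintype] at h1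
    exact_mod_cast h1
  exact H29Ci.isCi_mono ((Nat.zero_add _).trans_le hcard)
    (H29Ci.isCi_of_transcendenceBasis (ι := s) (H29Ci.isCi_of_isAlgClosed k) _ hs)

end Groth.Agent.H05EGA4.EtCl.Fields
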