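import Groth.Agent.S13269
import Groth.Agent.S13292
import Groth.Agent.H23CSA.CyclicHom
import Groth.Agent.H29CSA.Subfield
import Groth.Agent.H05EGA4.EtCl.Fields

/-!
# Trivial Brauer groups of finite extensions give surjective norms
-/

set_option autoImplicit false
universe u

open scoped IntermediateField

namespace Groth.Agent.H05EGA4.EtCl.BrauerNorm

/-- Over a field with trivial Brauer group norms from cyclic extensions are surjective. -/
theorem exists_norm_eq (K : Type u) [Field K]
    (hBr : ∀ (D : Type u) [DivisionRing D] [Algebra K D] [Algebra.IsCentral K D] [FiniteDimensional K D],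
      Module.finrank K D = 1)
    (L : Type u) [Field L] [Algebra K L] [FiniteDimensional K L] [IsGalois K L] (σ : L ≃ₐ[K] L)
    (hσ : ∀ τ : L ≃ₐ[K] L, τ ∈ Subgroup.zpowers σ) (c : K) (hc : c ≠ 0) :
    ∃ y : L, Algebra.norm K y = c := by
  classical
  obtain ⟨B, _, _, hB⟩ := H23CSA.Cyclic.exists_isCyclicAlg hσ (Units.mk0 c hc)
  obtain ⟨hcen, hsimp, -⟩ := S13269.result K L σ hσ (Units.mk0 c hc) B hB
  haveI := hcen
  haveI := hsimp
  have hdim : Module.finrank K B = Module.finrank K L ^ 2 := by
    obtain ⟨_, _, _, _, _, _, h⟩ := hB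
    exact h
  haveI : FiniteDimensional K B := Module.finite_of_finrank_pos (by rw [hdim]; exact pow_pos Module.finrank_pos 2)
  obtain ⟨r, hr, D, _, _, _, _, ⟨e⟩⟩ := H29CSA.exists_divisionRing_matrix (k := K) B
  refine ((S13292.result K L σ hσ (Units.mk0 c hc) B hB).1).1 ⟨r, hr.out, ⟨?_⟩⟩
  have hbij : Function.Bijective (Algebra.ofId K D) :=
    ⟨(algebraMap K D).injective, fun d => by
      obtain ⟨a, ha⟩ := (finrank_eq_one_iff_of_nonzero' (1 : D) one_ne_zero).1 (hBr D) d
      exact ⟨a, (Algebra.algebraMap_eq_smul_one a).trans ha⟩⟩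
  exact (Algebra.TensorProduct.lid K B).trans (e.trans (AlgEquiv.ofBijective _ hbij).symm.mapMatrix)

/-- Surjective norms for the finite separable extensions give surjective norms above the field. -/
theorem normSurj_of_finite (k : Type u) [Field k] (p : ℕ) [Fact p.Prime]
    (hN : ∀ (K' : Type u) [Field K'] [Algebra k K'] [FiniteDimensional k K'] [Algebra.IsSeparable k K']
      (L' : Type u) [Field L'] [Algebra K' L'] [FiniteDimensional K' L'] [IsGalois K' L'],
      Module.finrank K' L' = p → ∀ x : K', x ≠ 0 → ∃ y : L', Algebra.norm K' y = x) :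
    S7732.NormSurj k p := by
  intro K _ _ _ L _ _ _ _ hL c hc
  classical
  have hp : p.Prime := Fact.out
  obtain ⟨α, hα⟩ := Field.exists_primitive_element K L
  have hint : IsIntegral K α := Algebra.IsIntegral.isIntegral α
  set f := minpoly K α with hf
  have hdeg : f.natDegree = p := by
    rw [hf, ← IntermediateField.adjoin.finrank hint, hα, IntermediateField.finrank_top', hL]
  -- express all conjugates of `α` as polynomials in `α`
  have hrep : ∀ r : L, ∃ q : Polynomial K, Polynomial.aeval α q = r := fun r => by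
    have hr : r ∈ Algebra.adjoin K ({α} : Set L) := by
      rw [← IntermediateField.adjoin_simple_toSubalgebra_of_isAlgebraic hint.isAlgebraic, hα]
      trivial
    rw [Algebra.adjoin_singleton_eq_range_aeval] at hr
    exact hr
  choose q hq using hrep
  let S : Finset K := insert c (f.coeffs ∪ (f.aroots L).toFinset.biUnion fun r => (q r).coeffs)
  let K₀ := IntermediateField.adjoin k (S : Set K)
  haveI : FiniteDimensional k K₀ :=
    IntermediateField.finiteDimensional_adjoin fun x _ => Algebra.IsIntegral.isIntegral x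
  haveI : IsScalarTower K₀ K L := inferInstance
  have hmem : ∀ x ∈ S, x ∈ K₀ := fun x hx => IntermediateField.subset_adjoin k _ hx
  have hlift : ∀ g : Polynomial K, (∀ x ∈ g.coeffs, x ∈ S) →
      ∃ g₀ : Polynomial K₀, g₀.map (algebraMap K₀ K) = g := fun g hg =>
    (Polynomial.mem_lifts g).1 ((Polynomial.lifts_iff_coeff_lifts g).2 fun n => by
      by_cases h0 : g.coeff n = 0
      · exact ⟨0, by rw [map_zero, h0]⟩
      · exact ⟨⟨g.coeff n, hmem _ (hg _ (Polynomial.coeff_mem_coeffs h0))⟩, rfl⟩)
  obtain ⟨f₀, hf₀⟩ := hlift f fun x hx => Finset.mem_insert_of_mem (Finset.mem_union_left _ hx)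
  have hf₀m : f₀.Monic := Polynomial.monic_of_injective (algebraMap K₀ K).injective (by rw [hf₀]; exact minpoly.monic hint)
  have hf₀α : Polynomial.aeval α f₀ = 0 := by
    rw [← Polynomial.aeval_map_algebraMap K, hf₀]; exact minpoly.aeval K α
  have hint₀ : IsIntegral K₀ α := ⟨f₀, hf₀m, hf₀α⟩
  have hirr : Irreducible f₀ := Polynomial.Monic.irreducible_of_irreducible_map (algebraMap K₀ K) f₀ hf₀m
    (by rw [hf₀]; exact minpoly.irreducible hint)
  have hmin : minpoly K₀ α = f₀ := (minpoly.eq_of_irreducible_of_monic hirr hf₀α hf₀m).symm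
  let L₀ := K₀⟮α⟯
  haveI : FiniteDimensional K₀ L₀ := IntermediateField.adjoin.finiteDimensional hint₀
  have hL₀ : Module.finrank K₀ L₀ = p := by
    rw [IntermediateField.adjoin.finrank hint₀, hmin, ← hdeg, ← hf₀, Polynomial.natDegree_map]
  let pb := IntermediateField.adjoin.powerBasis hint₀
  let g : L₀ := IntermediateField.AdjoinSimple.gen K₀ α
  have hsplit : ((f₀.map (algebraMap K₀ L₀))).Splits := by
    have h1 : (f.map (algebraMap K L)).Splits :=
      (inferInstance : Normal K L).splits α
    refine Polynomial.Splits.of_splits_map (algebraMap L₀ L) ?_ fun r hr => ?_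
    · rw [Polynomial.map_map, ← IsScalarTower.algebraMap_eq, IsScalarTower.algebraMap_eq K₀ K L,
        ← Polynomial.map_map, hf₀]
      exact h1
    · rw [Polynomial.map_map, ← IsScalarTower.algebraMap_eq, IsScalarTower.algebraMap_eq K₀ K L,
        ← Polynomial.map_map, hf₀] at hr
      obtain ⟨q₀, hq₀⟩ := hlift (q r) fun x hx => Finset.mem_insert_of_mem
        (Finset.mem_union_right _ (Finset.mem_biUnion.2 ⟨r, Multiset.mem_toFinset.2 hr, hx⟩))
      refine ⟨Polynomial.aeval g q₀, ?_⟩
      rw [← Polynomial.aeval_algebraMap_apply, show algebraMap L₀ L g = α from rfl,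
        ← Polynomial.aeval_map_algebraMap K, hq₀, hq r]
  have hsep : f₀.Separable := by
    rw [← Polynomial.separable_map (algebraMap K₀ K), hf₀]
    exact Algebra.IsSeparable.isSeparable K α
  haveI : IsGalois K₀ L₀ := by
    haveI : Polynomial.IsSplittingField K₀ L₀ f₀ := by
      refine ⟨hsplit, eq_top_iff.2 ?_⟩
      rw [← pb.adjoin_gen_eq_top]
      refine Algebra.adjoin_mono (Set.singleton_subset_iff.2 ((Polynomial.mem_rootSet').2 ⟨?_, ?_⟩))
      · exact (Polynomial.map_ne_zero_iff (algebraMap K₀ L₀).injective).2 hf₀m.ne_zero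
      · apply (algebraMap L₀ L).injective
        rw [← Polynomial.aeval_algebraMap_apply, map_zero]
        exact hf₀α
    exact IsGalois.of_separable_splitting_field hsep
  haveI : Algebra.IsSeparable k K₀ := Algebra.isSeparable_tower_bot_of_isSeparable k K₀ K
  obtain ⟨y, hy⟩ := hN K₀ L₀ hL₀ ⟨c, hmem c (Finset.mem_insert_self _ _)⟩ (fun h => hc (congrArg Subtype.val h))
  refine ⟨algebraMap L₀ L y, ?_⟩
  -- the powers of `α` form a basis both of `L₀` over `K₀` and of `L` over `K`
  let b₀ := pb.basis.reindex (finCongr (show pb.dim = p by rw [← pb.finrank, hL₀]))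
  have hb₀ : ∀ i : Fin p, algebraMap L₀ L (b₀ i) = α ^ (i : ℕ) := fun i => by
    have h1 : b₀ i = pb.gen ^ (i : ℕ) := by simp [b₀, pb.coe_basis]
    rw [h1, map_pow, IntermediateField.adjoin.powerBasis_gen]
    rfl
  let pbL := (IntermediateField.adjoin.powerBasis hint).map
    ((IntermediateField.equivOfEq hα).trans IntermediateField.topEquiv)
  let b := pbL.basis.reindex (finCongr (show pbL.dim = p by rw [← pbL.finrank, hL]))
  have hb : ∀ i : Fin p, b i = α ^ (i : ℕ) := fun i => by
    have h1 : b i = pbL.gen ^ (i : ℕ) := by simp [b, pbL.coe_basis]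
    rw [h1]
    rfl
  have hmat : Algebra.leftMulMatrix b (algebraMap L₀ L y) = (algebraMap K₀ K).mapMatrix (Algebra.leftMulMatrix b₀ y) := by
    ext i j
    rw [Algebra.leftMulMatrix_eq_repr_mul, RingHom.mapMatrix_apply, Matrix.map_apply, Algebra.leftMulMatrix_eq_repr_mul]
    have hsum : algebraMap L₀ L y * b j = ∑ s, algebraMap K₀ K (b₀.repr (y * b₀ j) s) • b s := by
      conv_lhs => rw [hb, ← hb₀, ← map_mul, ← b₀.sum_repr (y * b₀ j), map_sum]
      refine Finset.sum_congr rfl fun s _ => ?_
      rw [hb, ← hb₀, Algebra.smul_def, map_mul, Algebra.smul_def, ← IsScalarTower.algebraMap_apply,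
        ← IsScalarTower.algebraMap_apply]
    rw [hsum, b.repr_sum_self]
  rw [Algebra.norm_eq_matrix_det b, hmat, ← RingHom.map_det, ← Algebra.norm_eq_matrix_det, hy]
  rfl

/-- Trivial Brauer groups of all finite extensions give surjective norms above the field. -/
theorem normSurj (k : Type u) [Field k]
    (hBr : ∀ (K' : Type u) [Field K'] [Algebra k K'] [FiniteDimensional k K']
      (D : Type u) [DivisionRing D] [Algebra K' D] [Algebra.IsCentral K' D] [FiniteDimensional K' D],
      Module.finrank K' D = 1)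
    (p : ℕ) [Fact p.Prime] : S7732.NormSurj k p :=
  normSurj_of_finite k p fun K' _ _ _ _ L' _ _ _ _ hL' x hx => by
    obtain ⟨σ, hσ⟩ := S7732.powers_of_card ((IsGalois.card_aut_eq_finrank K' L').trans hL')
    exact exists_norm_eq K' (hBr K') L' σ
      (fun τ => Subgroup.mem_zpowers_iff.2 (let ⟨i, hi⟩ := hσ τ; ⟨(i : ℤ), by rw [zpow_natCast]; exact hi⟩)) x hx

end Groth.Agent.H05EGA4.EtCl.BrauerNorm
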