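import Groth.Agent.H05EGA4.EtCl.CdpShriek
import Groth.Agent.H18Et.Cons.Presentation
import Groth.Agent.S7733

/-!
# `cd_p ≤ dim + 1` in characteristic `p`
-/

set_option autoImplicit false
set_option linter.style.haveILetI false
set_option linter.unusedSectionVars false
set_option linter.overlappingInstances false
set_option backward.isDefEq.respectTransparency false
set_option backward.isDefEq.respectTransparency.types false

universe u

open CategoryTheory CategoryTheory.Limits AlgebraicGeometry Opposite Abelian TopologicalSpace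
open scoped Classical

namespace Groth.Agent.H05EGA4.EtCl

open scoped Groth.Agent.H18Et

/-- `cd_p ≤ 1` for fields in characteristic `p`. -/
theorem cohDimLEAt_field_charP (p : ℕ) [Fact p.Prime] (K : CommRingCat.{u}) (hK : IsField K)
    (hp : (p : K) = 0) : Dix.CohDimLEAt (Spec K) p 1 := by
  letI := hK.toField
  haveI : CharP K p := (CharP.charP_iff_prime_eq_zero (Fact.out : p.Prime)).2 hp
  intro F hF q hq
  refine subsingleton_of_forall_eq 0 fun x => ?_
  exact S7733.result K p F (Fields.isTorsion_of_primary (Fact.out : p.Prime).pos hF) q hq x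
    (Fields.exists_pow_nsmul_eq_zero K Fact.out hF (by omega) x)

section Bound

variable (p : ℕ) [Fact p.Prime] (X : Scheme.{u}) [AlgebraicGeometry.IsNoetherian X] (n : ℕ)
  (hn : topologicalKrullDim X ≤ n)

include hn

/-- The level of a point. -/
noncomputable def lev (x : X) : ℕ := Nat.find (p := fun m => Low m x) ⟨n + 1, low_of_dim n hn x⟩

theorem lev_spec (x : X) : Low (lev X n hn x) x := Nat.find_spec (p := fun m => Low m x) _

theorem lev_le {x : X} {m : ℕ} (h : Low m x) : lev X n hn x ≤ m := Nat.find_le h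

theorem one_le_lev (x : X) : 1 ≤ lev X n hn x := by
  rcases Nat.eq_zero_or_pos (lev X n hn x) with h | h
  · exact ((not_low_zero x) (h ▸ lev_spec X n hn x)).elim
  · exact h

theorem lev_lt {x y : X} (h : x ⤳ y) (hne : x ≠ y) : lev X n hn y + 1 ≤ lev X n hn x := by
  obtain ⟨m, hm⟩ : ∃ m, lev X n hn x = m + 1 := ⟨_, (Nat.sub_add_cancel (one_le_lev X n hn x)).symm⟩
  have h1 := lev_spec X n hn x
  rw [hm] at h1
  have := lev_le X n hn ((h1 y h).resolve_left (Ne.symm hne))
  omega

/-- A crude dimension function in characteristic `p`. -/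
noncomputable def charPCdFun (hp : (p : Γ(X, ⊤)) = 0) : CdFun X p where
  φ x := 2 * lev X n hn x - 1
  cd x := fun F hF q hq => cohDimLEAt_field_charP p (X.residueField x) (Field.toIsField _)
    (by rw [← map_natCast (X.evaluation ⊤ x trivial).hom p, hp, map_zero]) F hF q (by
      have := one_le_lev X n hn x
      omega)
  strict x y hxy hne R _ _ _ _ _ P hP := by
    haveI : P.IsPrime := hP.1.1
    have h1 := lev_lt X n hn hxy hne
    have h2 := one_le_lev X n hn y
    refine ⟨1, by omega, cohDimLEAt_field_charP p (CommRingCat.of (FractionRing (R ⧸ P))) (Field.toIsField _) ?_⟩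
    rw [← map_natCast (((algebraMap (R ⧸ P) (FractionRing (R ⧸ P))).comp (Ideal.Quotient.mk P)).comp
      ((algebraMap (X.presheaf.stalk y) R).comp (X.presheaf.germ ⊤ y trivial).hom)) p, hp, map_zero]

end Bound

variable {X : Scheme.{u}} [AlgebraicGeometry.IsNoetherian X] {p : ℕ}

theorem isPrimaryTorsion_of_killed (k : ℕ) (G : EtCoh.Ab X) (h : EtCoh.KilledBy (p ^ k) G) :
    Dix.IsPrimaryTorsion p G :=
  fun V s v => ⟨V, 𝟙 V, ⟨v, rfl⟩, k, h V _⟩

theorem killedBy_iff (m : ℕ) (G : EtCoh.Ab X) : EtCoh.KilledBy m G ↔ m • 𝟙 G = 0 := by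
  have key : ∀ (V : X.Etale) (s : EtCoh.sect G V), (m • 𝟙 G).hom.app (op V) s = m • s := fun V s => by
    induction m with
    | zero => rw [zero_smul, zero_smul]; rfl
    | succ k ih => rw [succ_nsmul, succ_nsmul, ← ih]; rfl
  refine ⟨fun h => Sheaf.hom_ext (NatTrans.ext (funext fun V => AddCommGrpCat.ext fun s => ?_)), fun h V s => ?_⟩
  · exact (key V.unop s).trans (h _ s)
  · rw [← key, h]; rfl

/-- Reduction to generators. -/
theorem subsingleton_H_of_gens (S : Set ℕ) (hS : ∀ m ∈ S, ∃ k, m = p ^ k) (F : EtCoh.Ab X) (q : ℕ)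
    (hloc : ∀ (V : X.Etale) (s : EtCoh.sect F V) (v : V.left),
      ∃ (W : X.Etale) (g : W ⟶ V) (w : W.left) (m : ℕ), g.left w = v ∧ m ∈ S ∧ m • F.obj.map g.op s = 0)
    (hgen : ∀ m ∈ S, ∀ U : X.Etale, IsAffine U.left → Subsingleton (EtCoh.H X (EtPBC.extZeroConst U (ZMod m)) q))
    (IH : ∀ G : EtCoh.Ab X, Dix.IsPrimaryTorsion p G → Subsingleton (EtCoh.H X G (q + 1))) :
    Subsingleton (EtCoh.H X F q) := by
  let ι : Type (u + 1) := Σ (U : {U : X.Etale // IsAffine U.left}) (m : {m : ℕ // m ∈ S}),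
    {s : EtCoh.sect F U.1 // m.1 • s = 0}
  choose ψ hψ using fun a : ι => H18Et.Cons.exists_hom_extZeroConst_killed a.2.1.1 a.2.2.1 a.2.2.2
  let G : ι → EtCoh.Ab X := fun a => EtPBC.extZeroConst a.1.1 (ZMod a.2.1.1)
  let φ : ∐ G ⟶ F := Sigma.desc ψ
  haveI : Epi φ := by
    refine Preadditive.epi_of_isZero_cokernel φ ((IsZero.iff_id_eq_zero _).2 ?_)
    rw [← cancel_epi (cokernel.π φ), comp_zero, Category.comp_id]
    refine Sheaf.hom_ext (NatTrans.ext (funext fun V => AddCommGrpCat.ext fun s => ?_))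
    refine (eq_zero_of_supp (s := (cokernel.π φ).hom.app V s) fun v => ?_).trans
      (show (0 : EtCoh.sect (cokernel φ) V.unop) = _ from rfl)
    obtain ⟨W, g, w, m, hw, hm, hs⟩ := hloc V.unop s v
    obtain ⟨O, hO, hwO, -⟩ := exists_isAffineOpen_mem_and_subset (U := (⊤ : W.left.Opens)) (x := w) trivial
    subst hw
    refine notMem_supp_of_map g w (notMem_supp_of_map (subι W O) (⟨w, hwO⟩ : (sub W O).left) ?_)
    have h0 : (cokernel.π φ).hom.app (op (sub W O)) (F.obj.map (subι W O).op (F.obj.map g.op s)) = 0 :=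
      hψ ⟨⟨sub W O, hO⟩, ⟨m, hm⟩, _, by rw [← map_nsmul, hs, map_zero]⟩ _ (cokernel.π φ) (by
        rw [← Sigma.ι_desc ψ _, Category.assoc]
        exact (congrArg (Sigma.ι G _ ≫ ·) (cokernel.condition φ)).trans comp_zero)
    rw [app_res, app_res] at h0
    show (⟨w, hwO⟩ : (sub W O).left) ∉ EtShriek.sectSupp _ (sub W O) _
    rw [h0]
    exact fun hmem => hmem _ (𝟙 _) ⟨_, rfl⟩ (map_zero _)
  have hsum : Subsingleton (EtCoh.H X (∐ G) q) :=
    subsingleton_H_coprod G q fun a => hgen _ a.2.1.2 a.1.1 a.1.2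
  have hG : Dix.IsPrimaryTorsion p (∐ G) := isPrimaryTorsion_sigma G fun a => by
    obtain ⟨k, hk⟩ := hS _ a.2.1.2
    refine isPrimaryTorsion_of_killed k _ ?_
    rw [← hk]
    exact (killedBy_iff _ _).2 (H18Et.Cons.nsmul_id_extZeroConst _ _)
  have hK := IH _ (isPrimaryTorsion_kernel φ hG)
  have hS' : (ShortComplex.mk (kernel.ι φ) φ (kernel.condition φ)).ShortExact :=
    { exact := ShortComplex.exact_kernel φ, mono_f := inferInstanceAs (Mono (kernel.ι φ)),
      epi_g := inferInstanceAs (Epi φ) }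
  refine subsingleton_of_forall_eq 0 fun x => ?_
  obtain ⟨y, hy⟩ := Ext.covariant_sequence_exact₃ _ hS' x (rfl : q + 1 = q + 1) (hK.elim _ _)
  rw [← hy, hsum.elim y 0, Ext.zero_comp]

/-- Dévissage by powers of `p`. -/
theorem subsingleton_H_killed (q : ℕ)
    (h1 : ∀ G : EtCoh.Ab X, EtCoh.KilledBy p G → Subsingleton (EtCoh.H X G q)) :
    ∀ (k : ℕ) (G : EtCoh.Ab X), EtCoh.KilledBy (p ^ k) G → Subsingleton (EtCoh.H X G q) := by
  intro k
  induction k with
  | zero =>
    intro G hG
    refine h1 G fun V s => ?_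
    have := hG V s
    rw [pow_zero, one_smul] at this
    rw [this, nsmul_zero]
  | succ k ih =>
    intro G hG
    let φ : G ⟶ G := p • 𝟙 G
    let g := Abelian.factorThruImage φ
    let i := Abelian.image.ι φ
    have hgi : g ≫ i = φ := Abelian.image.fac φ
    have hk : Subsingleton (EtCoh.H X (kernel φ) q) := h1 _ ((killedBy_iff _ _).2 (by
      rw [← cancel_mono (kernel.ι φ), zero_comp, Preadditive.nsmul_comp, Category.id_comp]
      refine Eq.trans ?_ (kernel.condition φ)
      rw [Preadditive.comp_nsmul, Category.comp_id]))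
    have hi : Subsingleton (EtCoh.H X (Abelian.image φ) q) := ih _ ((killedBy_iff _ _).2 (by
      rw [← cancel_mono i, zero_comp, ← cancel_epi g, comp_zero, Preadditive.nsmul_comp, Category.id_comp,
        Preadditive.comp_nsmul, hgi, ← mul_nsmul', mul_comm, ← pow_succ']
      first
        | exact (killedBy_iff _ _).1 hG
        | (show p ^ (k + 1) • 𝟙 G = 0; exact (killedBy_iff _ _).1 hG)))
    have w : kernel.ι φ ≫ g = 0 := by rw [← cancel_mono i, Category.assoc, hgi, kernel.condition, zero_comp]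
    have hS : (ShortComplex.mk (kernel.ι φ) g w).ShortExact := by
      letI S₁ : ShortComplex (EtCoh.Ab X) := ShortComplex.mk (kernel.ι φ) g w
      haveI : Mono S₁.f := inferInstanceAs (Mono (kernel.ι φ))
      haveI : Epi S₁.g := inferInstanceAs (Epi g)
      refine ⟨ShortComplex.exact_of_f_is_kernel _ (KernelFork.IsLimit.ofι _ _
        (fun x hx => kernel.lift φ x (by rw [← hgi, ← Category.assoc, hx, zero_comp]))
        (fun x hx => kernel.lift_ι _ _ _) (fun x hx l hl => ?_))⟩
      rw [← cancel_mono (kernel.ι φ), kernel.lift_ι]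
      exact hl
    refine subsingleton_of_forall_eq 0 fun x => ?_
    obtain ⟨y, hy⟩ := Ext.covariant_sequence_exact₂ _ hS x (hi.elim _ _)
    rw [← hy, hk.elim y 0, Ext.zero_comp]

/-- **`cd_p ≤ dim + 1` in characteristic `p`.** -/
theorem cohDimLEAt_charP [Fact p.Prime] (hp : (p : Γ(X, ⊤)) = 0) (n : ℕ) (hn : topologicalKrullDim X ≤ n) :
    Dix.CohDimLEAt X p (n + 1) := by
  suffices h : ∀ (j q : ℕ), n + 1 < q → 2 * n + 2 ≤ q + j → ∀ F : EtCoh.Ab X, Dix.IsPrimaryTorsion p F →
      Subsingleton (EtCoh.H X F q) from fun F hF q hq => h (2 * n + 2) q hq (by omega) F hF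
  intro j
  induction j with
  | zero =>
    intro q _ hq F hF
    refine subsingleton_H_of_cdFun (charPCdFun p X n hn hp) Fact.out F hF q fun x _ => ?_
    have := lev_le X n hn (low_of_dim n hn x)
    show 2 * lev X n hn x - 1 < q
    omega
  | succ j ih =>
    intro q hq hqj F hF
    have hIH : ∀ G : EtCoh.Ab X, Dix.IsPrimaryTorsion p G → Subsingleton (EtCoh.H X G (q + 1)) :=
      ih (q + 1) (by omega) (by omega)
    have h1 : ∀ G : EtCoh.Ab X, EtCoh.KilledBy p G → Subsingleton (EtCoh.H X G q) := fun G hG =>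
      subsingleton_H_of_gens {p} (fun m hm => ⟨1, by rw [pow_one]; exact hm⟩) G q
        (fun V s v => ⟨V, 𝟙 V, v, p, rfl, rfl, hG _ _⟩)
        (fun m hm U hU => by
          rw [show m = p from hm]
          exact subsingleton_H_extZeroConst p X hp n hn U q hq) hIH
    refine subsingleton_H_of_gens (Set.range (p ^ ·)) (fun m ⟨k, hk⟩ => ⟨k, hk.symm⟩) F q
      (fun V s v => ?_) (fun m hm U _ => ?_) hIH
    · obtain ⟨W, g, ⟨w, hw⟩, k, hk⟩ := hF V s v
      exact ⟨W, g, w, p ^ k, hw, ⟨k, rfl⟩, hk⟩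
    · obtain ⟨k, rfl⟩ := hm
      exact subsingleton_H_killed q h1 k _
        ((killedBy_iff _ _).2 (H18Et.Cons.nsmul_id_extZeroConst _ _))

end Groth.Agent.H05EGA4.EtCl
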