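import Groth.Agent.H05EGA4.EtCl.StrictFibre
import Groth.Agent.H05EGA4.EtCl.Fields

/-!
# Cohomology of schemes of finitely many closed points
-/

set_option autoImplicit false
set_option linter.style.haveILetI false
set_option linter.unusedSectionVars false
set_option linter.overlappingInstances false
set_option backward.isDefEq.respectTransparency false
set_option backward.isDefEq.respectTransparency.types false

universe u

open CategoryTheory CategoryTheory.Limits AlgebraicGeometry Opposite Abelian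
open scoped Classical

namespace Groth.Agent.H05EGA4.EtCl

open scoped Groth.Agent.H18Et

variable {Z : Scheme.{u}} [AlgebraicGeometry.IsNoetherian Z] {ℓ : ℕ}

theorem nonempty_H_skyPush_closed (z : Z) (hz : IsClosed ({z} : Set Z)) (G : EtCoh.Ab (Spec (Z.residueField z)))
    (n : ℕ) : Nonempty (EtCoh.H Z ((Dix.skyPush Z z).obj G) n ≃+ EtCoh.H (Spec (Z.residueField z)) G n) := by
  haveI : IsClosedImmersion (Z.fromSpecResidueField z) :=
    .of_isPreimmersion _ (by rw [Scheme.range_fromSpecResidueField]; exact hz)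
  obtain ⟨i⟩ := Groth.Agent.H15Site.IntDesc.nonempty_H_push (Z.fromSpecResidueField z) G n
  exact ⟨i.addCommGroupIsoToAddEquiv⟩

/-- Finitely many points of bounded cohomological dimension have bounded cohomological dimension. -/
theorem subsingleton_H_points (hcl : ∀ z : Z, IsClosed ({z} : Set Z)) (d : ℕ)
    (hd : ∀ z : Z, Dix.CohDimLEAt (Spec (Z.residueField z)) ℓ d) (A : EtCoh.Ab Z)
    (hA : Dix.IsPrimaryTorsion ℓ A) (k : ℕ) (hk : d < k) : Subsingleton (EtCoh.H Z A k) := by
  obtain ⟨e⟩ := nonempty_iso_coprod_closed A fun V s v _ => hcl _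
  haveI : Subsingleton (EtCoh.H Z (∐ fun j : ULift.{u + 1} {x : Z // IsClosed ({x} : Set Z)} => compObj A j) k) :=
    subsingleton_H_coprod _ _ fun j => by
      obtain ⟨i⟩ := nonempty_H_skyPush_closed j.down.1 j.down.2 ((EtCoh.pull (Z.fromSpecResidueField j.down.1)).obj A) k
      haveI := hd j.down.1 _ (isPrimaryTorsion_pull (Z.fromSpecResidueField j.down.1) hA) k hk
      exact i.injective.subsingleton
  exact Function.Injective.subsingleton (β := EtCoh.H Z _ k)
    ((Sheaf.functorH _ k).mapIso e).addCommGroupIsoToAddEquiv.injective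

/-- Positive degree classes of primary sheaves on finitely many points are primary. -/
theorem exists_pow_nsmul_H_points (hcl : ∀ z : Z, IsClosed ({z} : Set Z)) (hℓ : ℓ.Prime) (A : EtCoh.Ab Z)
    (hA : Dix.IsPrimaryTorsion ℓ A) (k : ℕ) (hk : 0 < k) (x : EtCoh.H Z A k) : ∃ m : ℕ, ℓ ^ m • x = 0 := by
  obtain ⟨e⟩ := nonempty_iso_coprod_closed A fun V s v _ => hcl _
  let ee := ((Sheaf.functorH _ k).mapIso e).addCommGroupIsoToAddEquiv
  obtain ⟨S, y, hy⟩ := H_sum_surj (fun j : ULift.{u + 1} {x : Z // IsClosed ({x} : Set Z)} => compObj A j) k (ee x)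
  have h1 : ∀ j : ULift.{u + 1} {x : Z // IsClosed ({x} : Set Z)}, ∃ m : ℕ, ℓ ^ m • y j = 0 := fun j => by
    obtain ⟨i⟩ := nonempty_H_skyPush_closed j.down.1 j.down.2 ((EtCoh.pull (Z.fromSpecResidueField j.down.1)).obj A) k
    obtain ⟨m, hm⟩ := Fields.exists_pow_nsmul_eq_zero (Z.residueField j.down.1) hℓ
      (isPrimaryTorsion_pull (Z.fromSpecResidueField j.down.1) hA) hk (i (y j))
    exact ⟨m, i.injective (by rw [map_nsmul, hm, map_zero])⟩
  choose m hm using h1
  refine ⟨S.sup m, ee.injective ?_⟩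
  rw [map_nsmul, map_zero, hy, Finset.smul_sum]
  refine Finset.sum_eq_zero fun j hj => ?_
  obtain ⟨r, hr⟩ := Nat.exists_eq_add_of_le (Finset.le_sup (f := m) hj)
  refine (map_nsmul (Sheaf.H.map (Sigma.ι (fun j => compObj A j) j) k) (ℓ ^ S.sup m) (y j)).symm.trans ?_
  rw [hr, pow_add, mul_comm, mul_nsmul', hm, nsmul_zero, map_zero]

variable {X : Scheme.{u}} {x y : X}

/-- The residue fields of the fibre are the fraction fields at the minimal primes. -/
theorem cohDimLEAt_strictFibre (R : Type u) [CommRing R] [IsLocalRing R]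
    [Algebra (X.presheaf.stalk y) R] [IsLocalHom (algebraMap (X.presheaf.stalk y) R)]
    (z : ↥(pullback (X.fromSpecResidueField x) (Hens2.specOf X y R))) {d : ℕ}
    (h : Dix.CohDimLEAt (Spec (CommRingCat.of (FractionRing
      (R ⧸ ((pullback.snd (X.fromSpecResidueField x) (Hens2.specOf X y R)) z).asIdeal)))) ℓ d) :
    Dix.CohDimLEAt (Spec ((pullback (X.fromSpecResidueField x) (Hens2.specOf X y R)).residueField z)) ℓ d := by
  let g := pullback.snd (X.fromSpecResidueField x) (Hens2.specOf X y R)
  let P := g z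
  let e₁ : CommRingCat.of P.asIdeal.ResidueField ≅ ((pullback (X.fromSpecResidueField x) (Hens2.specOf X y R)).residueField z) :=
    (Scheme.Spec.residueFieldIso (CommRingCat.of R) P).symm ≪≫
      (RingEquiv.ofBijective (g.residueFieldMap z).hom (bijective_residueFieldMap g z)).toCommRingCatIso
  let e₂ : FractionRing (R ⧸ P.asIdeal) ≃+* P.asIdeal.ResidueField :=
    (IsLocalization.algEquiv (nonZeroDivisors (R ⧸ P.asIdeal)) _ _).toRingEquiv
  let e := e₂.toCommRingCatIso ≪≫ e₁
  exact cohDimLEAt_of_iso (Spec.map e.hom) h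

end Groth.Agent.H05EGA4.EtCl
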