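import Groth.Agent.H05EGA4.EtCl.Cosyz
import Groth.Agent.H05EGA4.EtCl.PointsCd
import Groth.Agent.H18Et.Cons.Presentation
import Groth.Agent.H9Hens.StrictHens

/-!
# Cohomological dimension bounded by a dimension function
-/

set_option autoImplicit false
set_option linter.style.haveILetI false
set_option linter.unusedSectionVars false
set_option linter.overlappingInstances false
set_option backward.isDefEq.respectTransparency false
set_option backward.isDefEq.respectTransparency.types false

universe u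

open CategoryTheory CategoryTheory.Limits AlgebraicGeometry Opposite Abelian
open scoped Classical

namespace Groth.Agent.H05EGA4.EtCl

open scoped Groth.Agent.H18Et

theorem exists_strictHens (A : Type u) [CommRing A] [IsLocalRing A] :
    ∃ (R : Type u) (_ : CommRing R) (_ : IsLocalRing R) (_ : Algebra A R) (_ : IsLocalHom (algebraMap A R))
      (_ : Hensel.IsStrictHenselization A R), IsSepClosed (IsLocalRing.ResidueField R) := by
  obtain ⟨k, _, _, _, _, _, R, _, _, _, _, π, -, h⟩ := H9Hens.exists_isStrictHenselization_colim (R := A)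
  exact ⟨R, _, ‹_›, _, ‹_›, h, (h.isSepClosure).1⟩

/-- A dimension function for `ℓ`. -/
structure CdFun (X : Scheme.{u}) (ℓ : ℕ) where
  /-- The function. -/
  φ : X → ℕ
  cd : ∀ x : X, Dix.CohDimLEAt (Spec (X.residueField x)) ℓ (φ x)
  strict : ∀ (x y : X) (hxy : x ⤳ y), x ≠ y →
    ∀ (R : Type u) [CommRing R] [IsLocalRing R] [Algebra (X.presheaf.stalk y) R]
    [IsLocalHom (algebraMap (X.presheaf.stalk y) R)] [Hensel.IsStrictHenselization (X.presheaf.stalk y) R],
    ∀ P ∈ ((RingHom.ker (Cyc.specMap y x hxy)).map (algebraMap (X.presheaf.stalk y) R)).minimalPrimes,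
      ∃ d : ℕ, d + 1 + φ y ≤ φ x ∧ Dix.CohDimLEAt (Spec (CommRingCat.of (FractionRing (R ⧸ P)))) ℓ d

variable {X : Scheme.{u}} [AlgebraicGeometry.IsNoetherian X] {ℓ : ℕ}

theorem CdFun.lt (D : CdFun X ℓ) {x y : X} (h : x ⤳ y) (hne : x ≠ y) : D.φ y < D.φ x := by
  obtain ⟨R, _, _, _, _, _, _⟩ := exists_strictHens (X.presheaf.stalk y)
  have hne' : (RingHom.ker (Cyc.specMap y x h)).map (algebraMap (X.presheaf.stalk y) R) ≠ ⊤ := by
    haveI := RingHom.ker_isPrime (Cyc.specMap y x h)
    refine ne_top_of_le_ne_top (IsLocalRing.maximalIdeal.isMaximal R).ne_top ?_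
    refine Ideal.map_le_iff_le_comap.2 ((IsLocalRing.le_maximalIdeal (Ideal.IsPrime.ne_top inferInstance)).trans ?_)
    exact fun a ha hu => ha (isUnit_of_map_unit _ a hu)
  obtain ⟨P, hP, -⟩ := Ideal.exists_minimalPrimes_le
    (IsLocalRing.le_maximalIdeal hne')
  obtain ⟨d, hd, -⟩ := D.strict x y h hne R P hP
  omega

theorem cd_fibre (D : CdFun X ℓ) (hℓ : ℓ.Prime) {x y : X} (h : x ⤳ y) (R : Type u) [CommRing R] [IsLocalRing R]
    [Algebra (X.presheaf.stalk y) R] [IsLocalHom (algebraMap (X.presheaf.stalk y) R)]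
    [Hensel.IsStrictHenselization (X.presheaf.stalk y) R] [IsSepClosed (IsLocalRing.ResidueField R)]
    (z : ↥(pullback (X.fromSpecResidueField x) (Hens2.specOf X y R))) :
    Dix.CohDimLEAt (Spec ((pullback (X.fromSpecResidueField x) (Hens2.specOf X y R)).residueField z)) ℓ
      (D.φ x - D.φ y - 1) := by
  obtain ⟨-, hz⟩ := strictFibre_props h R
  refine cohDimLEAt_strictFibre R z ?_
  by_cases hxy : x = y
  · subst hxy
    let g := pullback.snd (X.fromSpecResidueField x) (Hens2.specOf X x R)
    obtain ⟨z₀, -, hz₀⟩ := Scheme.Pullback.exists_preimage_pullback (f := X.fromSpecResidueField x)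
      (g := Hens2.specOf X x R) (IsLocalRing.closedPoint (X.residueField x)) (IsLocalRing.closedPoint R)
      ((X.fromSpecResidueField_apply x _).trans (H15Site.SpecArrows.specOf_closedPoint (X := X) (x' := x) (R' := R)).symm)
    have hmax : (g z).asIdeal = IsLocalRing.maximalIdeal R := by
      have h0 := (hz z₀).2
      rw [hz₀] at h0
      exact le_antisymm (IsLocalRing.le_maximalIdeal (g z).isPrime.ne_top)
        (h0.2 ⟨(g z).isPrime, (hz z).2.1.2⟩ (IsLocalRing.le_maximalIdeal (g z).isPrime.ne_top))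
    let e₁ : FractionRing (R ⧸ (g z).asIdeal) ≃+* IsLocalRing.ResidueField R := by
      haveI : (g z).asIdeal.IsMaximal := hmax ▸ IsLocalRing.maximalIdeal.isMaximal R
      letI := Ideal.Quotient.field (g z).asIdeal
      exact (IsLocalization.atUnits (R ⧸ (g z).asIdeal) (nonZeroDivisors (R ⧸ (g z).asIdeal))
        (S := FractionRing (R ⧸ (g z).asIdeal)) fun a ha => (nonZeroDivisors.ne_zero ha).isUnit).toRingEquiv.symm.trans
          (Ideal.quotEquivOfEq hmax)
    refine cohDimLEAt_of_iso (Spec.map e₁.toCommRingCatIso.inv) ?_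
    intro F _ q hq
    obtain ⟨i, rfl⟩ := Nat.exists_eq_add_of_le' (Nat.one_le_of_lt hq)
    exact subsingleton_H_over_sepClosed (IsLocalRing.ResidueField R) (IsLocalRing.ResidueField R) F i
  · obtain ⟨d, hd, hcd⟩ := D.strict x y h hxy R _ (hz z).2
    exact fun F hF q hq => hcd F hF q (by omega)

theorem hensGeomPt_base (y : X) (R : Type u) [CommRing R] [IsLocalRing R] [Algebra (X.presheaf.stalk y) R]
    [IsLocalHom (algebraMap (X.presheaf.stalk y) R)] : (Hens2.geomPt X y R).base default = y := by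
  refine (Scheme.Hom.comp_apply _ _ _).trans ?_
  refine Eq.trans (congrArg (Hens2.specOf X y R) ?_) H15Site.SpecArrows.specOf_closedPoint
  haveI : Subsingleton ↥(Spec (CommRingCat.of (IsLocalRing.ResidueField R))) :=
    inferInstanceAs (Subsingleton (PrimeSpectrum (IsLocalRing.ResidueField R)))
  exact (congrArg (Spec.map (CommRingCat.ofHom (IsLocalRing.residue R)))
    (Subsingleton.elim _ (IsLocalRing.closedPoint (IsLocalRing.ResidueField R)))).trans
      (IsLocalRing.comap_closedPoint (IsLocalRing.residue R))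

theorem subsingleton_H_cz {Y : Scheme.{u}} : ∀ (j : ℕ) (G : EtCoh.Ab Y) (k : ℕ),
    Subsingleton (EtCoh.H Y G (k + j + 1)) → Subsingleton (EtCoh.H Y (cz j G) (k + 1))
  | 0, _, _, h => h
  | j + 1, G, k, h => subsingleton_H_cz j (cokernel (Injective.ι G)) k <| subsingleton_of_forall_eq 0 fun z => by
    obtain ⟨b, hb⟩ := Ext.covariant_sequence_exact₃ _ (shortExact_cz G) z (rfl : k + j + 1 + 1 = k + (j + 1) + 1)
      (h.elim _ _)
    rw [← hb, Ext.eq_zero_of_injective b, Ext.zero_comp]

theorem cz_succ {Y : Scheme.{u}} : ∀ (j : ℕ) (G : EtCoh.Ab Y), cz (j + 1) G = cokernel (Injective.ι (cz j G))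
  | 0, _ => rfl
  | j + 1, G => cz_succ j (cokernel (Injective.ι G))

theorem notMem_supp_rOne_of_not_specializes (x : X) {G : EtCoh.Ab (Spec (X.residueField x))} {y : X} (h : ¬ x ⤳ y) :
    y ∉ EtPBC.supp (rOne (X.fromSpecResidueField x) G) := by
  intro hy
  obtain ⟨V, v, s, hv, hs⟩ := (H18Et.mem_supp_iff _ y (H18Et.geomPt y) (H18Et.geomPt_base y)).1 hy
  let π := cokernel.π ((EtCoh.push (X.fromSpecResidueField x)).map (cokernel.π (Injective.ι G)))
  haveI : Sheaf.IsLocallySurjective π := (Sheaf.isLocallySurjective_iff_epi' _ π).2 inferInstance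
  obtain ⟨V₁, g₁, v₁, ⟨b, hb⟩, rfl⟩ := H18Et.Subterminal.exists_mem_of_cover (Presheaf.imageSieve_mem _ π.hom s) v
  obtain ⟨O, hvO, hO⟩ := exists_avoid V₁ v₁ ({()} : Finset Unit) (fun _ => x)
    fun _ _ hsp => h (hv ▸ (hom_left g₁ v₁).symm ▸ hsp)
  refine notMem_supp_of_map g₁ v₁ (notMem_supp_of_map (subι V₁ O) (⟨v₁, hvO⟩ : (sub V₁ O).left) ?_) hs
  have hb' : (rOne (X.fromSpecResidueField x) G).obj.map g₁.op s = π.hom.app (op V₁) b := hb.symm
  have h0 : ((EtCoh.push (X.fromSpecResidueField x)).obj (cokernel (Injective.ι G))).obj.map (subι V₁ O).op b = 0 :=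
    res_skyPush_eq_zero (x := x) (cokernel (Injective.ι G)) (sub V₁ O) (fun w => hO () (Finset.mem_singleton_self _) w) _
  show (⟨v₁, hvO⟩ : (sub V₁ O).left) ∉ EtShriek.sectSupp _ (sub V₁ O)
    ((rOne (X.fromSpecResidueField x) G).obj.map (subι V₁ O).op ((rOne (X.fromSpecResidueField x) G).obj.map g₁.op s))
  rw [hb', ← app_res π (subι V₁ O) b, h0, map_zero]
  exact fun hm => hm _ (𝟙 _) ⟨_, rfl⟩ (map_zero _)

section Point

variable (D : CdFun X ℓ) (hℓ : ℓ.Prime) (x : X) (G : EtCoh.Ab (Spec (X.residueField x)))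
  (hG : Dix.IsPrimaryTorsion ℓ G) (j : ℕ)

include D hℓ hG

/-- The support of the higher direct images from `x`. -/
theorem le_of_mem_supp_rOne (y : X) (hy : y ∈ EtPBC.supp (rOne (X.fromSpecResidueField x) (cz j G))) :
    D.φ y + j + 2 ≤ D.φ x := by
  have hxy : x ⤳ y := by
    by_contra h
    exact notMem_supp_rOne_of_not_specializes x h hy
  obtain ⟨R, _, _, _, _, _, _⟩ := exists_strictHens (X.presheaf.stalk y)
  by_contra hle
  refine notMem_supp_of_stalk (rOne (X.fromSpecResidueField x) (cz j G)) (Hens2.geomPt X y R)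
    (subsingleton_of_forall_eq 0 fun p => ?_) ?_
  · obtain ⟨w, hw⟩ := exists_H_of_stalk (X.fromSpecResidueField x) y R j G p
    obtain ⟨hN, hz⟩ := strictFibre_props hxy R
    haveI := hN
    haveI := subsingleton_H_points (fun z => (hz z).1) _ (cd_fibre D hℓ hxy R)
      _ (isPrimaryTorsion_pull (pullback.fst (X.fromSpecResidueField x) (Hens2.specOf X y R)) hG) (j + 1) (by omega)
    have := hw 1 (Subsingleton.elim _ _)
    rwa [one_smul] at this
  · rw [hensGeomPt_base]
    exact hy

theorem isPrimaryTorsion_rOne : Dix.IsPrimaryTorsion ℓ (rOne (X.fromSpecResidueField x) (cz j G)) := by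
  refine isPrimaryTorsion_of_supp_stalk _ fun y => ?_
  by_cases hy : y ∈ EtPBC.supp (rOne (X.fromSpecResidueField x) (cz j G))
  swap
  · refine ⟨_, inferInstance, inferInstance, H18Et.geomPt y, H18Et.geomPt_base y, fun p => ⟨0, ?_⟩⟩
    haveI := H18Et.Cons.subsingleton_stalk_of_notMem_supp _ (H18Et.geomPt y) (by rwa [H18Et.geomPt_base])
    exact Subsingleton.elim _ _
  have hxy : x ⤳ y := by
    by_contra h
    exact notMem_supp_rOne_of_not_specializes x h hy
  obtain ⟨R, _, _, _, _, _, _⟩ := exists_strictHens (X.presheaf.stalk y)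
  refine ⟨_, inferInstance, inferInstance, Hens2.geomPt X y R, ?_, fun p => ?_⟩
  · exact hensGeomPt_base y R
  · obtain ⟨w, hw⟩ := exists_H_of_stalk (X.fromSpecResidueField x) y R j G p
    obtain ⟨hN, hz⟩ := strictFibre_props hxy R
    haveI := hN
    obtain ⟨m, hm⟩ := exists_pow_nsmul_H_points (fun z => (hz z).1) hℓ _
      (isPrimaryTorsion_pull (pullback.fst (X.fromSpecResidueField x) (Hens2.specOf X y R)) hG) (j + 1) j.succ_pos w
    exact ⟨m, hw _ hm⟩

/-- Direct images from a point, given the bound for smaller values of the function. -/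
theorem subsingleton_H_skyPush_cz
    (IH : ∀ (A : EtCoh.Ab X) (q : ℕ), Dix.IsPrimaryTorsion ℓ A →
      (∀ y ∈ EtPBC.supp A, D.φ y < q ∧ D.φ y < D.φ x) → Subsingleton (EtCoh.H X A q)) :
    ∀ (q j : ℕ), D.φ x < q + 1 + j →
      Subsingleton (EtCoh.H X ((EtCoh.push (X.fromSpecResidueField x)).obj (cz j G)) (q + 1)) := by
  intro q
  haveI := H18Et.pull_preservesFiniteLimits (X.fromSpecResidueField x)
  induction q with
  | zero =>
    intro j hj
    haveI := subsingleton_H_cz j G 0 (D.cd x G hG _ (by omega))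
    refine subsingleton_of_forall_eq 0 fun ξ => ?_
    obtain ⟨m, rfl, hm⟩ := EtTors.exists_nsmul_H_push_one (X.fromSpecResidueField x) (cz j G) (· = 1)
      (fun y => ⟨1, rfl, by rw [one_smul]; exact Subsingleton.elim _ _⟩) ξ
    rwa [one_smul] at hm
  | succ q ih =>
    intro j hj
    let f := X.fromSpecResidueField x
    haveI := EtTors.preservesFiniteLimits_push f
    let G' := cz j G
    let ι := Injective.ι G'
    have hS : (ShortComplex.mk ((EtCoh.push f).map ι) (cokernel.π _) (cokernel.condition _)).ShortExact :=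
      { exact := ShortComplex.exact_cokernel _, mono_f := inferInstanceAs (Mono ((EtCoh.push f).map ι)),
        epi_g := inferInstanceAs (Epi (cokernel.π _)) }
    let κ := cokernel.desc ((EtCoh.push f).map ι) ((EtCoh.push f).map (cokernel.π ι))
      (by rw [← Functor.map_comp, cokernel.condition, Functor.map_zero])
    haveI : Mono κ := EtTors.mono_desc_push f G'
    haveI := EtTors.injective_push f (Injective.under G')
    have hK : (ShortComplex.mk κ (cokernel.π κ) (cokernel.condition _)).ShortExact :=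
      { exact := ShortComplex.exact_cokernel _, mono_f := inferInstanceAs (Mono κ),
        epi_g := inferInstanceAs (Epi (cokernel.π κ)) }
    let e : cokernel κ ≅ rOne f G' :=
      (cokernelEpiComp (cokernel.π ((EtCoh.push f).map ι)) κ).symm ≪≫ cokernelIsoOfEq (cokernel.π_desc _ _ _)
    have hR : Subsingleton (EtCoh.H X (rOne f G') q) := IH _ q (isPrimaryTorsion_rOne D hℓ x G hG j) fun y hy => by
      have := le_of_mem_supp_rOne D hℓ x G hG j y hy
      constructor <;> omega
    have hC : Subsingleton (EtCoh.H X (cokernel κ) q) :=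
      Function.Injective.subsingleton (β := EtCoh.H X (rOne f G') q)
        ((Sheaf.functorH _ q).mapIso e).addCommGroupIsoToAddEquiv.injective
    have h1 := ih (j + 1) (by omega)
    rw [cz_succ] at h1
    refine subsingleton_of_forall_eq 0 fun ξ => ?_
    obtain ⟨a, ha⟩ := Ext.covariant_sequence_exact₁ _ hS ξ (Ext.eq_zero_of_injective _) (rfl : (q + 1) + 1 = q + 1 + 1)
    obtain ⟨b, hb⟩ := Ext.covariant_sequence_exact₁ _ hK a (h1.elim _ _) (rfl : q + 1 = q + 1)
    rw [← ha, ← hb, hC.elim b 0, Ext.zero_comp, Ext.zero_comp]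

end Point

variable (D : CdFun X ℓ)

include D

/-- Cohomology of primary sheaves vanishes above a dimension function on the support. -/
theorem subsingleton_H_cdFun (hℓ : ℓ.Prime) : ∀ (m : ℕ) (F : EtCoh.Ab X), Dix.IsPrimaryTorsion ℓ F →
    (∀ (V : X.Etale) (s : EtCoh.sect F V) (v : V.left), v ∈ EtShriek.sectSupp F V s → D.φ (V.hom v) < m) →
    ∀ q, m ≤ q → Subsingleton (EtCoh.H X F q) := by
  intro m
  induction m using Nat.strong_induction_on with
  | _ m IHm =>
  intro F hF hsupp q hq
  cases m with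
  | zero =>
    have hz : IsZero F := by
      rw [IsZero.iff_id_eq_zero]
      refine Sheaf.hom_ext (NatTrans.ext (funext fun V => AddCommGrpCat.ext fun s => ?_))
      rw [eq_zero_of_supp (s := s) fun v hv => Nat.not_lt_zero _ (hsupp V.unop s v hv), map_zero, map_zero]
    refine subsingleton_of_forall_eq 0 fun ξ => ?_
    rw [← Ext.comp_mk₀_id ξ, (IsZero.iff_id_eq_zero F).1 hz, Ext.mk₀_zero, Ext.comp_zero]
  | succ m =>
    obtain ⟨r, rfl⟩ := Nat.exists_eq_add_of_le' (le_trans (Nat.le_add_left 1 m) hq)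
    let σ : Strat X :=
      { lo := fun y => D.φ y < m
        hi := fun y => D.φ y < m + 1
        eq_of := fun {a b} ha hb h => by
          by_contra hne
          have := D.lt h (Ne.symm hne)
          omega }
    obtain ⟨φ, hφ⟩ := exists_layerMap F σ hsupp
    have hG : Dix.IsPrimaryTorsion ℓ (∐ layerObj F σ) := isPrimaryTorsion_sigma _ fun k =>
      isPrimaryTorsion_skyPush k.down.1 _ (isPrimaryTorsion_pull _ hF)
    have hK : Subsingleton (EtCoh.H X (kernel φ) (r + 1)) := IHm m (Nat.lt_succ_self m) _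
      (isPrimaryTorsion_kernel φ hF) (low_of_mem_supp_kernel φ hφ hsupp) _ (by omega)
    have hC : Subsingleton (EtCoh.H X (cokernel φ) r) := IHm m (Nat.lt_succ_self m) _
      (isPrimaryTorsion_cokernel φ hG) (low_of_mem_supp_cokernel φ hφ hsupp) _ (by omega)
    have hS : Subsingleton (EtCoh.H X (∐ layerObj F σ) (r + 1)) := subsingleton_H_coprod (G := layerObj F σ) _
      fun k => by
        have h1 : D.φ k.down.1 < m + 1 := k.down.2.1
        refine subsingleton_H_skyPush_cz D hℓ k.down.1 _ (isPrimaryTorsion_pull _ hF) (fun A p hA hAs => ?_) r 0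
          (by omega)
        refine IHm (min p (D.φ k.down.1)) (by omega) A hA (fun V s v hv => ?_) p (min_le_left _ _)
        have hmem : V.hom v ∈ EtPBC.supp A :=
          (H18Et.mem_supp_iff A _ (H18Et.geomPt (V.hom v)) (H18Et.geomPt_base _)).2 ⟨V, v, s, rfl, hv⟩
        exact lt_min (hAs _ hmem).1 (hAs _ hmem).2
    let g := Abelian.factorThruImage φ
    let i := Abelian.image.ι φ
    have hgm : g ≫ i = φ := Abelian.image.fac φ
    have hS₁ : (ShortComplex.mk (kernel.ι φ) g (by
        rw [← cancel_mono i, Category.assoc, hgm, kernel.condition, zero_comp])).ShortExact := by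
      letI S₁ : ShortComplex (EtCoh.Ab X) := ShortComplex.mk (kernel.ι φ) g (by
        rw [← cancel_mono i, Category.assoc, hgm, kernel.condition, zero_comp])
      haveI : Mono S₁.f := inferInstanceAs (Mono (kernel.ι φ))
      haveI : Epi S₁.g := inferInstanceAs (Epi g)
      refine ⟨ShortComplex.exact_of_f_is_kernel _ (KernelFork.IsLimit.ofι _ _
        (fun x hx => kernel.lift φ x (by rw [← hgm, ← Category.assoc, hx, zero_comp]))
        (fun x hx => kernel.lift_ι _ _ _) (fun x hx l hl => ?_))⟩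
      rw [← cancel_mono (kernel.ι φ), kernel.lift_ι]
      exact hl
    have hS₂ : (ShortComplex.mk i (cokernel.π φ) (by
        rw [← cancel_epi g, ← Category.assoc, hgm, cokernel.condition, comp_zero])).ShortExact :=
      { exact := ShortComplex.exact_kernel (cokernel.π φ), mono_f := inferInstanceAs (Mono i),
        epi_g := inferInstanceAs (Epi (cokernel.π φ)) }
    refine subsingleton_of_forall_eq 0 fun ξ => ?_
    have h1 : ξ.comp (Ext.mk₀ g) (add_zero (r + 1)) = 0 := by
      obtain ⟨z, hz⟩ := Ext.covariant_sequence_exact₁ _ hS₂ (ξ.comp (Ext.mk₀ g) (add_zero (r + 1)))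
        (hS.elim _ _) (rfl : r + 1 = r + 1)
      rw [← hz, hC.elim z 0, Ext.zero_comp]
    obtain ⟨z, hz⟩ := Ext.covariant_sequence_exact₂ _ hS₁ ξ h1
    rw [← hz, hK.elim z 0, Ext.zero_comp]

/-- The bound for a sheaf. -/
theorem subsingleton_H_of_cdFun (hℓ : ℓ.Prime) (F : EtCoh.Ab X) (hF : Dix.IsPrimaryTorsion ℓ F) (q : ℕ)
    (hq : ∀ y ∈ EtPBC.supp F, D.φ y < q) : Subsingleton (EtCoh.H X F q) :=
  subsingleton_H_cdFun D hℓ q F hF (fun V s v hv => hq _
    ((H18Et.mem_supp_iff F _ (H18Et.geomPt (V.hom v)) (H18Et.geomPt_base _)).2 ⟨V, v, s, rfl, hv⟩)) q le_rfl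

end Groth.Agent.H05EGA4.EtCl
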