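import Groth.Agent.S0207
import Groth.Agent.S0654
import Groth.Agent.S1477
import Groth.Agent.H05EGA4.EtCl.DimFun
import Groth.Agent.H18Et.Cons.ExtZeroConst
import Groth.Agent.H18Et.PropAB
import Groth.Agent.H18Et.EtaleRestrict
import Groth.Agent.H15Site.Shriek.EtaleIso
import Groth.Agent.H15Site.Shriek.Comp
import Groth.Agent.H12AlgSp.LqfDim

/-!
# Cohomology of `f_! (ℤ/p)` for `f` etale in characteristic `p`
-/

set_option autoImplicit false
set_option linter.style.haveILetI false
set_option linter.unusedSectionVars false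
set_option linter.overlappingInstances false
set_option backward.isDefEq.respectTransparency false
set_option backward.isDefEq.respectTransparency.types false

universe u

open CategoryTheory CategoryTheory.Limits AlgebraicGeometry Opposite Abelian TopologicalSpace
open scoped Classical

namespace Groth.Agent.H05EGA4.EtCl

open scoped Groth.Agent.H18Et

/-- A dimension in `[0, n]` is a natural number. -/
theorem exists_dim_eq {α : Type*} [TopologicalSpace α] [Nonempty α] (n : ℕ) (h : topologicalKrullDim α ≤ n) :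
    ∃ d : ℕ, topologicalKrullDim α = d ∧ d ≤ n := by
  haveI : Nonempty (IrreducibleCloseds α) :=
    ⟨⟨closure {Classical.arbitrary α}, isIrreducible_singleton.closure, isClosed_closure⟩⟩
  have h0 : (0 : WithBot ℕ∞) ≤ topologicalKrullDim α := Order.krullDim_nonneg
  obtain ⟨a, ha⟩ := WithBot.ne_bot_iff_exists.1 (fun h' : topologicalKrullDim α = ⊥ => by
    rw [h'] at h0; simp at h0)
  have hle : a ≤ (n : ℕ∞) := by
    rw [← ha] at h
    exact WithBot.coe_le_coe.1 h
  obtain ⟨d, rfl⟩ := ENat.ne_top_iff_exists.1 (ne_top_of_le_ne_top (ENat.coe_ne_top n) hle)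
  exact ⟨d, ha.symm, ENat.coe_le_coe.1 hle⟩

/-- The complement of a dense open has smaller dimension. -/
theorem dim_add_one_le_of_avoid {T Z : Scheme.{u}} [AlgebraicGeometry.IsNoetherian T] (i : Z ⟶ T)
    [IsClosedImmersion i] (V : Set T) (hVo : IsOpen V) (hVd : Dense V) (hi : Set.range i ⊆ Vᶜ) [Nonempty Z]
    (n : ℕ) (hn : topologicalKrullDim T ≤ n) : ∃ d : ℕ, topologicalKrullDim Z = d ∧ d + 1 ≤ n := by
  have he := i.isClosedEmbedding
  haveI : Nonempty (IrreducibleCloseds Z) :=
    ⟨⟨closure {Classical.arbitrary Z}, isIrreducible_singleton.closure, isClosed_closure⟩⟩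
  let F : IrreducibleCloseds Z → IrreducibleCloseds T := fun C =>
    ⟨i '' (C : Set Z), C.isIrreducible.image _ he.continuous.continuousOn, he.isClosedMap _ C.isClosed⟩
  have hF : StrictMono F := fun A B h => by
    refine SetLike.coe_ssubset_coe.1 ?_
    show i '' (A : Set Z) ⊂ i '' (B : Set Z)
    exact he.injective.image_strictMono (SetLike.coe_ssubset_coe.2 h)
  have key : ∀ p : LTSeries (IrreducibleCloseds Z), p.length + 1 ≤ n := fun p => by
    obtain ⟨D, hD, hsub⟩ := exists_mem_irreducibleComponents_subset_of_isIrreducible _ (F p.last).isIrreducible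
    let D' : IrreducibleCloseds T := ⟨D, hD.1, isClosed_of_mem_irreducibleComponents D hD⟩
    have hlt : (p.map F hF).last < D' := by
      rw [LTSeries.last_map]
      refine lt_of_le_of_ne (show F p.last ≤ D' from hsub) fun e => ?_
      obtain ⟨o, ho, hne, hoD⟩ := NoetherianSpace.exists_isOpen_nonempty_subset_irreducibleComponent D hD
      obtain ⟨x, hx, hxV⟩ := hVd.inter_open_nonempty o ho hne
      have hx' : x ∈ (F p.last : Set T) := by
        rw [e]; exact hoD hx
      obtain ⟨z, -, rfl⟩ := hx'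
      exact hi ⟨z, rfl⟩ hxV
    have h1 := Order.LTSeries.length_le_krullDim ((p.map F hF).snoc D' hlt)
    have h2 : (((p.map F hF).snoc D' hlt).length : WithBot ℕ∞) ≤ n := h1.trans hn
    have h3 : ((p.map F hF).snoc D' hlt).length = p.length + 1 := rfl
    rw [h3] at h2
    exact_mod_cast h2
  obtain ⟨m, rfl⟩ : ∃ m, n = m + 1 :=
    ⟨n - 1, by have := key (RelSeries.singleton _ (Classical.arbitrary (IrreducibleCloseds Z))); omega⟩
  obtain ⟨d, hd, hdm⟩ := exists_dim_eq (α := Z) m (iSup_le fun p => by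
    have := key p
    exact_mod_cast (by omega : p.length ≤ m))
  exact ⟨d, hd, by omega⟩

/-- Extension by zero of a constant sheaf along an etale map. -/
noncomputable def extZeroConstIso {X V : Scheme.{u}} (U : X.Etale) (M : Type) [AddCommGroup M]
    (e : V ≅ U.left) (f : V ⟶ X) [Etale f] [EtShriek.JCont f] (hf : e.hom ≫ U.hom = f) :
    EtPBC.extZeroConst U M ≅ (EtShriek.extZero f).obj (EtCoh.const V M) :=
  let t : (EtShriek.compEtale f).obj (EtCoh.top V) ≅ U := MorphismProperty.Over.isoMk e hf
  let hT : IsTerminal (Over.mk (𝟙 U) : Over U) := Over.mkIdTerminal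
  let adj₁ := (constantSheafAdj (X.smallEtaleTopology.over U) AddCommGrpCat.{u + 1} hT).comp (EtPBC.extZeroAdj U)
  let adj₂ := (constantSheafAdj V.smallEtaleTopology AddCommGrpCat.{u + 1}
    (EtCore.topIsTerminal V)).comp (EtShriek.extZeroAdj f)
  let E : X.smallEtaleTopology.overPullback AddCommGrpCat.{u + 1} U ⋙
      (sheafSections (X.smallEtaleTopology.over U) AddCommGrpCat.{u + 1}).obj (op (Over.mk (𝟙 U))) ≅
      EtShriek.restrAlong f ⋙
        (sheafSections V.smallEtaleTopology AddCommGrpCat.{u + 1}).obj (op (EtCoh.top V)) :=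
    (sheafSections X.smallEtaleTopology AddCommGrpCat.{u + 1}).mapIso t.op
  ((adj₁.ofNatIsoRight E).leftAdjointUniq adj₂).app _

/-- Vanishing for an open dense subscheme. -/
theorem subsingleton_H_extZero_open (p : ℕ) [Fact p.Prime] (T : Scheme.{u}) [AlgebraicGeometry.IsNoetherian T]
    (hp : (p : Γ(T, ⊤)) = 0) (n : ℕ) (hn : topologicalKrullDim T ≤ n) (V : T.Opens) [Etale V.ι]
    [EtShriek.JCont V.ι] (hV : Dense (V : Set T)) (q : ℕ) (hq : n + 1 < q) :
    Subsingleton (EtCoh.H T ((EtShriek.extZero V.ι).obj (EtCoh.const V.toScheme (ZMod p))) q) := by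
  let I := Scheme.IdealSheafData.vanishingIdeal (X := T) ⟨(V : Set T)ᶜ, V.isOpen.isClosed_compl⟩
  let i := I.subschemeι
  have hr : Set.range i = (V : Set T)ᶜ := by
    show Set.range I.subschemeι = _
    rw [Scheme.IdealSheafData.range_subschemeι, Scheme.IdealSheafData.coe_support_vanishingIdeal]
    rfl
  have hU : (V : Set T) = (Set.range i.base)ᶜ := by
    show (V : Set T) = (Set.range i)ᶜ
    rw [hr, compl_compl]
  obtain ⟨w, hS⟩ := Groth.Agent.S0654.result i V hU (EtCoh.const T (ZMod p))
  obtain ⟨r, rfl⟩ : ∃ r, q = r + 1 := ⟨q - 1, by omega⟩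
  have hT : Subsingleton (EtCoh.H T (EtCoh.const T (ZMod p)) (r + 1)) := by
    by_cases hne : Nonempty T
    · obtain ⟨d, hd, hdn⟩ := exists_dim_eq (α := T) n hn
      exact S0207.result p T hp d hd _ (by omega)
    · haveI : IsEmpty T := not_nonempty_iff.1 hne
      exact subsingleton_of_forall_eq 0 fun x => by
        rw [← Ext.comp_mk₀_id x, (IsZero.iff_id_eq_zero _).1 (Groth.Agent.H18Et.Cons.isZero_of_supp_eq_empty _
          fun y => isEmptyElim (α := T) y), Ext.mk₀_zero, Ext.comp_zero]
  have hZ : Subsingleton (EtCoh.H T ((EtCoh.push i).obj ((EtCoh.pull i).obj (EtCoh.const T (ZMod p)))) r) := by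
    haveI : IsLocallyNoetherian I.subscheme := LocallyOfFiniteType.isLocallyNoetherian i
    haveI : CompactSpace I.subscheme := QuasiCompact.compactSpace_of_compactSpace i
    haveI : AlgebraicGeometry.IsNoetherian I.subscheme := {}
    obtain ⟨a⟩ := Groth.Agent.H15Site.IntDesc.nonempty_H_push i
      ((EtCoh.pull i).obj (EtCoh.const T (ZMod p))) r
    suffices hs : Subsingleton (EtCoh.H I.subscheme (EtCoh.const I.subscheme (ZMod p)) r) from
      Function.Injective.subsingleton (β := EtCoh.H I.subscheme (EtCoh.const I.subscheme (ZMod p)) r)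
        (((Sheaf.functorH _ r).mapIso (EtCore.pullConst i (ZMod p))).addCommGroupIsoToAddEquiv.injective.comp
          a.addCommGroupIsoToAddEquiv.injective)
    by_cases hne : Nonempty I.subscheme
    · obtain ⟨d, hd, hdn⟩ := dim_add_one_le_of_avoid i (V : Set T) V.isOpen hV hr.le n hn
      refine S0207.result p _ ?_ d hd _ (by omega)
      rw [← map_natCast i.appTop.hom p, hp, map_zero]
    · haveI : IsEmpty I.subscheme := not_nonempty_iff.1 hne
      exact subsingleton_of_forall_eq 0 fun x => by
        rw [← Ext.comp_mk₀_id x, (IsZero.iff_id_eq_zero _).1 (Groth.Agent.H18Et.Cons.isZero_of_supp_eq_empty _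
          fun y => isEmptyElim (α := I.subscheme) y), Ext.mk₀_zero, Ext.comp_zero]
  have hA : Subsingleton (EtCoh.H T ((EtShriek.extZero V.ι).obj
      ((EtShriek.restrAlong V.ι).obj (EtCoh.const T (ZMod p)))) (r + 1)) := by
    refine subsingleton_of_forall_eq 0 fun x => ?_
    obtain ⟨y, hy⟩ := Ext.covariant_sequence_exact₁ _ hS x (hT.elim _ _) (rfl : r + 1 = r + 1)
    rw [← hy, hZ.elim y 0, Ext.zero_comp]
  let e : (EtShriek.restrAlong V.ι).obj (EtCoh.const T (ZMod p)) ≅ EtCoh.const V.toScheme (ZMod p) :=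
    ((Groth.Agent.H18Et.EtaleRestrict.pullIso V.ι).app _).symm ≪≫ EtCore.pullConst V.ι (ZMod p)
  exact Function.Injective.subsingleton (β := EtCoh.H T ((EtShriek.extZero V.ι).obj
      ((EtShriek.restrAlong V.ι).obj (EtCoh.const T (ZMod p)))) (r + 1))
    ((Sheaf.functorH _ (r + 1)).mapIso ((EtShriek.extZero V.ι).mapIso e)).addCommGroupIsoToAddEquiv.symm.injective

/-- The generators have no cohomology above `dim + 1`. -/
theorem subsingleton_H_extZeroConst (p : ℕ) [Fact p.Prime] (X : Scheme.{u}) [AlgebraicGeometry.IsNoetherian X]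
    (hp : (p : Γ(X, ⊤)) = 0) (n : ℕ) (hn : topologicalKrullDim X ≤ n) (U : X.Etale) [IsAffine U.left]
    (q : ℕ) (hq : n + 1 < q) : Subsingleton (EtCoh.H X (EtPBC.extZeroConst U (ZMod p)) q) := by
  haveI : Etale U.hom := U.prop
  haveI : Scheme.IsSeparated U.left := inferInstance
  let u : U.left ⟶ X := U.hom
  haveI : IsSeparated (u ≫ terminal.from X) := by
    rw [Subsingleton.elim (u ≫ terminal.from X) (terminal.from _)]
    exact Scheme.IsSeparated.isSeparated_terminal_from
  haveI : IsSeparated U.hom := IsSeparated.of_comp u (terminal.from X)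
  haveI : QuasiCompact U.hom :=
    (quasiCompact_iff_forall_isAffineOpen).2 fun W hW => by
      haveI : IsLocallyNoetherian U.left :=
        haveI : IsLocallyNoetherian ((Functor.fromPUnit X).obj U.right) := inferInstanceAs (IsLocallyNoetherian X)
        LocallyOfFiniteType.isLocallyNoetherian U.hom
      haveI : AlgebraicGeometry.IsNoetherian U.left := {}
      exact NoetherianSpace.isCompact (α := U.left) _
  haveI := Groth.Agent.H18Et.locallyQuasiFinite_of_etale U.hom
  obtain ⟨T₀, j₀, π₀, hj₀, hjqc, hπ₀, -, hfac⟩ := S1477.result (X := U.left) (S := X) U.hom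
  haveI : IsFinite (j₀.imageι ≫ π₀) := inferInstance
  let T := j₀.image
  let π : T ⟶ X := j₀.imageι ≫ π₀
  let j : U.left ⟶ T := j₀.toImage
  haveI : IsLocallyNoetherian T := LocallyOfFiniteType.isLocallyNoetherian π
  haveI : CompactSpace T := QuasiCompact.compactSpace_of_compactSpace π
  haveI : AlgebraicGeometry.IsNoetherian T := {}
  have hjπ : j ≫ π = U.hom := by
    show j₀.toImage ≫ j₀.imageι ≫ π₀ = _
    rw [Scheme.Hom.toImage_imageι_assoc, hfac]
  haveI : IsOpenImmersion j := inferInstanceAs (IsOpenImmersion j₀.toImage)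
  let V : T.Opens := j.opensRange
  have hV : Dense (V : Set T) := by
    rw [Scheme.Hom.coe_opensRange]
    exact j₀.toImage.denseRange
  let e : V.toScheme ≅ U.left := j.isoOpensRange.symm
  have hVj : e.hom ≫ j = V.ι := by
    show j.isoOpensRange.inv ≫ j = _
    exact Scheme.Hom.isoOpensRange_inv_comp j
  have hf : e.hom ≫ U.hom = V.ι ≫ π := by
    rw [← hjπ, ← Category.assoc, hVj]
  haveI : Etale (V.ι ≫ π) := by
    rw [← hf]
    exact MorphismProperty.comp_mem _ e.hom U.hom inferInstance inferInstance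
  haveI : IsSeparated (V.ι ≫ π) := inferInstance
  haveI := Groth.Agent.H18Et.jCont (V.ι ≫ π)
  haveI := Groth.Agent.H18Et.jCont V.ι
  haveI := subsingleton_H_extZero_open p T (by rw [← map_natCast π.appTop.hom p, hp, map_zero]) n
    ((Groth.Agent.H12AlgSp.topologicalKrullDim_le_of_lqf π).trans hn) V hV q hq
  let c := EtCoh.const V.toScheme (ZMod p)
  let E : EtPBC.extZeroConst U (ZMod p) ≅ (EtCoh.push π).obj ((EtShriek.extZero V.ι).obj c) :=
    extZeroConstIso U (ZMod p) e (V.ι ≫ π) hf ≪≫
      (H15Site.Shriek.extZeroIso (V.ι ≫ π)).app c ≪≫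
      (H15Site.Shriek.lowerShriekCompIso V.ι π).symm.app c ≪≫
      (EtShriek.lowerShriek π).mapIso ((H15Site.Shriek.extZeroIso V.ι).symm.app c) ≪≫
      (H15Site.Shriek.shriekPushIso π).app _
  obtain ⟨a⟩ := Groth.Agent.H15Site.IntDesc.nonempty_H_push π ((EtShriek.extZero V.ι).obj c) q
  exact Function.Injective.subsingleton (β := EtCoh.H T ((EtShriek.extZero V.ι).obj c) q)
    (a.addCommGroupIsoToAddEquiv.injective.comp ((Sheaf.functorH _ q).mapIso E).addCommGroupIsoToAddEquiv.injective)

end Groth.Agent.H05EGA4.EtCl
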