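import Groth.Agent.H05EGA4.EtCl.DimFun
import Groth.Agent.S0539
import Groth.Agent.S0540
import Groth.Agent.S0541
import Mathlib.RingTheory.Ideal.KrullsHeightTheorem
import Mathlib.RingTheory.Flat.Localization

/-!
# Codimensions along specialisations
-/

set_option autoImplicit false
set_option linter.style.haveILetI false
set_option backward.isDefEq.respectTransparency false

universe u

open CategoryTheory CategoryTheory.Limits AlgebraicGeometry

namespace Groth.Agent.H05EGA4.EtCl

theorem height_add_length {R : Type u} [CommRing R] :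
    ∀ (n : ℕ) (l : Fin (n + 1) → PrimeSpectrum R), StrictMono l →
      (l 0).asIdeal.height + n ≤ (l (Fin.last n)).asIdeal.height
  | 0, l, _ => by simp
  | n + 1, l, hl => by
    have h := height_add_length n (l ∘ Fin.castSucc) (hl.comp Fin.strictMono_castSucc)
    have h2 := Ideal.height_add_one_le_of_lt_of_isPrime
      (show (l (Fin.last n).castSucc).asIdeal < (l (Fin.last (n + 1))).asIdeal from hl (Fin.castSucc_lt_last _))
    refine le_trans ?_ h2
    rw [Nat.cast_succ, ← add_assoc]
    exact add_le_add_left h 1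

theorem ringKrullDim_quotient_map_add_height_le {A R : Type u} [CommRing A] [CommRing R] [Algebra A R]
    [IsNoetherianRing A] [Module.Flat A R] [IsNoetherianRing R] (p : Ideal A) [p.IsPrime] (e c : ℕ) (d : ℕ)
    (he : ringKrullDim (R ⧸ p.map (algebraMap A R)) = e) (hc : (c : ℕ∞) ≤ p.height) (hd : ringKrullDim R = d) :
    c + e ≤ d := by
  obtain ⟨l, hl⟩ : ∃ l : LTSeries (PrimeSpectrum (R ⧸ p.map (algebraMap A R))), l.length = e := by
    refine Order.le_krullDim_iff.1 ?_
    exact he.ge
  let g : Fin (l.length + 1) → PrimeSpectrum R := fun i =>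
    PrimeSpectrum.comap (Ideal.Quotient.mk (p.map (algebraMap A R))) (l i)
  have hg : StrictMono g :=
    (RingHom.strictMono_comap_of_surjective Ideal.Quotient.mk_surjective).comp l.strictMono
  let q := (g 0).asIdeal.under A
  haveI : (g 0).asIdeal.LiesOver q := ⟨rfl⟩
  have hpq : p ≤ q := fun a ha => by
    show algebraMap A R a ∈ (g 0).asIdeal
    show Ideal.Quotient.mk _ (algebraMap A R a) ∈ (l 0).asIdeal
    rw [Ideal.Quotient.eq_zero_iff_mem.2 (Ideal.mem_map_of_mem _ ha)]
    exact zero_mem _
  have h1 := Ideal.height_eq_height_add_of_liesOver_of_hasGoingDown q (g 0).asIdeal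
  have h2 : (c : ℕ∞) ≤ (g 0).asIdeal.height := (hc.trans (Ideal.height_mono hpq)).trans (h1 ▸ le_self_add)
  have h3 := (add_le_add_left h2 (l.length : ℕ∞)).trans (height_add_length l.length g hg)
  have h4 : ((g (Fin.last l.length)).asIdeal.height : WithBot ℕ∞) ≤ ringKrullDim R :=
    Ideal.height_le_ringKrullDim_of_isPrime
  rw [hd] at h4
  have h5 : ((c + e : ℕ) : ℕ∞) ≤ (g (Fin.last l.length)).asIdeal.height := by
    push_cast
    rw [← hl]
    exact h3
  exact_mod_cast (WithBot.coe_le_coe.2 h5).trans h4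

theorem exists_ringKrullDim_eq (A : Type u) [CommRing A] [IsLocalRing A] [IsNoetherianRing A] :
    ∃ c : ℕ, ringKrullDim A = c := by
  have h1 := ringKrullDim_lt_top (R := A)
  have h2 := ringKrullDim_nonneg_of_nontrivial (R := A)
  obtain ⟨a, ha⟩ := WithBot.ne_bot_iff_exists.1 (fun e => absurd (e ▸ h2) (by simp) : ringKrullDim A ≠ ⊥)
  obtain ⟨c, rfl⟩ := ENat.ne_top_iff_exists.1 (fun e : a = ⊤ => by
    subst e
    rw [← ha] at h1
    exact lt_irrefl _ h1)
  exact ⟨c, ha.symm⟩

variable {X : Scheme.{u}} [IsLocallyNoetherian X]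

/-- The codimension of a point. -/
noncomputable def codim (x : X) : ℕ := (exists_ringKrullDim_eq (X.presheaf.stalk x)).choose

theorem codim_spec (x : X) : ringKrullDim (X.presheaf.stalk x) = codim x :=
  (exists_ringKrullDim_eq (X.presheaf.stalk x)).choose_spec

theorem height_ker_specMap {x y : X} (h : x ⤳ y) :
    ((RingHom.ker (Cyc.specMap y x h)).height : WithBot ℕ∞) = codim x := by
  rw [← codim_spec x]
  letI := (X.presheaf.stalkSpecializes h).hom.toAlgebra
  haveI := H7CDiv.isLocalization_stalkSpecializes h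
  have hp : RingHom.ker (Cyc.specMap y x h) = (H7CDiv.primeOf h).asIdeal := by
    ext a
    exact IsLocalRing.residue_eq_zero_iff _
  rw [hp]
  exact (IsLocalization.AtPrime.ringKrullDim_eq_height (H7CDiv.primeOf h).asIdeal (X.presheaf.stalk x)).symm

theorem codim_lt {x y : X} (h : x ⤳ y) (hne : x ≠ y) : codim x < codim y := by
  haveI := RingHom.ker_isPrime (Cyc.specMap y x h)
  have hlt : RingHom.ker (Cyc.specMap y x h) < IsLocalRing.maximalIdeal (X.presheaf.stalk y) := by
    refine lt_of_le_of_ne (IsLocalRing.le_maximalIdeal (Ideal.IsPrime.ne_top inferInstance)) fun e => hne ?_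
    refine ((X.fromSpecResidueField_apply x (IsLocalRing.closedPoint _)).symm.trans ?_).trans
      X.fromSpecStalk_closedPoint
    rw [fromSpecResidueField_eq h, Scheme.Hom.comp_apply]
    refine congrArg (X.fromSpecStalk y) (PrimeSpectrum.ext ?_)
    refine Eq.trans ?_ e
    show Ideal.comap (Cyc.specMap y x h) (IsLocalRing.maximalIdeal _) = _
    rw [IsLocalRing.maximalIdeal_eq_bot]
    rfl
  have h1 := Ideal.height_add_one_le_of_lt_of_isPrime hlt
  have h2 : ((IsLocalRing.maximalIdeal (X.presheaf.stalk y)).height : WithBot ℕ∞) = codim y := by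
    rw [IsLocalRing.maximalIdeal_height_eq_ringKrullDim, codim_spec]
  have h3 := (WithBot.coe_le_coe.2 h1).trans_eq h2
  rw [WithBot.coe_add, height_ker_specMap h] at h3
  exact_mod_cast h3

variable {ℓ : ℕ}

/-- The dimension function given by the codimension. -/
noncomputable def codimCdFun (n : ℕ)
    (h1 : ∀ (y : X) (c : ℕ), ringKrullDim (X.presheaf.stalk y) = c →
      2 * c ≤ n ∧ Dix.CohDimLEAt (Spec (X.residueField y)) ℓ (n - 2 * c))
    (h2 : ∀ (x y : X) (hxy : x ⤳ y), ∀ (R : Type u) [CommRing R] [IsLocalRing R] [Algebra (X.presheaf.stalk y) R]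
      [IsLocalHom (algebraMap (X.presheaf.stalk y) R)] [Hensel.IsStrictHenselization (X.presheaf.stalk y) R],
      ∀ P ∈ ((RingHom.ker (Cyc.specMap y x hxy)).map (algebraMap (X.presheaf.stalk y) R)).minimalPrimes,
        ∀ e : ℕ, ringKrullDim (R ⧸ (RingHom.ker (Cyc.specMap y x hxy)).map (algebraMap (X.presheaf.stalk y) R)) = e →
          Dix.CohDimLEAt (Spec (CommRingCat.of (FractionRing (R ⧸ P)))) ℓ e) : CdFun X ℓ where
  φ x := n - 2 * codim x
  cd x := (h1 x _ (codim_spec x)).2
  strict x y hxy hne R _ _ _ _ _ P hP := by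
    haveI := RingHom.ker_isPrime (Cyc.specMap y x hxy)
    haveI : IsNoetherianRing R := (Groth.Agent.S0540.result (X.presheaf.stalk y) R).1 inferInstance
    haveI : Module.FaithfullyFlat (X.presheaf.stalk y) R := Groth.Agent.S0539.result (X.presheaf.stalk y) R
    let J := (RingHom.ker (Cyc.specMap y x hxy)).map (algebraMap (X.presheaf.stalk y) R)
    have hJ : J ≠ ⊤ := fun e => hP.1.1.ne_top (top_le_iff.1 (e ▸ hP.1.2))
    haveI : Nontrivial (R ⧸ J) := Ideal.Quotient.nontrivial_iff.2 hJ
    haveI : IsLocalRing (R ⧸ J) := IsLocalRing.of_surjective' (Ideal.Quotient.mk J) Ideal.Quotient.mk_surjective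
    obtain ⟨e, he⟩ := exists_ringKrullDim_eq (R ⧸ J)
    refine ⟨e, ?_, h2 x y hxy R P hP e he⟩
    have hle := ringKrullDim_quotient_map_add_height_le (RingHom.ker (Cyc.specMap y x hxy)) e (codim x) (codim y)
      he (WithBot.coe_le_coe.1 (le_of_eq (height_ker_specMap hxy).symm))
      ((Groth.Agent.S0541.result (X.presheaf.stalk y) R).trans (codim_spec y))
    have h3 := codim_lt hxy hne
    have h4 := (h1 y _ (codim_spec y)).1
    omega

end Groth.Agent.H05EGA4.EtCl
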