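import Groth.Agent.H05EGA4.EtCl.SumIso
import Groth.Agent.H05EGA4.EtH90.Opens
import Groth.Agent.H05EGA4.Topo
import Groth.Agent.H18Et.Germ
import Groth.Agent.H18Et.Support
import Groth.Prelude.Def_Dix

/-!
# Components of a sheaf at points, and sheaves supported at closed points
-/

set_option autoImplicit false
set_option linter.style.haveILetI false
set_option linter.unusedSectionVars false
set_option linter.overlappingInstances false
set_option backward.isDefEq.respectTransparency false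
set_option backward.isDefEq.respectTransparency.types false

universe u

open CategoryTheory CategoryTheory.Limits AlgebraicGeometry Opposite TopologicalSpace

namespace Groth.Agent.H05EGA4.EtCl

open Groth.Agent.H18Et
open scoped Groth.Agent.H18Et

variable {X Y : Scheme.{u}}

/-- An open of an object of the site. -/
noncomputable def sub (V : X.Etale) (O : V.left.Opens) : X.Etale :=
  haveI : Etale V.hom := V.prop
  Scheme.Etale.mk (O.ι ≫ V.hom)

/-- Its inclusion. -/
noncomputable def subι (V : X.Etale) (O : V.left.Opens) : sub V O ⟶ V :=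
  MorphismProperty.Over.homMk O.ι rfl trivial

theorem hom_left {V W : X.Etale} (g : W ⟶ V) (w : W.left) : V.hom (g.left w) = W.hom w := by
  exact (Scheme.Hom.comp_apply g.left V.hom w).symm.trans (congrArg (fun k : W.left ⟶ X => k w) (Over.w g.hom))

theorem notMem_supp_of_map {F : EtCoh.Ab X} {V W : X.Etale} (g : W ⟶ V) (w : W.left) {s : EtCoh.sect F V}
    (h : w ∉ EtShriek.sectSupp F W (F.obj.map g.op s)) : g.left w ∉ EtShriek.sectSupp F V s := by
  simp only [EtShriek.sectSupp, Set.mem_ofPred_eq, not_forall, not_not] at h ⊢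
  obtain ⟨Z, a, ⟨z, hz⟩, h0⟩ := h
  refine ⟨Z, a ≫ g, ⟨z, congrArg g.left.base hz⟩, ?_⟩
  rwa [← res_comp]

theorem notMem_supp_map {F : EtCoh.Ab X} {V W : X.Etale} (g : W ⟶ V) (w : W.left) {s : EtCoh.sect F V}
    (h : g.left w ∉ EtShriek.sectSupp F V s) : w ∉ EtShriek.sectSupp F W (F.obj.map g.op s) := by
  obtain ⟨z, hz⟩ := exists_fiber_over w (geomPt (W.hom w)) (geomPt_base _)
  rw [← hz, ← germ_eq_zero_iff]
  refine ((Scheme.pointSmallEtale (geomPt (W.hom w))).toPresheafFiber_w_apply g z F.obj s).trans ?_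
  refine (germ_eq_zero_iff F _ s).2 ?_
  rw [← ptOf_map, hz]
  exact h

theorem notMem_supp_add {F : EtCoh.Ab X} {V : X.Etale} {s t : EtCoh.sect F V} {v : V.left}
    (hs : v ∉ EtShriek.sectSupp F V s) (ht : v ∉ EtShriek.sectSupp F V t) :
    v ∉ EtShriek.sectSupp F V (s + t) := by
  obtain ⟨z, hz⟩ := exists_fiber_over v (geomPt (V.hom v)) (geomPt_base _)
  rw [← hz, ← germ_eq_zero_iff] at hs ht ⊢
  rw [map_add, hs, ht, add_zero]

theorem notMem_supp_app {F G : EtCoh.Ab X} (α : F ⟶ G) {V : X.Etale} {s : EtCoh.sect F V} {v : V.left}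
    (hs : v ∉ EtShriek.sectSupp F V s) : v ∉ EtShriek.sectSupp G V (α.hom.app (op V) s) := by
  simp only [EtShriek.sectSupp, Set.mem_ofPred_eq, not_forall, not_not] at hs ⊢
  obtain ⟨W, g, hw, h0⟩ := hs
  exact ⟨W, g, hw, by rw [← app_res, h0, map_zero]⟩

theorem eq_zero_of_supp {F : EtCoh.Ab X} {V : X.Etale} {s : EtCoh.sect F V}
    (h : ∀ v, v ∉ EtShriek.sectSupp F V s) : s = 0 := by
  have := (map_eq_zero_iff_range_subset F s (𝟙 V)).2 fun v _ => h v
  rwa [op_id, CategoryTheory.Functor.map_id, ConcreteCategory.id_apply] at this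

theorem eq_res_of_supp {F : EtCoh.Ab X} {V : X.Etale} {s t : EtCoh.sect F V}
    (h : ∀ v, v ∉ EtShriek.sectSupp F V (s - t)) : s = t :=
  sub_eq_zero.1 (eq_zero_of_supp h)

section Pull

variable (f : Y ⟶ X)

/-- The component of a section. -/
noncomputable abbrev unit (F : EtCoh.Ab X) (V : X.Etale) (s : EtCoh.sect F V) :
    EtCoh.sect ((EtCoh.pull f).obj F) ((EtCoh.bc f).obj V) :=
  ((EtCoh.pullPushAdj f).unit.app F).hom.app (op V) s

theorem unit_res (F : EtCoh.Ab X) {V W : X.Etale} (g : W ⟶ V) (s : EtCoh.sect F V) :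
    ((EtCoh.pull f).obj F).obj.map ((EtCoh.bc f).map g).op (unit f F V s) = unit f F W (F.obj.map g.op s) :=
  (app_res ((EtCoh.pullPushAdj f).unit.app F) g s).symm

theorem fst_bcMap {V W : X.Etale} (g : W ⟶ V) (q : ((EtCoh.bc f).obj W).left) :
    (pullback.fst V.hom f) (((EtCoh.bc f).map g).left q) = g.left ((pullback.fst W.hom f) q) := by
  have e : ((EtCoh.bc f).map g).left ≫ pullback.fst V.hom f = pullback.fst W.hom f ≫ g.left :=
    pullback.lift_fst _ _ _
  exact (Scheme.Hom.comp_apply _ _ _).symm.trans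
    ((congrArg (fun k : pullback W.hom f ⟶ V.left => k q) e).trans (Scheme.Hom.comp_apply _ _ _))

theorem hom_fst (V : X.Etale) (p : ((EtCoh.bc f).obj V).left) :
    V.hom ((pullback.fst V.hom f) p) = f ((pullback.snd V.hom f) p) := by
  rw [← Scheme.Hom.comp_apply, ← Scheme.Hom.comp_apply]
  exact congrArg (fun k : pullback V.hom f ⟶ X => k p) pullback.condition

theorem ptOf_fiberComp {Ω : Type u} [Field Ω] [IsSepClosed Ω] (ζ : Spec (CommRingCat.of Ω) ⟶ Y) (V : X.Etale)
    (y : (Scheme.pointSmallEtale ζ).fiber.obj ((EtCoh.bc f).obj V)) :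
    ptOf ((fiberCompIso f ζ).hom.app V y) = (pullback.fst V.hom f) (ptOf y) := rfl

theorem germ_unit {Ω : Type u} [Field Ω] [IsSepClosed Ω] (ζ : Spec (CommRingCat.of Ω) ⟶ Y) (F : EtCoh.Ab X)
    (V : X.Etale) (y : (Scheme.pointSmallEtale ζ).fiber.obj ((EtCoh.bc f).obj V)) (s : EtCoh.sect F V) :
    germ ζ ((EtCoh.pull f).obj F) ((EtCoh.bc f).obj V) y (unit f F V s) =
      (stalkPullIso f ζ).inv.app F (germ (ζ ≫ f) F V ((fiberCompIso f ζ).hom.app V y) s) := by
  rw [stalkPullIso_inv_germ]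
  refine congrArg (fun w => germ ζ ((EtCoh.pull f).obj F) ((EtCoh.bc f).obj V) w (unit f F V s)) ?_
  exact (ConcreteCategory.congr_hom ((fiberCompIso f ζ).hom_inv_id_app V) y).symm

/-- The support of a component is the part of the support over the image. -/
theorem notMem_supp_unit_iff (F : EtCoh.Ab X) (V : X.Etale) (s : EtCoh.sect F V)
    (p : ((EtCoh.bc f).obj V).left) :
    p ∉ EtShriek.sectSupp ((EtCoh.pull f).obj F) ((EtCoh.bc f).obj V) (unit f F V s) ↔
      (pullback.fst V.hom f) p ∉ EtShriek.sectSupp F V s := by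
  let ζ := geomPt (((EtCoh.bc f).obj V).hom p)
  obtain ⟨y, hy⟩ := exists_fiber_over p ζ (geomPt_base _)
  rw [← hy, ← ptOf_fiberComp, ← germ_eq_zero_iff, ← germ_eq_zero_iff, germ_unit]
  constructor
  · intro h
    exact (ConcreteCategory.bijective_of_isIso ((stalkPullIso f ζ).inv.app F)).1 (h.trans (map_zero _).symm)
  · intro h
    rw [h, map_zero]

theorem unit_eq_zero (F : EtCoh.Ab X) (V : X.Etale) (s : EtCoh.sect F V)
    (h : ∀ v, V.hom v ∈ Set.range f → v ∉ EtShriek.sectSupp F V s) : unit f F V s = 0 :=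
  eq_zero_of_supp fun p => (notMem_supp_unit_iff f F V s p).2 (h _ ⟨_, (hom_fst f V p).symm⟩)

theorem inv_hom_fiber {Ω : Type u} [Field Ω] [IsSepClosed Ω] (ζ : Spec (CommRingCat.of Ω) ⟶ Y) (V : X.Etale)
    (y : (Scheme.pointSmallEtale ζ).fiber.obj ((EtCoh.bc f).obj V)) :
    (fiberCompIso f ζ).inv.app V ((fiberCompIso f ζ).hom.app V y) = y :=
  by rw [← ConcreteCategory.comp_apply, Iso.hom_inv_id_app]; rfl

theorem hom_inv_fiber {Ω : Type u} [Field Ω] [IsSepClosed Ω] (ζ : Spec (CommRingCat.of Ω) ⟶ Y) (V : X.Etale)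
    (w : (Scheme.pointSmallEtale (ζ ≫ f)).fiber.obj V) :
    (fiberCompIso f ζ).hom.app V ((fiberCompIso f ζ).inv.app V w) = w :=
  by rw [← ConcreteCategory.comp_apply, Iso.inv_hom_id_app]; rfl

theorem fiber_lift_eq {Ω : Type u} [Field Ω] [IsSepClosed Ω] (ζ : Spec (CommRingCat.of Ω) ⟶ Y) {V Z : X.Etale}
    (g : Z ⟶ V) (w : (Scheme.pointSmallEtale (ζ ≫ f)).fiber.obj Z)
    (y : (Scheme.pointSmallEtale ζ).fiber.obj ((EtCoh.bc f).obj V))
    (hg : (Scheme.pointSmallEtale (ζ ≫ f)).fiber.map g w = (fiberCompIso f ζ).hom.app V y) :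
    (Scheme.pointSmallEtale ζ).fiber.map ((EtCoh.bc f).map g) ((fiberCompIso f ζ).inv.app Z w) = y := by
  have h1 := NatTrans.naturality_apply (fiberCompIso f ζ).inv g w
  rw [hg, inv_hom_fiber] at h1
  exact h1.symm

/-- Sections of an inverse image come locally from sections. -/
theorem exists_unit_near (F : EtCoh.Ab X) (V : X.Etale)
    (c : EtCoh.sect ((EtCoh.pull f).obj F) ((EtCoh.bc f).obj V)) (p : ((EtCoh.bc f).obj V).left) :
    ∃ (Z : X.Etale) (g : Z ⟶ V) (q : ((EtCoh.bc f).obj Z).left) (s : EtCoh.sect F Z),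
      ((EtCoh.bc f).map g).left q = p ∧ q ∉ EtShriek.sectSupp ((EtCoh.pull f).obj F) ((EtCoh.bc f).obj Z)
        (unit f F Z s - ((EtCoh.pull f).obj F).obj.map ((EtCoh.bc f).map g).op c) := by
  let ζ := geomPt (((EtCoh.bc f).obj V).hom p)
  obtain ⟨y, hy⟩ := exists_fiber_over p ζ (geomPt_base _)
  let z := (fiberCompIso f ζ).hom.app V y
  obtain ⟨U, u, s, hs⟩ := germ_surjective (ζ ≫ f) F
    ((stalkPullIso f ζ).hom.app F (germ ζ ((EtCoh.pull f).obj F) ((EtCoh.bc f).obj V) y c))
  obtain ⟨⟨Z, w⟩, ⟨a, ha⟩, ⟨g, hg⟩, -⟩ := IsCofilteredOrEmpty.cone_objs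
    (C := (Scheme.pointSmallEtale (ζ ≫ f)).fiber.Elements) ⟨U, u⟩ ⟨V, z⟩
  dsimp at a g ha hg
  let y' := (fiberCompIso f ζ).inv.app Z w
  have hy' : (Scheme.pointSmallEtale ζ).fiber.map ((EtCoh.bc f).map g) y' = y := by
    exact fiber_lift_eq f ζ g w y hg
  refine ⟨Z, g, ptOf y', F.obj.map a.op s, (ptOf_map _ y').trans ((congrArg ptOf hy').trans hy), ?_⟩
  rw [← germ_eq_zero_iff, map_sub, germ_unit, sub_eq_zero]
  have e1 : germ (ζ ≫ f) F Z ((fiberCompIso f ζ).hom.app Z y') (F.obj.map a.op s) = germ (ζ ≫ f) F U u s := by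
    rw [← ha]
    refine ((congrArg (fun t => germ (ζ ≫ f) F Z t (F.obj.map a.op s))
      (hom_inv_fiber f ζ Z w))).trans ?_
    exact (Scheme.pointSmallEtale (ζ ≫ f)).toPresheafFiber_w_apply a w F.obj s
  rw [e1, hs, ← ConcreteCategory.comp_apply, Iso.hom_inv_id_app]
  refine Eq.trans ?_ ((Scheme.pointSmallEtale ζ).toPresheafFiber_w_apply ((EtCoh.bc f).map g) y' _ c).symm
  rw [hy']
  rfl

theorem exists_pt_of_mem_range (V : X.Etale) (v : V.left) (hv : V.hom v ∈ Set.range f) :
    ∃ p : ((EtCoh.bc f).obj V).left, (pullback.fst V.hom f) p = v := by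
  obtain ⟨y, hy⟩ := hv
  obtain ⟨p, hp, -⟩ := Scheme.Pullback.exists_preimage_pullback (f := V.hom) (g := f) v y hy.symm
  exact ⟨p, hp⟩

theorem fst_injective [IsPreimmersion f] (V : X.Etale) : Function.Injective (pullback.fst V.hom f) :=
  (pullback.fst V.hom f).isEmbedding.injective

end Pull

/-- Points of an étale neighbourhood over closed points are isolated in closed sets of such points. -/
theorem finite_of_closed_points [IsLocallyNoetherian X] {V : X.Etale} [IsAffine V.left] {C : Set V.left}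
    (hC : IsClosed C) (h : ∀ v ∈ C, IsClosed ({V.hom v} : Set X)) : C.Finite := by
  haveI : Etale V.hom := V.prop
  haveI : IsLocallyNoetherian V.left :=
    haveI : IsLocallyNoetherian ((Functor.fromPUnit X).obj V.right) := inferInstanceAs (IsLocallyNoetherian X)
    LocallyOfFiniteType.isLocallyNoetherian V.hom
  haveI : AlgebraicGeometry.IsNoetherian V.left := {}
  haveI : QuasiSober C := hC.isClosedEmbedding_subtypeVal.quasiSober
  have hfin := genericPoints.finite (α := C) TopologicalSpace.NoetherianSpace.finite_irreducibleComponents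
  refine Set.Finite.subset (hfin.image Subtype.val) fun v hv => ?_
  obtain ⟨Z, hZ, hvZ⟩ : ∃ Z ∈ irreducibleComponents C, (⟨v, hv⟩ : C) ∈ Z :=
    ⟨irreducibleComponent _, irreducibleComponent_mem_irreducibleComponents _, mem_irreducibleComponent⟩
  let η := genericPoints.ofComponent ⟨Z, hZ⟩
  have hη : η.1.1 ⤳ v := by
    have h1 : η.1 ⤳ (⟨v, hv⟩ : C) := (genericPoints.isGenericPoint η).specializes
      (by rw [genericPoints.component_ofComponent]; exact hvZ)
    exact h1.map continuous_subtype_val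
  refine ⟨η.1, η.2, eq_of_specializes_of_fibre V.hom hη ?_⟩
  have h2 : V.hom η.1.1 ⤳ V.hom v := hη.map V.hom.continuous
  have h3 := h2.mem_closed (h _ η.1.2) rfl
  exact (Set.mem_singleton_iff.1 h3).symm

theorem isClosed_singleton_of_hom [IsLocallyNoetherian X] {V : X.Etale} {v : V.left}
    (h : IsClosed ({V.hom v} : Set X)) : IsClosed ({v} : Set V.left) := by
  haveI : Etale V.hom := V.prop
  rw [← closure_subset_iff_isClosed]
  intro w hw
  have h1 : v ⤳ w := specializes_iff_mem_closure.2 hw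
  have h2 : V.hom w = V.hom v := Set.mem_singleton_iff.1 ((h1.map V.hom.continuous).mem_closed h rfl)
  exact (eq_of_specializes_of_fibre V.hom h1 h2.symm).symm

/-- Components at points. -/
noncomputable abbrev compObj (F : EtCoh.Ab X) {P : X → Prop} (k : ULift.{u + 1} {x : X // P x}) : EtCoh.Ab X :=
  (Dix.skyPush X k.down.1).obj ((EtCoh.pull (X.fromSpecResidueField k.down.1)).obj F)

/-- The component maps. -/
noncomputable abbrev compMap (F : EtCoh.Ab X) {P : X → Prop} (k : ULift.{u + 1} {x : X // P x}) :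
    F ⟶ compObj F k :=
  (EtCoh.pullPushAdj (X.fromSpecResidueField k.down.1)).unit.app F

theorem compMap_eq_zero (F : EtCoh.Ab X) {P : X → Prop} (k : ULift.{u + 1} {x : X // P x}) (V : X.Etale)
    (s : EtCoh.sect F V) (h : ∀ v, V.hom v = k.down.1 → v ∉ EtShriek.sectSupp F V s) :
    (compMap F k).hom.app (op V) s = 0 :=
  unit_eq_zero _ F V s fun v hv => h v (by simpa [Scheme.range_fromSpecResidueField] using hv)

theorem notMem_supp_of_compMap (F : EtCoh.Ab X) {P : X → Prop} (k : ULift.{u + 1} {x : X // P x}) (V : X.Etale)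
    (s : EtCoh.sect F V) (h : (compMap F k).hom.app (op V) s = 0) (v : V.left) (hv : V.hom v = k.down.1) :
    v ∉ EtShriek.sectSupp F V s := by
  obtain ⟨p, hp⟩ := exists_pt_of_mem_range (X.fromSpecResidueField k.down.1) V v
    (by rw [Scheme.range_fromSpecResidueField]; exact hv)
  rw [← hp, ← notMem_supp_unit_iff]
  rw [show unit (X.fromSpecResidueField k.down.1) F V s = 0 from h]
  intro hmem
  exact hmem _ (𝟙 _) ⟨p, rfl⟩ (map_zero _)

/-- A sheaf supported at closed points is the sum of its components. -/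
theorem nonempty_iso_coprod_closed [AlgebraicGeometry.IsNoetherian X] (F : EtCoh.Ab X)
    (hF : ∀ (V : X.Etale) (s : EtCoh.sect F V) (v : V.left), v ∈ EtShriek.sectSupp F V s →
      IsClosed ({V.hom v} : Set X)) :
    Nonempty (F ≅ ∐ fun k : ULift.{u + 1} {x : X // IsClosed ({x} : Set X)} => compObj F k) := by
  classical
  refine nonempty_iso_coprod F _ (compMap F) ?_ ?_ ?_
  · intro V s hs
    refine eq_zero_of_supp fun v hv => ?_
    exact notMem_supp_of_compMap F ⟨⟨_, hF V s v hv⟩⟩ V s (hs _) v rfl hv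
  · intro V s v
    obtain ⟨O, hO, hvO, -⟩ := exists_isAffineOpen_mem_and_subset (U := (⊤ : V.left.Opens)) (x := v) trivial
    let V' := sub V O
    haveI : IsAffine V'.left := hO
    let s' : EtCoh.sect F V' := F.obj.map (subι V O).op s
    have hfin := finite_of_closed_points (isClosed_sectSupp F V' s') (fun w hw => hF V' s' w hw)
    refine ⟨V', subι V O, ⟨v, hvO⟩, (hfin.toFinset.image fun w => V'.hom w).preimage (fun k => k.down.1)
      (fun a _ b _ e => ULift.ext _ _ (Subtype.ext e)), rfl, fun k hk => compMap_eq_zero F k V' s' fun w hw hmem => hk ?_⟩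
    rw [Finset.mem_preimage, Finset.mem_image]
    exact ⟨w, hfin.mem_toFinset.2 hmem, hw⟩
  · intro k V c v
    let i := X.fromSpecResidueField k.down.1
    have hx := k.down.2
    have hr : ∀ {W : X.Etale} {w : W.left}, W.hom w ∈ Set.range i ↔ W.hom w = k.down.1 := fun {W w} => by
      simp [i, Scheme.range_fromSpecResidueField]
    by_cases hv : V.hom v = k.down.1
    swap
    · let O : V.left.Opens := ⟨(V.hom.base ⁻¹' {k.down.1})ᶜ, (hx.preimage V.hom.continuous).isOpen_compl⟩
      refine ⟨sub V O, subι V O, ⟨v, hv⟩, 0, rfl, ?_, fun l _ => map_zero _⟩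
      rw [map_zero]
      refine (eq_zero_of_supp (F := (EtCoh.pull i).obj F) (V := (EtCoh.bc i).obj (sub V O)) fun p => ?_).symm
      exact absurd (hr.1 ⟨_, (hom_fst i (sub V O) p).symm⟩) ((pullback.fst (sub V O).hom i) p).2
    obtain ⟨p, hp⟩ := exists_pt_of_mem_range i V v (hr.2 hv)
    obtain ⟨Z, g, q, s, hq, hqs⟩ := exists_unit_near i F V c p
    let z : Z.left := (pullback.fst Z.hom i) q
    have hz : g.left z = v := by rw [← hp, ← hq, fst_bcMap]
    obtain ⟨O, hO, hzO, -⟩ := exists_isAffineOpen_mem_and_subset (U := (⊤ : Z.left.Opens)) (x := z) trivial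
    let Z' := sub Z O
    haveI : IsAffine Z'.left := hO
    let z' : Z'.left := ⟨z, hzO⟩
    let s' : EtCoh.sect F Z' := F.obj.map (subι Z O).op s
    let C : Set Z'.left := (EtShriek.sectSupp F Z' s' ∪ Z'.hom.base ⁻¹' {k.down.1}) \ {z'}
    have hCfin : C.Finite := Set.Finite.subset (Set.Finite.union
      (finite_of_closed_points (isClosed_sectSupp F Z' s') fun w hw => hF Z' s' w hw)
      (finite_of_closed_points (hx.preimage Z'.hom.continuous) fun w hw => by
        rw [Set.mem_singleton_iff.1 hw]; exact hx)) Set.sdiff_subset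
    have hCcl : IsClosed C := by
      rw [← Set.biUnion_of_singleton C]
      refine hCfin.isClosed_biUnion fun w hw => isClosed_singleton_of_hom ?_
      rcases hw.1 with h | h
      · exact hF Z' s' w h
      · rw [Set.mem_singleton_iff.1 h]; exact hx
    let O' : Z'.left.Opens := ⟨Cᶜ, hCcl.isOpen_compl⟩
    let W := sub Z' O'
    let γ : W ⟶ V := subι Z' O' ≫ subι Z O ≫ g
    let t : EtCoh.sect F W := F.obj.map (subι Z' O').op s'
    let z'' : W.left := ⟨z', fun h => h.2 rfl⟩
    have honly : ∀ w : W.left, W.hom w = k.down.1 → w = z'' := fun w hw => by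
      by_contra hne
      exact w.2 ⟨Or.inr hw, fun e => hne (Subtype.ext e)⟩
    refine ⟨W, γ, z'', t, hz, ?_, fun l hl => compMap_eq_zero F l W t fun w hw hmem => ?_⟩
    · refine eq_res_of_supp (V := (EtCoh.bc i).obj W) fun r => ?_
      obtain ⟨q', hq'⟩ : ∃ q', ((EtCoh.bc i).map (subι Z' O' ≫ subι Z O)).left q' = q := by
        obtain ⟨r₀, hr₀⟩ := exists_pt_of_mem_range i W z'' (hr.2 ((hom_left γ z'').symm.trans (by
          rw [show γ.left z'' = v from hz, hv])))
        exact ⟨r₀, fst_injective i Z (by rw [fst_bcMap, hr₀]; rfl)⟩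
      have hrq : r = q' := by
        refine fst_injective i W ?_
        rw [honly _ (hr.1 ⟨_, (hom_fst i W r).symm⟩), honly _ (hr.1 ⟨_, (hom_fst i W q').symm⟩)]
      subst hrq
      have := notMem_supp_map ((EtCoh.bc i).map (subι Z' O' ≫ subι Z O)) r (hq' ▸ hqs)
      rw [map_sub, unit_res, ← Functor.map_comp_apply, ← op_comp, ← Functor.map_comp, ← res_comp] at this
      exact this
    · refine hl (ULift.ext _ _ (Subtype.ext ?_))
      by_cases h0 : w = z''
      · subst h0
        rw [← hw, ← hom_left γ, show γ.left z'' = v from hz, hv]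
      · refine absurd ⟨Or.inl ?_, fun e => h0 (Subtype.ext e)⟩ w.2
        by_contra hn
        exact notMem_supp_map (subι Z' O') w hn hmem

end Groth.Agent.H05EGA4.EtCl
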