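import Groth.Agent.H05EGA4.EtCl.Torsion

/-!
# Dimension at most one
-/

set_option autoImplicit false
set_option linter.style.haveILetI false
set_option linter.unusedSectionVars false
set_option backward.isDefEq.respectTransparency false
set_option backward.isDefEq.respectTransparency.types false

universe u

open CategoryTheory CategoryTheory.Limits AlgebraicGeometry Opposite TopologicalSpace

namespace Groth.Agent.H05EGA4.EtCl

open scoped Groth.Agent.H18Et

variable {X : Scheme.{u}}

/-- In dimension at most one the points which are not maximal are closed. -/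
theorem isClosed_of_dim_le_one (hdim : topologicalKrullDim X ≤ 1) {x : X} (hx : ¬IsMaxPt x) :
    IsClosed ({x} : Set X) := by
  simp only [IsMaxPt, not_forall] at hx
  obtain ⟨y, hy, hyx⟩ := hx
  rw [← closure_subset_iff_isClosed]
  intro z hz
  by_contra hzx
  let I : X → IrreducibleCloseds X := fun a => ⟨closure {a}, isIrreducible_singleton.closure, isClosed_closure⟩
  have hlt : ∀ a b : X, a ⤳ b → b ≠ a → I b < I a := fun a b hab hne => by
    refine lt_of_le_of_ne (show closure {b} ⊆ closure {a} from specializes_iff_closure_subset.1 hab) fun e => hne ?_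
    exact IsGenericPoint.eq (S := closure {a}) (congrArg (fun t : IrreducibleCloseds X => (t : Set X)) e) isGenericPoint_closure
  have h1 : I z < I x := hlt x z (specializes_iff_mem_closure.2 hz) hzx
  have h2 : I x < I y := hlt y x hy (Ne.symm hyx)
  let c : LTSeries (IrreducibleCloseds X) :=
    ((RelSeries.singleton _ (I y)).cons (I x) h2).cons (I z) (by simpa using h1)
  have h : (c.length : WithBot ℕ∞) ≤ topologicalKrullDim X := Order.LTSeries.length_le_krullDim c
  have h' : ((2 : ℕ) : WithBot ℕ∞) ≤ 1 := le_trans (by simpa [c] using h) hdim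
  exact absurd h' (by norm_num)

/-- In dimension at most one the classes are supported at closed points. -/
theorem isClosed_of_mem_supp [IsLocallyNoetherian X] (hdim : topologicalKrullDim X ≤ 1) (V : X.Etale)
    (s : EtCoh.sect (ClM X) V) (v : V.left) (hv : v ∈ EtShriek.sectSupp (ClM X) V s) :
    IsClosed ({V.hom v} : Set X) :=
  isClosed_of_dim_le_one hdim fun h => notMem_supp_maxPt V s v ((isMaxPt_hom_iff V v).1 h) hv

theorem exists_nsmul_H_ClM [AlgebraicGeometry.IsNoetherian X] (hdim : topologicalKrullDim X ≤ 1) (n : ℕ)
    (x : EtCoh.H X (ClM X) (n + 1)) : ∃ m, 0 < m ∧ m • x = 0 := by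
  obtain ⟨e⟩ := nonempty_iso_coprod_closed (ClM X) (isClosed_of_mem_supp hdim)
  exact exists_nsmul_H_of_iso e _ (exists_nsmul_H_coprod _ _ fun k => exists_nsmul_H_compObj _ k n) x

end Groth.Agent.H05EGA4.EtCl
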