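import Groth.Agent.H05EGA4.EtTors.Vanish
import Groth.Agent.H05EGA4.EtCl.Fields
import Groth.Agent.H05EGA4.EtTateRes

/-!
# Cohomology of direct images without higher direct images
-/

set_option autoImplicit false
set_option linter.style.haveILetI false
set_option linter.unusedSectionVars false
set_option backward.isDefEq.respectTransparency false
set_option backward.isDefEq.respectTransparency.types false

universe u

open CategoryTheory CategoryTheory.Limits AlgebraicGeometry Opposite Abelian

namespace Groth.Agent.H05EGA4.EtCl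

open scoped Groth.Agent.H18Et

variable {X Y : Scheme.{u}} (f : Y ⟶ X) [EtCoh.BCCont f] [PreservesFiniteLimits (EtCoh.pull f)]

/-- Direct images of sheaves without higher direct images and cohomology have no cohomology. -/
theorem subsingleton_H_push : ∀ (n : ℕ) (G : EtCoh.Ab Y),
    (∀ (i : ℕ) (P : X.Etale) [IsAffine P.left]
      (x : Ext ((H18Et.FreeSheaf.free Y).obj ((EtCoh.bc f).obj P)) G (i + 1)), x = 0) →
    (∀ i : ℕ, Subsingleton (EtCoh.H Y G (i + 1))) →
    Subsingleton (EtCoh.H X ((EtCoh.push f).obj G) (n + 1))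
  | 0, G, _, hH => subsingleton_of_forall_eq 0 fun x => by
    obtain ⟨m, rfl, hm⟩ := EtTors.exists_nsmul_H_push_one f G (· = 1)
      (fun y => ⟨1, rfl, by rw [one_smul]; exact (hH 0).elim y 0⟩) x
    rwa [one_smul] at hm
  | n + 1, G, hR, hH => subsingleton_of_forall_eq 0 fun x => by
    haveI := EtTors.preservesFiniteLimits_push f
    let ι := Injective.ι G
    let q := cokernel.π ι
    have hS : (ShortComplex.mk ((EtCoh.push f).map ι) (cokernel.π _) (cokernel.condition _)).ShortExact :=
      { exact := ShortComplex.exact_cokernel _, mono_f := inferInstanceAs (Mono ((EtCoh.push f).map ι)),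
        epi_g := inferInstanceAs (Epi (cokernel.π _)) }
    have hS' : (ShortComplex.mk ι q (cokernel.condition _)).ShortExact :=
      { exact := ShortComplex.exact_cokernel _, mono_f := inferInstanceAs (Mono ι), epi_g := inferInstanceAs (Epi q) }
    haveI hI : Injective (Injective.under G) := inferInstance
    haveI := EtTors.injective_push f (Injective.under G)
    obtain ⟨y, hy⟩ := Ext.covariant_sequence_exact₁ _ hS x (Ext.eq_zero_of_injective _) rfl
    let κ := cokernel.desc ((EtCoh.push f).map ι) ((EtCoh.push f).map q)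
      (by rw [← Functor.map_comp, cokernel.condition, Functor.map_zero])
    haveI : Mono κ := EtTors.mono_desc_push f G
    have hR0 : IsZero ((EtCoh.Rpush f 1).obj G) := EtTors.isZero_Rpush_succ f G 0 fun P _ y => hR 0 P y
    let e : cokernel κ ≅ (EtCoh.Rpush f 1).obj G :=
      (cokernelEpiComp (cokernel.π ((EtCoh.push f).map ι)) κ).symm ≪≫
        cokernelIsoOfEq (cokernel.π_desc _ _ _) ≪≫ (EtTors.nonempty_Rpush_one_iso_cokernel f G).some.symm
    haveI : Epi κ := Preadditive.epi_of_isZero_cokernel _ (hR0.of_iso e)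
    haveI : IsIso κ := isIso_of_mono_of_epi κ
    have hQR : ∀ (i : ℕ) (P : X.Etale) [IsAffine P.left]
        (z : Ext ((H18Et.FreeSheaf.free Y).obj ((EtCoh.bc f).obj P)) (cokernel ι) (i + 1)), z = 0 :=
      fun i P _ z => by
        obtain ⟨w, hw⟩ := Ext.covariant_sequence_exact₃ _ hS' z rfl (hR (i + 1) P _)
        rw [← hw, Ext.eq_zero_of_injective w, Ext.zero_comp]
    have hQH : ∀ i : ℕ, Subsingleton (EtCoh.H Y (cokernel ι) (i + 1)) := fun i => subsingleton_of_forall_eq 0 fun z => by
      obtain ⟨w, hw⟩ := Ext.covariant_sequence_exact₃ _ hS' z rfl ((hH (i + 1)).elim _ _)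
      rw [← hw, Ext.eq_zero_of_injective w, Ext.zero_comp]
    have hy0 : y.comp (Ext.mk₀ κ) (add_zero _) = 0 := (subsingleton_H_push n (cokernel ι) hQR hQH).elim _ _
    have hy1 := congrArg (fun t => Ext.comp t (Ext.mk₀ (inv κ)) (add_zero (n + 1))) hy0
    simp only [Ext.zero_comp, Ext.comp_assoc_of_second_deg_zero, Ext.mk₀_comp_mk₀, IsIso.hom_inv_id,
      Ext.comp_mk₀_id] at hy1
    rw [← hy, hy1, Ext.zero_comp]

/-- Classes vanishing on finite separable extensions vanish on compact étale objects over a field. -/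
theorem ext_eq_zero_of_points {K : Type u} [Field K] {W : (Spec (CommRingCat.of K)).Etale} [CompactSpace W.left]
    {F : EtCoh.Ab (Spec (CommRingCat.of K))} {n : ℕ}
    (h : ∀ (L : Type u) [Field L] [Algebra K L] [FiniteDimensional K L] [Algebra.IsSeparable K L],
      Subsingleton (EtCoh.H (Spec (CommRingCat.of L)) ((EtCoh.pull (H9GalCoh.Transfer.str K L)).obj F) n))
    (x : Ext ((H18Et.FreeSheaf.free _).obj W) F n) : x = 0 := by
  obtain ⟨m, rfl, hm⟩ := EtTors.ext_of_points x (· = 1) rfl (fun a b ha hb => by rw [ha, hb]) fun L => fun y =>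
    ⟨1, rfl, by rw [one_smul]; exact (h L).elim y 0⟩
  rwa [one_smul] at hm

/-- Over separably closed fields there is no cohomology in positive degrees. -/
theorem subsingleton_H_over_sepClosed (K : Type u) [Field K] [IsSepClosed K] (L : Type u) [Field L] [Algebra K L]
    [FiniteDimensional K L] [Algebra.IsSeparable K L] (F : EtCoh.Ab (Spec (CommRingCat.of L))) (i : ℕ) :
    Subsingleton (EtCoh.H (Spec (CommRingCat.of L)) F (i + 1)) := subsingleton_of_forall_eq 0 fun x => by
  obtain ⟨M, _, _, _, _, _, hM⟩ := H9GalCoh.Killing.exists_finite_killing F (i + 1) i.succ_pos x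
  letI : Algebra K M := ((algebraMap L M).comp (algebraMap K L)).toAlgebra
  haveI : IsScalarTower K L M := IsScalarTower.of_algebraMap_eq fun _ => rfl
  haveI : Algebra.IsSeparable K M := Algebra.IsSeparable.trans K L M
  have hs : Function.Surjective (algebraMap L M) := fun y => by
    obtain ⟨a, rfl⟩ := IsSepClosed.algebraMap_surjective K M y
    exact ⟨algebraMap K L a, (IsScalarTower.algebraMap_apply K L M a).symm⟩
  have h1 : Module.finrank L M = 1 :=
    (finrank_eq_one_iff_of_nonzero' (1 : M) one_ne_zero).2 fun y => by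
      obtain ⟨a, ha⟩ := hs y
      exact ⟨a, (Algebra.algebraMap_eq_smul_one a).symm.trans ha⟩
  have h0 := H9GalCoh.Transfer.finrank_nsmul_eq_zero L M F (i + 1) x hM
  rwa [h1, one_smul] at h0

theorem ext_eq_zero_of_sepClosed {K : Type u} [Field K] [IsSepClosed K] {W : (Spec (CommRingCat.of K)).Etale}
    [CompactSpace W.left] {F : EtCoh.Ab (Spec (CommRingCat.of K))} {i : ℕ}
    (x : Ext ((H18Et.FreeSheaf.free _).obj W) F (i + 1)) : x = 0 :=
  ext_eq_zero_of_points (fun L => subsingleton_H_over_sepClosed K L _ i) x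

/-- Over `C₁` fields `G_m` has no higher cohomology on compact étale objects. -/
theorem ext_Gm_eq_zero_of_isCi {K : Type u} [Field K] (hK : Curves.IsCi K 1)
    {W : (Spec (CommRingCat.of K)).Etale} [CompactSpace W.left] {i : ℕ}
    (x : Ext ((H18Et.FreeSheaf.free _).obj W) (EtCoh.Gm (Spec (CommRingCat.of K))) (i + 1)) : x = 0 :=
  ext_eq_zero_of_points (fun L _ _ _ _ => by
    haveI := H9GalCoh.Transfer.etale_str K L
    let e := H9GalCoh.Cyclic.pullGmIso (H9GalCoh.Transfer.str K L)
    haveI := Fields.subsingleton_H_Gm_of_isCi L (H29Ci.isCi_of_algebraic L hK) (i + 1) i.succ_pos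
    exact Function.Injective.subsingleton (β := EtCoh.H (Spec (CommRingCat.of L)) (EtCoh.Gm (Spec (CommRingCat.of L))) (i + 1))
      ((Sheaf.functorH _ (i + 1)).mapIso e).addCommGroupIsoToAddEquiv.injective) x

/-- Sheaves at a point with separably closed residue field have no higher cohomology. -/
theorem subsingleton_H_skyPush_sepClosed (X : Scheme.{u}) [CompactSpace X] [QuasiSeparatedSpace X] (x : X)
    [IsSepClosed (X.residueField x)] (F : EtCoh.Ab (Spec (X.residueField x))) (n : ℕ) :
    Subsingleton (EtCoh.H X ((Dix.skyPush X x).obj F) (n + 1)) := by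
  haveI := H18Et.pull_preservesFiniteLimits (X.fromSpecResidueField x)
  refine subsingleton_H_push (X.fromSpecResidueField x) n F (fun i P _ z => ?_) fun i => ?_
  · haveI := EtTors.compactSpace_bc_point X x P
    exact ext_eq_zero_of_sepClosed (K := X.residueField x) z
  · exact subsingleton_H_over_sepClosed (X.residueField x) (X.residueField x) F i

end Groth.Agent.H05EGA4.EtCl
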