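import Groth.Agent.H05EGA4.EtCl.Lifts
import Groth.Agent.H05EGA4.EtCl.PushVanish
import Groth.Agent.H05EGA4.EtCl.DimOne
import Groth.Agent.H18Et.PushClosed

/-!
# Cohomology above degree two in dimension one
-/

set_option autoImplicit false
set_option linter.style.haveILetI false
set_option linter.unusedSectionVars false
set_option backward.isDefEq.respectTransparency false
set_option backward.isDefEq.respectTransparency.types false

universe u

open CategoryTheory CategoryTheory.Limits AlgebraicGeometry Opposite Abelian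

namespace Groth.Agent.H05EGA4.EtCl

open scoped Groth.Agent.H18Et

variable {X : Scheme.{u}}

theorem notMem_supp_zero_sect {F : EtCoh.Ab X} {V : X.Etale} (v : V.left) : v ∉ EtShriek.sectSupp F V 0 :=
  fun h => h _ (𝟙 V) ⟨v, rfl⟩ (map_zero _)

theorem injective_app_of_mono {F G : EtCoh.Ab X} (α : F ⟶ G) [Mono α] (W : X.Etale) :
    Function.Injective (α.hom.app (op W)) :=
  fun a b h => (H18Et.FreeSheaf.homEquiv W F).symm.injective
    ((cancel_mono α).1 (by rw [homEquiv_symm_comp, homEquiv_symm_comp, h]))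

theorem subsingleton_H_of_iso' {F G : EtCoh.Ab X} (e : F ≅ G) (n : ℕ) (h : Subsingleton (EtCoh.H X G n)) :
    Subsingleton (EtCoh.H X F n) :=
  Function.Injective.subsingleton (β := EtCoh.H X G n)
    ((Sheaf.functorH _ n).mapIso e).addCommGroupIsoToAddEquiv.injective

/-- Sections over the source of a point inclusion lift locally through epimorphisms. -/
theorem exists_lift_push (x : X) {A B : EtCoh.Ab (Spec (X.residueField x))} (φ : A ⟶ B) [Epi φ] (V : X.Etale)
    (s : EtCoh.sect ((Dix.skyPush X x).obj B) V) (v : V.left) (hv : V.hom v = x) :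
    ∃ (W : X.Etale) (g : W ⟶ V) (w : W.left) (t : EtCoh.sect ((Dix.skyPush X x).obj A) W),
      g.left w = v ∧ ((Dix.skyPush X x).map φ).hom.app (op W) t = ((Dix.skyPush X x).obj B).obj.map g.op s := by
  let i := X.fromSpecResidueField x
  obtain ⟨p, hp⟩ := exists_pt_of_mem_range i V v (by simpa [i, Scheme.range_fromSpecResidueField] using hv)
  haveI : Sheaf.IsLocallySurjective φ := (Sheaf.isLocallySurjective_iff_epi' _ φ).2 inferInstance
  obtain ⟨U, g, u, ⟨a, ha⟩, hu⟩ := H18Et.Subterminal.exists_mem_of_cover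
    (Presheaf.imageSieve_mem _ φ.hom s) p
  let ζ := H18Et.geomPt (U.hom u)
  obtain ⟨z, hz⟩ := H18Et.exists_fiber_over u ζ (H18Et.geomPt_base _)
  obtain ⟨V', h, α, y, hαg, hy⟩ := H18Et.exists_nbhd_lift (liftsEtaleUniv_fromSpecResidueField x) ζ V U g z
  refine ⟨V', h, pullback.fst V'.hom i (H18Et.ptOf y), A.obj.map α.op a, ?_, ?_⟩
  · have h1 : α.left (H18Et.ptOf y) = u := (H18Et.ptOf_map α y).symm.trans ((congrArg H18Et.ptOf hy).trans hz)
    have h2 : ((EtCoh.bc i).map h).left (H18Et.ptOf y) = p := by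
      rw [← hαg]
      show g.left (α.left (H18Et.ptOf y)) = p
      rw [h1, hu]
    rw [← fst_bcMap i h, h2, hp]
  · show φ.hom.app (op ((EtCoh.bc i).obj V')) (A.obj.map α.op a) = B.obj.map ((EtCoh.bc i).map h).op s
    refine (NatTrans.naturality_apply φ.hom α.op a).trans ((congrArg (fun t => B.obj.map α.op t) ha).trans ?_)
    rw [← ConcreteCategory.comp_apply, ← Functor.map_comp, ← op_comp, hαg]
    rfl

variable [IsLocallyNoetherian X]

/-- Away from `x` the direct images from a maximal point `x` vanish near maximal points. -/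
theorem notMem_supp_skyPush {x : X} (B : EtCoh.Ab (Spec (X.residueField x))) (V : X.Etale)
    (s : EtCoh.sect ((Dix.skyPush X x).obj B) V) (v : V.left) (hv : IsMaxPt v) (hne : V.hom v ≠ x) :
    v ∉ EtShriek.sectSupp ((Dix.skyPush X x).obj B) V s := by
  let O : V.left.Opens := ⟨(V.hom.base ⁻¹' closure {x})ᶜ, (isClosed_closure.preimage V.hom.continuous).isOpen_compl⟩
  have hvO : v ∈ O := fun h => hne (((isMaxPt_hom_iff V v).2 hv x (specializes_iff_mem_closure.2 h)).symm)
  refine notMem_supp_of_map (subι V O) (⟨v, hvO⟩ : (sub V O).left) ?_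
  haveI : IsEmpty ((EtCoh.bc (X.fromSpecResidueField x)).obj (sub V O)).left := ⟨fun p => by
    have h1 := hom_fst (X.fromSpecResidueField x) (sub V O) p
    rw [Scheme.fromSpecResidueField_apply] at h1
    refine ((pullback.fst (sub V O).hom (X.fromSpecResidueField x)) p).2 ?_
    show V.hom _ ∈ closure {x}
    show V.hom (((pullback.fst (sub V O).hom (X.fromSpecResidueField x)) p).1) ∈ closure {x}
    rw [show V.hom (((pullback.fst (sub V O).hom (X.fromSpecResidueField x)) p).1) = x from h1]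
    exact subset_closure rfl⟩
  haveI : Subsingleton (EtCoh.sect ((Dix.skyPush X x).obj B) (sub V O)) :=
    H18Et.subsingleton_sect_of_isEmpty B _ inferInstance
  rw [Subsingleton.elim (((Dix.skyPush X x).obj B).obj.map (subι V O).op s) 0]
  exact notMem_supp_zero_sect _

variable [AlgebraicGeometry.IsNoetherian X]

/-- Sheaves vanishing at the maximal points of a curve with separably closed closed points are acyclic. -/
theorem subsingleton_H_of_maxPts (hdim : topologicalKrullDim X ≤ 1)
    (hcl : ∀ x : X, IsClosed ({x} : Set X) → IsSepClosed (X.residueField x)) (F : EtCoh.Ab X)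
    (h : ∀ (V : X.Etale) (s : EtCoh.sect F V) (v : V.left), IsMaxPt v → v ∉ EtShriek.sectSupp F V s) (n : ℕ) :
    Subsingleton (EtCoh.H X F (n + 1)) := by
  obtain ⟨e⟩ := nonempty_iso_coprod_closed F fun V s v hv =>
    isClosed_of_dim_le_one hdim fun hm => h V s v ((isMaxPt_hom_iff V v).1 hm) hv
  refine subsingleton_H_of_iso' e _ (subsingleton_H_coprod _ _ fun j => ?_)
  haveI := hcl j.down.1 j.down.2
  exact subsingleton_H_skyPush_sepClosed X j.down.1 _ n

/-- The cokernel of a direct image of an epimorphism vanishes at the maximal points. -/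
theorem notMem_supp_coker_push {x : X} {A B : EtCoh.Ab (Spec (X.residueField x))} (φ : A ⟶ B) [Epi φ]
    (V : X.Etale) (s : EtCoh.sect (cokernel ((Dix.skyPush X x).map φ)) V) (v : V.left) (hv : IsMaxPt v) :
    v ∉ EtShriek.sectSupp (cokernel ((Dix.skyPush X x).map φ)) V s := by
  let π := cokernel.π ((Dix.skyPush X x).map φ)
  haveI : Sheaf.IsLocallySurjective π := (Sheaf.isLocallySurjective_iff_epi' _ π).2 inferInstance
  obtain ⟨V₁, g₁, v₁, ⟨b, hb⟩, rfl⟩ := H18Et.Subterminal.exists_mem_of_cover (Presheaf.imageSieve_mem _ π.hom s) v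
  have hv₁ := (isMaxPt_map_iff g₁ v₁).1 hv
  refine notMem_supp_of_map g₁ v₁ ?_
  change v₁ ∉ EtShriek.sectSupp _ V₁ ((cokernel ((Dix.skyPush X x).map φ)).obj.map g₁.op s)
  rw [show (cokernel ((Dix.skyPush X x).map φ)).obj.map g₁.op s = π.hom.app (op V₁) b from hb.symm]
  by_cases hx : V₁.hom v₁ = x
  · obtain ⟨W, g, w, t, rfl, ht⟩ := exists_lift_push x φ V₁ b v₁ hx
    refine notMem_supp_of_map g w ?_
    rw [← app_res, ← ht, ← ConcreteCategory.comp_apply, ← NatTrans.comp_app,
      ← ObjectProperty.FullSubcategory.comp_hom, cokernel.condition]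
    exact notMem_supp_zero_sect _
  · exact notMem_supp_app π (notMem_supp_skyPush B V₁ b v₁ hv₁ hx)

/-- Direct images from a maximal point of sheaves of cohomological dimension one have no cohomology
above degree two. -/
theorem subsingleton_H_skyPush_ge_three (hdim : topologicalKrullDim X ≤ 1)
    (hcl : ∀ x : X, IsClosed ({x} : Set X) → IsSepClosed (X.residueField x)) (x : X)
    (G : EtCoh.Ab (Spec (X.residueField x)))
    (hR : ∀ (j : ℕ) (P : X.Etale) [IsAffine P.left]
      (z : Ext ((H18Et.FreeSheaf.free _).obj ((EtCoh.bc (X.fromSpecResidueField x)).obj P)) G (j + 2)), z = 0)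
    (hH : ∀ j : ℕ, Subsingleton (EtCoh.H (Spec (X.residueField x)) G (j + 2))) (n : ℕ) :
    Subsingleton (EtCoh.H X ((Dix.skyPush X x).obj G) (n + 3)) := by
  let f := X.fromSpecResidueField x
  haveI := H18Et.pull_preservesFiniteLimits f
  haveI := EtTors.preservesFiniteLimits_push f
  let ι := Injective.ι G
  let q := cokernel.π ι
  have hS : (ShortComplex.mk ((EtCoh.push f).map ι) (cokernel.π _) (cokernel.condition _)).ShortExact :=
    { exact := ShortComplex.exact_cokernel _, mono_f := inferInstanceAs (Mono ((EtCoh.push f).map ι)),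
      epi_g := inferInstanceAs (Epi (cokernel.π _)) }
  have hS' : (ShortComplex.mk ι q (cokernel.condition _)).ShortExact :=
    { exact := ShortComplex.exact_cokernel _, mono_f := inferInstanceAs (Mono ι), epi_g := inferInstanceAs (Epi q) }
  haveI := EtTors.injective_push f (Injective.under G)
  let κ := cokernel.desc ((EtCoh.push f).map ι) ((EtCoh.push f).map q)
    (by rw [← Functor.map_comp, cokernel.condition, Functor.map_zero])
  haveI : Mono κ := EtTors.mono_desc_push f G
  have hK : (ShortComplex.mk κ (cokernel.π κ) (cokernel.condition _)).ShortExact :=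
    { exact := ShortComplex.exact_cokernel _, mono_f := inferInstanceAs (Mono κ),
      epi_g := inferInstanceAs (Epi (cokernel.π κ)) }
  let e : cokernel κ ≅ cokernel ((EtCoh.push f).map q) :=
    (cokernelEpiComp (cokernel.π ((EtCoh.push f).map ι)) κ).symm ≪≫ cokernelIsoOfEq (cokernel.π_desc _ _ _)
  have hC : Subsingleton (EtCoh.H X (cokernel κ) (n + 1)) :=
    subsingleton_H_of_iso' e _ (subsingleton_H_of_maxPts hdim hcl _ (notMem_supp_coker_push q) n)
  have hQR : ∀ (i : ℕ) (P : X.Etale) [IsAffine P.left]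
      (z : Ext ((H18Et.FreeSheaf.free _).obj ((EtCoh.bc f).obj P)) (cokernel ι) (i + 1)), z = 0 :=
    fun i P _ z => by
      obtain ⟨w, hw⟩ := Ext.covariant_sequence_exact₃ _ hS' z rfl (hR i P _)
      rw [← hw, Ext.eq_zero_of_injective w, Ext.zero_comp]
  have hQH : ∀ i : ℕ, Subsingleton (EtCoh.H _ (cokernel ι) (i + 1)) := fun i => subsingleton_of_forall_eq 0 fun z => by
    obtain ⟨w, hw⟩ := Ext.covariant_sequence_exact₃ _ hS' z rfl ((hH i).elim _ _)
    rw [← hw, Ext.eq_zero_of_injective w, Ext.zero_comp]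
  refine subsingleton_of_forall_eq 0 fun ξ => ?_
  obtain ⟨y, hy⟩ := Ext.covariant_sequence_exact₁ _ hS ξ (Ext.eq_zero_of_injective _) (rfl : (n + 2) + 1 = n + 3)
  obtain ⟨z, hz⟩ := Ext.covariant_sequence_exact₁ _ hK y
    ((subsingleton_H_push f (n + 1) (cokernel ι) hQR hQH).elim _ _) (rfl : (n + 1) + 1 = n + 2)
  rw [← hy, ← hz, hC.elim z 0, Ext.zero_comp, Ext.zero_comp]

/-- The components at the maximal points. -/
noncomputable abbrev ptComp (F : EtCoh.Ab X) (η : MaxPts X) : EtCoh.Ab X :=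
  compObj F (⟨η⟩ : ULift.{u + 1} {x : X // IsMaxPt x})

/-- `F ⟶ ∏ i_η* i_η⁻¹ F`. -/
noncomputable abbrev eR (F : EtCoh.Ab X) : F ⟶ ∏ᶜ ptComp F :=
  Pi.lift fun η => compMap F (⟨η⟩ : ULift.{u + 1} {x : X // IsMaxPt x})

theorem notMem_supp_kernel_eR (F : EtCoh.Ab X) (V : X.Etale) (s : EtCoh.sect (kernel (eR F)) V) (v : V.left)
    (hv : IsMaxPt v) : v ∉ EtShriek.sectSupp (kernel (eR F)) V s := by
  let η : MaxPts X := ⟨V.hom v, (isMaxPt_hom_iff V v).2 hv⟩
  let s' := (kernel.ι (eR F)).hom.app (op V) s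
  have h0 : (compMap F (⟨η⟩ : ULift.{u + 1} {x : X // IsMaxPt x})).hom.app (op V) s' = 0 := by
    have h1 : kernel.ι (eR F) ≫ compMap F (⟨η⟩ : ULift.{u + 1} {x : X // IsMaxPt x}) = 0 := by
      rw [← Pi.lift_π (fun η : MaxPts X => compMap F (⟨η⟩ : ULift.{u + 1} {x : X // IsMaxPt x})) η, kernel.condition_assoc,
        zero_comp]
    exact ConcreteCategory.congr_hom (congrArg (fun k => k.hom.app (op V)) h1) s
  have h1 := notMem_supp_of_compMap F (⟨η⟩ : ULift.{u + 1} {x : X // IsMaxPt x}) V s' h0 v rfl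
  simp only [EtShriek.sectSupp, Set.mem_ofPred_eq, not_forall, not_not] at h1 ⊢
  obtain ⟨W, g, hw, hg⟩ := h1
  refine ⟨W, g, hw, ?_⟩
  refine injective_app_of_mono (kernel.ι (eR F)) W ?_
  rw [map_zero, app_res]
  exact hg

theorem notMem_supp_coker_eR (F : EtCoh.Ab X) (V : X.Etale) (s : EtCoh.sect (cokernel (eR F)) V) (v : V.left)
    (hv : IsMaxPt v) : v ∉ EtShriek.sectSupp (cokernel (eR F)) V s := by
  haveI : Sheaf.IsLocallySurjective (cokernel.π (eR F)) :=
    (Sheaf.isLocallySurjective_iff_epi' _ (cokernel.π (eR F))).2 inferInstance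
  obtain ⟨V₁, g₁, v₁, ⟨a, ha⟩, rfl⟩ := H18Et.Subterminal.exists_mem_of_cover
    (Presheaf.imageSieve_mem _ (cokernel.π (eR F)).hom s) v
  have hv₁ := (isMaxPt_map_iff g₁ v₁).1 hv
  refine notMem_supp_of_map g₁ v₁ ?_
  rw [show (cokernel (eR F)).obj.map g₁.op s = (cokernel.π (eR F)).hom.app (op V₁) a from ha.symm]
  let η : MaxPts X := ⟨V₁.hom v₁, (isMaxPt_hom_iff V₁ v₁).2 hv₁⟩
  let i := X.fromSpecResidueField η.1
  obtain ⟨p, hp⟩ := exists_pt_of_mem_range i V₁ v₁ (by simp [i, η, Scheme.range_fromSpecResidueField])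
  obtain ⟨Z, g, q, s₀, hq, hqs⟩ := exists_unit_near i F V₁ ((Pi.π (ptComp F) η).hom.app (op V₁) a) p
  let z : Z.left := (pullback.fst Z.hom i) q
  have hz : g.left z = v₁ := by rw [← hp, ← hq, fst_bcMap]
  have hzmax : IsMaxPt z := (isMaxPt_map_iff g z).1 (hz ▸ hv₁)
  obtain ⟨O, hzO, -, -, hu⟩ := exists_nbhd_uniq Z z (uniqGen_of_isMaxPt hzmax) ⊤ trivial
  let γ : sub Z O ⟶ V₁ := subι Z O ≫ g
  let w : (sub Z O).left := ⟨z, hzO⟩
  have hw : γ.left w = v₁ := hz
  refine hw ▸ notMem_supp_of_map γ w ?_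
  have key : (eR F).hom.app (op (sub Z O)) (F.obj.map (subι Z O).op s₀) = (∏ᶜ ptComp F).obj.map γ.op a := by
    refine pi_sect_ext _ _ _ fun ν => eq_res_of_supp (V := (EtCoh.bc (X.fromSpecResidueField ν.1)).obj (sub Z O))
      fun r => ?_
    have hr : IsMaxPt ((pullback.fst (sub Z O).hom (X.fromSpecResidueField ν.1)) r) := by
      refine (isMaxPt_hom_iff (sub Z O) _).1 ?_
      rw [hom_fst, Scheme.fromSpecResidueField_apply]
      exact ν.2
    have hrw : ((pullback.fst (sub Z O).hom (X.fromSpecResidueField ν.1)) r) = w :=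
      Subtype.ext (hu _ z ((isMaxPt_map_iff (subι Z O) _).2 hr) hzmax
        ((pullback.fst (sub Z O).hom (X.fromSpecResidueField ν.1)) r).2 hzO)
    obtain rfl : ν = η := Subtype.ext (by
      have h1 := hom_fst (X.fromSpecResidueField ν.1) (sub Z O) r
      rw [hrw, Scheme.fromSpecResidueField_apply] at h1
      refine h1.symm.trans ?_
      exact (hom_left γ w).symm.trans (congrArg V₁.hom hw))
    have hrq : ((EtCoh.bc i).map (subι Z O)).left r = q := fst_injective i Z (by rw [fst_bcMap, hrw]; rfl)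
    have h2 := notMem_supp_map ((EtCoh.bc i).map (subι Z O)) r (hrq ▸ hqs)
    rw [map_sub, unit_res, ← Functor.map_comp_apply, ← op_comp, ← Functor.map_comp] at h2
    have e1 : (Pi.π (ptComp F) η).hom.app (op (sub Z O))
        ((eR F).hom.app (op (sub Z O)) (F.obj.map (subι Z O).op s₀)) = unit i F (sub Z O) (F.obj.map (subι Z O).op s₀) :=
      ConcreteCategory.congr_hom (congrArg (fun k => k.hom.app (op (sub Z O)))
        (Pi.lift_π (fun η : MaxPts X => compMap F (⟨η⟩ : ULift.{u + 1} {x : X // IsMaxPt x})) η)) _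
    have e2 : (Pi.π (ptComp F) η).hom.app (op (sub Z O)) ((∏ᶜ ptComp F).obj.map γ.op a) =
        (ptComp F η).obj.map γ.op ((Pi.π (ptComp F) η).hom.app (op V₁) a) :=
      NatTrans.naturality_apply (Pi.π (ptComp F) η).hom γ.op a
    rw [e1, e2]
    exact h2
  rw [← app_res, ← key, ← ConcreteCategory.comp_apply, ← NatTrans.comp_app,
    ← ObjectProperty.FullSubcategory.comp_hom, cokernel.condition]
  exact notMem_supp_zero_sect _

/-- Sheaves of cohomological dimension one at the maximal points have no cohomology above degree two. -/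
theorem subsingleton_H_ge_three (hdim : topologicalKrullDim X ≤ 1)
    (hcl : ∀ x : X, IsClosed ({x} : Set X) → IsSepClosed (X.residueField x)) (F : EtCoh.Ab X)
    (hR : ∀ (x : X), IsMaxPt x → ∀ (j : ℕ) (W : (Spec (X.residueField x)).Etale) [CompactSpace W.left]
      (z : Ext ((H18Et.FreeSheaf.free _).obj W) ((EtCoh.pull (X.fromSpecResidueField x)).obj F) (j + 2)), z = 0)
    (hH : ∀ (x : X), IsMaxPt x → ∀ j : ℕ,
      Subsingleton (EtCoh.H (Spec (X.residueField x)) ((EtCoh.pull (X.fromSpecResidueField x)).obj F) (j + 2)))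
    (n : ℕ) : Subsingleton (EtCoh.H X F (n + 3)) := by
  classical
  haveI := finite_isMaxPt X
  haveI := Fintype.ofFinite (MaxPts X)
  let g := Abelian.factorThruImage (eR F)
  let m := Abelian.image.ι (eR F)
  have hgm : g ≫ m = eR F := Abelian.image.fac (eR F)
  have hS₁ : (ShortComplex.mk (kernel.ι (eR F)) g (by
      rw [← cancel_mono m, Category.assoc, hgm, kernel.condition, zero_comp])).ShortExact := by
    letI S₁ : ShortComplex (EtCoh.Ab X) := ShortComplex.mk (kernel.ι (eR F)) g (by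
      rw [← cancel_mono m, Category.assoc, hgm, kernel.condition, zero_comp])
    haveI : Mono S₁.f := inferInstanceAs (Mono (kernel.ι (eR F)))
    haveI : Epi S₁.g := inferInstanceAs (Epi g)
    refine ⟨ShortComplex.exact_of_f_is_kernel _ (KernelFork.IsLimit.ofι _ _
      (fun x hx => kernel.lift (eR F) x (by rw [← hgm, ← Category.assoc, hx, zero_comp]))
      (fun x hx => kernel.lift_ι _ _ _) (fun x hx l hl => ?_))⟩
    rw [← cancel_mono (kernel.ι (eR F)), kernel.lift_ι]
    exact hl
  have hS₂ : (ShortComplex.mk m (cokernel.π (eR F)) (by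
      rw [← cancel_epi g, ← Category.assoc, hgm, cokernel.condition, comp_zero])).ShortExact :=
    { exact := ShortComplex.exact_kernel (cokernel.π (eR F)), mono_f := inferInstanceAs (Mono m),
      epi_g := inferInstanceAs (Epi (cokernel.π (eR F))) }
  have hK : Subsingleton (EtCoh.H X (kernel (eR F)) (n + 3)) :=
    subsingleton_H_of_maxPts hdim hcl _ (notMem_supp_kernel_eR F) (n + 2)
  have hC : Subsingleton (EtCoh.H X (cokernel (eR F)) (n + 2)) :=
    subsingleton_H_of_maxPts hdim hcl _ (notMem_supp_coker_eR F) (n + 1)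
  have hP : Subsingleton (EtCoh.H X (∏ᶜ ptComp F) (n + 3)) := subsingleton_of_forall_eq 0 fun y => by
    rw [eq_sum_H_pi (ptComp F) (n + 3) y]
    refine Finset.sum_eq_zero fun η _ => ?_
    haveI : Subsingleton (EtCoh.H X (ptComp F η) (n + 3)) :=
      subsingleton_H_skyPush_ge_three hdim hcl η.1 _ (fun j P _ z => by
        haveI := EtTors.compactSpace_bc_point X η.1 P
        exact hR η.1 η.2 j _ z) (hH η.1 η.2) n
    rw [Subsingleton.elim (Sheaf.H.map (Pi.π (ptComp F) η) (n + 3) y) 0, map_zero]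
  refine subsingleton_of_forall_eq 0 fun ξ => ?_
  have h1 : ξ.comp (Ext.mk₀ g) (add_zero (n + 3)) = 0 := by
    obtain ⟨z, hz⟩ := Ext.covariant_sequence_exact₁ _ hS₂ (ξ.comp (Ext.mk₀ g) (add_zero (n + 3)))
      (hP.elim _ _) (rfl : (n + 2) + 1 = n + 3)
    rw [← hz, hC.elim z 0, Ext.zero_comp]
  obtain ⟨z, hz⟩ := Ext.covariant_sequence_exact₂ _ hS₁ ξ h1
  rw [← hz, hK.elim z 0, Ext.zero_comp]

end Groth.Agent.H05EGA4.EtCl
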