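import Groth.Agent.H05EGA4.EtCl.Divisible
import Groth.Agent.H05EGA4.EtCl.CurveTors
import Groth.Agent.H18Et.UnitConst
import Groth.Agent.H18Et.EtaleNormalScheme

/-!
# Constant sheaves on normal Noetherian schemes are direct images from the maximal points
-/

set_option autoImplicit false
set_option linter.style.haveILetI false
set_option linter.unusedSectionVars false
set_option linter.overlappingInstances false
set_option backward.isDefEq.respectTransparency false
set_option backward.isDefEq.respectTransparency.types false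

universe u

open CategoryTheory CategoryTheory.Limits AlgebraicGeometry Opposite Abelian TopologicalSpace

namespace Groth.Agent.H05EGA4.EtCl

open Groth.Agent.H18Et Groth.Agent.H18Et.ConstSheaf
open scoped Groth.Agent.H18Et

variable {X : Scheme.{u}} [AlgebraicGeometry.IsNoetherian X]

theorem isIso_eR_const (hN : ∀ x : X, IsDomain (X.presheaf.stalk x) ∧ IsIntegrallyClosed (X.presheaf.stalk x))
    {G : EtCoh.Ab X} {M : Type*} [Zero M] {c : M → EtCoh.sect G (EtCoh.top X)} (hc : IsConstant G c)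
    (hc0 : c 0 = 0) : IsIso (eR G) := by
  classical
  have hcomp : ∀ {V : X.Etale} (s : EtCoh.sect G V) (η : MaxPts X),
      (Pi.π (ptComp G) η).hom.app (op V) ((eR G).hom.app (op V) s) =
        (compMap G (⟨η⟩ : ULift.{u + 1} {x : X // IsMaxPt x})).hom.app (op V) s := fun {V} s η =>
    ConcreteCategory.congr_hom (congrArg (fun k => k.hom.app (op V))
      (Pi.lift_π (fun η : MaxPts X => compMap G (⟨η⟩ : ULift.{u + 1} {x : X // IsMaxPt x})) η)) s
  haveI : Mono (eR G) := mono_of_eq_zero _ fun V s hs => eq_zero_of_supp fun v => by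
    obtain ⟨m, V', g, ⟨v', rfl⟩, e⟩ := exists_mem_locus hc s v
    refine notMem_supp_of_map g v' ?_
    obtain ⟨w, hw, -⟩ := exists_isMaxPt v'
    have h1 : w ∉ EtShriek.sectSupp G V' (G.obj.map g.op s) := notMem_supp_map g w <|
      notMem_supp_of_compMap G (⟨⟨V.hom (g.left w), (isMaxPt_hom_iff V _).2 ((isMaxPt_map_iff g w).2 hw)⟩⟩ :
        ULift.{u + 1} {x : X // IsMaxPt x}) V s (by rw [← hcomp, hs, map_zero]) _ rfl
    rw [e] at h1 ⊢
    obtain ⟨y, hy⟩ := exists_fiber_over w (geomPt (V'.hom w)) (geomPt_base _)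
    rw [← hy, ← germ_eq_zero_iff] at h1
    have hm : m = 0 := (hc _ _ V' y).1 (h1.trans (by
      show (0 : _) = germ _ G V' y (rest G V' (c 0))
      rw [hc0, rest, map_zero, map_zero]))
    rw [hm, hc0, rest, map_zero]
    exact notMem_supp_zero_sect _
  haveI : Epi (eR G) := epi_of_local _ fun V s v => by
    haveI : Etale V.hom := V.prop
    obtain ⟨O, hvO, -, -, hu⟩ := exists_nbhd_uniq V v
      (uniqGen_of_isDomain v (H18Et.EtaleNormalScheme.isNormalScheme_of_etale V.hom hN v).1) ⊤ trivial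
    let W := sub V O
    obtain ⟨w₀, hw₀, hsp⟩ := exists_isMaxPt v
    have hw₀O : w₀ ∈ O := hsp.mem_open O.isOpen hvO
    let η₀ : MaxPts X := ⟨V.hom w₀, (isMaxPt_hom_iff V w₀).2 hw₀⟩
    let i := X.fromSpecResidueField η₀.1
    obtain ⟨p, hp⟩ := exists_pt_of_mem_range i W ⟨w₀, hw₀O⟩
      (by rw [Scheme.range_fromSpecResidueField]; exact hom_left (subι V O) ⟨w₀, hw₀O⟩ ▸ rfl)
    let a : EtCoh.sect ((EtCoh.pull i).obj G) ((EtCoh.bc i).obj W) :=
      (Pi.π (ptComp G) η₀).hom.app (op W) ((∏ᶜ ptComp G).obj.map (subι V O).op s)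
    obtain ⟨y, hy⟩ := exists_fiber_over p (geomPt (((EtCoh.bc i).obj W).hom p)) (geomPt_base _)
    obtain ⟨m, hm⟩ := (isConstant_pullSec i hc _ _ _ y).2 (germ _ ((EtCoh.pull i).obj G) _ y a)
    refine ⟨W, subι V O, ⟨v, hvO⟩, rest G W (c m), rfl, pi_sect_ext _ _ _ fun ν =>
      eq_res_of_supp (V := (EtCoh.bc (X.fromSpecResidueField ν.1)).obj W) fun r => ?_⟩
    have hr : IsMaxPt ((pullback.fst W.hom (X.fromSpecResidueField ν.1)) r) := by
      refine (isMaxPt_hom_iff W _).1 ?_
      rw [hom_fst, Scheme.fromSpecResidueField_apply]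
      exact ν.2
    have hrw : ((pullback.fst W.hom (X.fromSpecResidueField ν.1)) r) = ⟨w₀, hw₀O⟩ :=
      Subtype.ext (hu _ w₀ ((isMaxPt_map_iff (subι V O) _).2 hr) hw₀
        ((pullback.fst W.hom (X.fromSpecResidueField ν.1)) r).2 hw₀O)
    obtain rfl : ν = η₀ := Subtype.ext (by
      have h1 := hom_fst (X.fromSpecResidueField ν.1) W r
      rw [hrw, Scheme.fromSpecResidueField_apply] at h1
      exact h1.symm.trans (hom_left (subι V O) _).symm)
    have hrp : r = p := fst_injective i W (hrw.trans hp.symm)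
    subst hrp
    rw [← hy, ← germ_eq_zero_iff, map_sub, sub_eq_zero, hcomp]
    refine Eq.trans ?_ hm
    exact congrArg (germ _ ((EtCoh.pull i).obj G) _ y) (unit_rest i G W (c m))
  exact isIso_of_mono_of_epi _

/-- `ℚ` has no higher cohomology on normal Noetherian schemes. -/
theorem subsingleton_H_const_rat (hN : ∀ x : X, IsDomain (X.presheaf.stalk x) ∧ IsIntegrallyClosed (X.presheaf.stalk x))
    (n : ℕ) : Subsingleton (EtCoh.H X (EtCoh.const X ℚ) (n + 1)) := by
  classical
  haveI := finite_isMaxPt X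
  haveI := Fintype.ofFinite (MaxPts X)
  let C := constantSheaf X.smallEtaleTopology AddCommGrpCat.{u + 1}
  let Q := AddCommGrpCat.of (ULift.{u + 1} ℚ)
  have hdiv : UDiv (EtCoh.const X ℚ) := fun m hm => by
    haveI : C.Additive := inferInstance
    haveI : IsIso (m • 𝟙 Q) := (ConcreteCategory.isIso_iff_bijective _).2 <| by
      have hv : ∀ x : Q, (m • 𝟙 Q) x = m • x := fun x => rfl
      refine ⟨fun x y e => ?_, fun y => ⟨⟨y.down / m⟩, ?_⟩⟩
      · rw [hv, hv] at e
        refine ULift.ext _ _ (mul_left_cancel₀ (Nat.cast_ne_zero.2 hm.ne' : (m : ℚ) ≠ 0) ?_)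
        rw [← nsmul_eq_mul, ← nsmul_eq_mul]
        exact congrArg ULift.down e
      · rw [hv]
        refine ULift.ext _ _ ?_
        show m • (y.down / m) = y.down
        rw [nsmul_eq_mul, mul_div_cancel₀ _ (Nat.cast_ne_zero.2 hm.ne')]
    have e : C.map (m • 𝟙 Q) = m • 𝟙 (C.obj Q) :=
      (Functor.map_nsmul C).trans (congrArg (m • ·) (C.map_id Q))
    show IsIso (m • 𝟙 (C.obj Q))
    rw [← e]
    infer_instance
  haveI := isIso_eR_const hN (isConstant_unitTop Q) (map_zero _)
  refine subsingleton_H_of_iso' (asIso (eR (EtCoh.const X ℚ))) _ (subsingleton_of_forall_eq 0 fun x => ?_)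
  rw [eq_sum_H_pi (ptComp (EtCoh.const X ℚ)) (n + 1) x]
  refine Finset.sum_eq_zero fun η _ => ?_
  haveI : Subsingleton (EtCoh.H X (ptComp (EtCoh.const X ℚ) η) (n + 1)) :=
    subsingleton_H_skyPush_uDiv η.1 _ (uDiv_map _ hdiv) n
  rw [Subsingleton.elim (Sheaf.H.map (Pi.π (ptComp (EtCoh.const X ℚ)) η) (n + 1) x) 0, map_zero]

end Groth.Agent.H05EGA4.EtCl
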