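import Groth.Agent.H05EGA4.EtCl.Primary
import Groth.Agent.H1DFun.StalkRpush
import Mathlib.CategoryTheory.Abelian.RightDerived

/-!
# Stalks of the cokernels of direct images of injective envelopes

These are the higher direct images, computed on the strict localisations.
-/

set_option autoImplicit false
set_option linter.style.haveILetI false
set_option linter.unusedSectionVars false
set_option linter.overlappingInstances false
set_option backward.isDefEq.respectTransparency false
set_option backward.isDefEq.respectTransparency.types false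

universe u

open CategoryTheory CategoryTheory.Limits AlgebraicGeometry Opposite Abelian

namespace Groth.Agent.H05EGA4.EtCl

open scoped Groth.Agent.H18Et

variable {X Y : Scheme.{u}}

/-- The cosyzygies. -/
noncomputable def cz : ℕ → EtCoh.Ab Y → EtCoh.Ab Y
  | 0, G => G
  | j + 1, G => cz j (cokernel (Injective.ι G))

theorem shortExact_cz (G : EtCoh.Ab Y) :
    (ShortComplex.mk (Injective.ι G) (cokernel.π (Injective.ι G)) (cokernel.condition _)).ShortExact :=
  { exact := ShortComplex.exact_cokernel _, mono_f := inferInstanceAs (Mono (Injective.ι G)),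
    epi_g := inferInstanceAs (Epi (cokernel.π _)) }

/-- The first higher direct image. -/
noncomputable abbrev rOne (f : Y ⟶ X) (G : EtCoh.Ab Y) : EtCoh.Ab X :=
  cokernel ((EtCoh.push f).map (cokernel.π (Injective.ι G)))

theorem nsmul_extComp {C : Type*} [Category C] [Abelian C] [HasExt C] {A B D : C} {a b c : ℕ} (x : Ext A B a)
    (y : Ext B D b) (h : a + b = c) (m : ℕ) : (m • x).comp y h = m • x.comp y h :=
  map_nsmul (y.postcomp A h) m x

variable (f : Y ⟶ X) [QuasiCompact f] [QuasiSeparated f] (s : X) (R : Type u) [CommRing R] [IsLocalRing R]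
  [Algebra (X.presheaf.stalk s) R] [IsLocalHom (algebraMap (X.presheaf.stalk s) R)]
  [Hensel.IsStrictHenselization (X.presheaf.stalk s) R] [IsSepClosed (IsLocalRing.ResidueField R)]

include f s R

theorem subsingleton_H_pull_injective (I : EtCoh.Ab Y) [Injective I] (k : ℕ) :
    Subsingleton (EtCoh.H (pullback f (Hens2.specOf X s R))
      ((EtCoh.pull (pullback.fst f (Hens2.specOf X s R))).obj I) (k + 1)) := by
  obtain ⟨θ⟩ := H1DFun.nonempty_Rpush_geomPt_iso f s R (k + 1)
  have h1 : IsZero ((EtCoh.Rpush f (k + 1)).obj I) := Functor.isZero_rightDerived_obj_injective_succ _ k I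
  have h2 : IsZero ((EtCoh.Rpush f (k + 1) ⋙ EtCoh.stalk (Hens2.geomPt X s R)).obj I) :=
    Functor.map_isZero (EtCoh.stalk (Hens2.geomPt X s R)) h1
  exact AddCommGrpCat.isZero_iff_subsingleton.1 (h2.of_iso (θ.app I).symm)

theorem exists_H_of_cz : ∀ (j k : ℕ) (G : EtCoh.Ab Y)
    (w : EtCoh.H (pullback f (Hens2.specOf X s R))
      ((EtCoh.pull (pullback.fst f (Hens2.specOf X s R))).obj (cz j G)) (k + 1)),
    ∃ w' : EtCoh.H (pullback f (Hens2.specOf X s R))
      ((EtCoh.pull (pullback.fst f (Hens2.specOf X s R))).obj G) (k + j + 1),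
      ∀ m : ℕ, m • w' = 0 → m • w = 0
  | 0, _, _, w => ⟨w, fun _ h => h⟩
  | j + 1, k, G, w => by
    let g := pullback.fst f (Hens2.specOf X s R)
    haveI := H18Et.pull_preservesFiniteLimits g
    obtain ⟨w₁, hw₁⟩ := exists_H_of_cz j k (cokernel (Injective.ι G)) w
    have hS := (shortExact_cz G).map_of_exact (EtCoh.pull g)
    refine ⟨(w₁.comp hS.extClass (rfl : k + j + 1 + 1 = k + (j + 1) + 1)), fun m hm => hw₁ m ?_⟩
    have hm' : (m • w₁).comp hS.extClass (rfl : k + j + 1 + 1 = k + (j + 1) + 1) = 0 := (nsmul_extComp _ _ _ m).trans hm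
    obtain ⟨b, hb⟩ := Ext.covariant_sequence_exact₃ _ hS (m • w₁) _ hm'
    haveI := subsingleton_H_pull_injective f s R (Injective.under G) (k + j)
    rw [← hb, Subsingleton.elim (α := EtCoh.H _ ((EtCoh.pull g).obj (Injective.under G)) (k + j + 1)) b 0,
      Ext.zero_comp]

theorem exists_H_one_of_stalk (G : EtCoh.Ab Y)
    (p : (EtCoh.stalk (Hens2.geomPt X s R)).obj (rOne f G)) :
    ∃ w : EtCoh.H (pullback f (Hens2.specOf X s R))
      ((EtCoh.pull (pullback.fst f (Hens2.specOf X s R))).obj G) 1,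
      ∀ m : ℕ, m • w = 0 → m • p = 0 := by
  let g := pullback.fst f (Hens2.specOf X s R)
  haveI := H18Et.pull_preservesFiniteLimits g
  haveI : PreservesFiniteLimits (EtCoh.push f) := by
    haveI : (EtCoh.push f).IsRightAdjoint := ⟨_, ⟨EtCoh.pullPushAdj f⟩⟩
    infer_instance
  obtain ⟨θ⟩ := H1DFun.nonempty_Rpush_geomPt_iso f s R 0
  let σ := EtCoh.stalk (Hens2.geomPt X s R)
  let η : EtCoh.push f ⋙ σ ≅ EtCoh.pull g ⋙ EtCoh.HF (pullback f (Hens2.specOf X s R)) 0 :=
    Functor.isoWhiskerRight (EtCoh.push f).rightDerivedZeroIsoSelf.symm σ ≪≫ θ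
  let q := cokernel.π (Injective.ι G)
  let π := cokernel.π ((EtCoh.push f).map q)
  haveI : Epi (σ.map π) := inferInstance
  obtain ⟨a, rfl⟩ := (AddCommGrpCat.epi_iff_surjective (σ.map π)).1 inferInstance p
  have hS := (shortExact_cz G).map_of_exact (EtCoh.pull g)
  let a' : EtCoh.H (pullback f (Hens2.specOf X s R)) ((EtCoh.pull g).obj (cokernel (Injective.ι G))) 0 :=
    η.hom.app _ a
  refine ⟨a'.comp hS.extClass (rfl : 0 + 1 = 1), fun m hm => ?_⟩
  obtain ⟨b, hb⟩ := Ext.covariant_sequence_exact₃ _ hS (m • a') _ ((nsmul_extComp a' hS.extClass (rfl : 0 + 1 = 1) m).trans hm)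
  have key : m • a = σ.map ((EtCoh.push f).map q) (η.inv.app _ b) := by
    refine (η.app (cokernel (Injective.ι G))).addCommGroupIsoToAddEquiv.injective ?_
    rw [map_nsmul]
    refine hb.symm.trans ?_
    refine Eq.trans ?_ (NatTrans.naturality_apply η.hom q _).symm
    exact (congrArg ((EtCoh.pull g ⋙ EtCoh.HF (pullback f (Hens2.specOf X s R)) 0).map q)
      (ConcreteCategory.congr_hom (η.inv_hom_id_app (Injective.under G)) b)).symm
  rw [← map_nsmul, key, ← ConcreteCategory.comp_apply, ← Functor.map_comp, cokernel.condition, Functor.map_zero]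
  rfl

theorem exists_H_of_stalk (j : ℕ) (G : EtCoh.Ab Y)
    (p : (EtCoh.stalk (Hens2.geomPt X s R)).obj (rOne f (cz j G))) :
    ∃ w : EtCoh.H (pullback f (Hens2.specOf X s R))
      ((EtCoh.pull (pullback.fst f (Hens2.specOf X s R))).obj G) (j + 1),
      ∀ m : ℕ, m • w = 0 → m • p = 0 := by
  obtain ⟨w₁, h₁⟩ := exists_H_one_of_stalk f s R (cz j G) p
  obtain ⟨w, h⟩ := exists_H_of_cz f s R j 0 G w₁
  have e : 0 + j + 1 = j + 1 := by omega
  revert w h
  rw [e]
  exact fun w h => ⟨w, fun m hm => h₁ m (h m hm)⟩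

end Groth.Agent.H05EGA4.EtCl
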