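import Groth.Agent.H05EGA4.EtCl.Max
import Groth.Agent.H05EGA4.EtH90.Pic
import Groth.Agent.H05EGA4.EtTateRes
import Groth.Agent.H05EGA4.EtTors.Push

/-!
# `R¹ f_* G_m = 0` for maps with discrete pullbacks
-/

set_option autoImplicit false
set_option linter.style.haveILetI false
set_option linter.unusedSectionVars false
set_option backward.isDefEq.respectTransparency false
set_option backward.isDefEq.respectTransparency.types false

universe u

open CategoryTheory CategoryTheory.Limits AlgebraicGeometry Opposite TopologicalSpace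

namespace Groth.Agent.H05EGA4.EtCl

open Groth.Agent.H05EGA4.EtH90
open Groth.Agent.H18Et.Subterminal (ofOpen)
open Groth.Agent.H18Et.EtaleRestrict (emap resPushAdj pullIso)
open scoped Groth.Agent.H18Et

/-- On a discrete scheme sections of the quotient by the units lift. -/
theorem exists_lift_discrete {W : Scheme.{u}} [DiscreteTopology W] {I Q : EtCoh.Ab W} {i : EtCoh.Gm W ⟶ I}
    {q : I ⟶ Q} {w : i ≫ q = 0} (hS : (ShortComplex.mk i q w).ShortExact) (t : EtCoh.sect Q (EtCoh.top W)) :
    ∃ r : osect I (⊤ : W.Opens), gq q ⊤ r = gs ⊤ t := by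
  choose V hxV r hr using fun x : W => EtH90.exists_lift i q w hS t x
  let O : W → W.Opens := fun x => ⟨{x}, isOpen_discrete _⟩
  have hO : ∀ x, O x ≤ V x := fun x y hy => by
    rw [Set.mem_singleton_iff.1 hy]
    exact hxV x
  obtain ⟨r', hr'⟩ := EtH90.exists_glue I O (W := ⊤) (fun _ => le_top) (fun x _ => ⟨x, rfl⟩)
    (fun x => ores I (hO x) (r x)) fun a b => by
      by_cases hab : a = b
      · subst hab; rfl
      · refine EtH90.eq_of_locally I (J := PEmpty.{1}) (W := O a ⊓ O b) (fun e => e.elim) (fun e => e.elim)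
          (fun x hx => absurd ((Set.mem_singleton_iff.1 hx.1).symm.trans (Set.mem_singleton_iff.1 hx.2)) hab) _ _
          fun e => e.elim
  refine ⟨r', EtH90.eq_of_locally Q O (fun _ => le_top) (fun x _ => ⟨x, rfl⟩) _ _ fun x => ?_⟩
  rw [← gq_res, hr', gq_res, hr, ores_gs, ores_gs]

variable {X Y : Scheme.{u}} (f : Y ⟶ X)

/-- `R¹ f_* G_m` vanishes. -/
theorem isZero_Rpush_one_of_discrete (hd : ∀ V : X.Etale, DiscreteTopology ((EtCoh.bc f).obj V).left) :
    IsZero ((EtCoh.Rpush f 1).obj (EtCoh.Gm Y)) := by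
  haveI : Epi ((EtCoh.push f).map (cokernel.π (Injective.ι (EtCoh.Gm Y)))) := by
    refine epi_of_local _ fun V s v => ?_
    let W : Y.Etale := (EtCoh.bc f).obj V
    haveI := hd V
    haveI : Etale W.hom := W.prop
    haveI : DiscreteTopology ((𝟭 Scheme).obj W.left) := hd V
    let k : W.left ⟶ Y := W.hom
    haveI : Etale k := W.prop
    haveI : PreservesFiniteLimits (H18Et.EtaleRestrict.res k) := by
      haveI := H18Et.pull_preservesFiniteLimits k
      exact preservesFiniteLimits_of_natIso (pullIso k)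
    haveI : PreservesFiniteColimits (H18Et.EtaleRestrict.res k) :=
      ⟨fun _ _ _ => (resPushAdj k).leftAdjoint_preservesColimits.preservesColimitsOfShape⟩
    haveI : (H18Et.EtaleRestrict.res k).Additive := Functor.additive_of_preserves_binary_products _
    let S := ShortComplex.mk (Injective.ι (EtCoh.Gm Y)) (cokernel.π (Injective.ι (EtCoh.Gm Y))) (cokernel.condition _)
    have hS : S.ShortExact :=
      { exact := ShortComplex.exact_cokernel _, mono_f := inferInstanceAs (Mono (Injective.ι (EtCoh.Gm Y))),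
        epi_g := inferInstanceAs (Epi (cokernel.π (Injective.ι (EtCoh.Gm Y)))) }
    let e := (EtTateRes.nonempty_res_Gm k).some
    have hS' : (ShortComplex.mk (e.inv ≫ (H18Et.EtaleRestrict.res k).map S.f) ((H18Et.EtaleRestrict.res k).map S.g)
        (by rw [Category.assoc, ← Functor.map_comp, S.zero, Functor.map_zero, comp_zero])).ShortExact :=
      ShortComplex.shortExact_of_iso (S₁ := S.map (H18Et.EtaleRestrict.res k))
        (ShortComplex.isoMk e (Iso.refl _) (Iso.refl _)
          (show e.hom ≫ e.inv ≫ (H18Et.EtaleRestrict.res k).map S.f = (H18Et.EtaleRestrict.res k).map S.f ≫ 𝟙 _ by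
            rw [Iso.hom_inv_id_assoc, Category.comp_id])
          (show 𝟙 _ ≫ (H18Et.EtaleRestrict.res k).map S.g = (H18Et.EtaleRestrict.res k).map S.g ≫ 𝟙 _ by
            rw [Category.id_comp, Category.comp_id]))
        (hS.map_of_exact (H18Et.EtaleRestrict.res k))
    let ι₀ : (emap k).obj (EtCoh.top W.left) ⟶ W :=
      MorphismProperty.Over.homMk (𝟙 W.left) rfl trivial
    let σ : W ⟶ (emap k).obj (ofOpen (⊤ : W.left.Opens)) :=
      MorphismProperty.Over.homMk W.left.topIso.inv (by
        show W.left.topIso.inv ≫ (⊤ : W.left.Opens).ι ≫ W.hom = W.hom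
        rw [← Scheme.topIso_hom, Iso.inv_hom_id_assoc]) trivial
    let t : EtCoh.sect ((H18Et.EtaleRestrict.res k).obj S.X₃) (EtCoh.top W.left) := S.X₃.obj.map ι₀.op s
    obtain ⟨r, hr⟩ := exists_lift_discrete hS' t
    refine ⟨V, 𝟙 V, v, S.X₂.obj.map σ.op r, rfl, ?_⟩
    refine Eq.trans ?_ (ConcreteCategory.congr_hom
      (((EtCoh.push f).obj (cokernel (Injective.ι (EtCoh.Gm Y)))).obj.map_id (op V)) s).symm
    show S.g.hom.app (op W) (S.X₂.obj.map σ.op r) = s
    refine (EtH90.res_app S.g σ r).trans ?_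
    refine (congrArg (EtH90.res S.X₃ σ) (show S.g.hom.app (op ((emap k).obj (ofOpen (⊤ : W.left.Opens)))) r =
      EtH90.res S.X₃ ((emap k).map ((EtCore.topIsTerminal W.left).from (ofOpen ⊤))) (EtH90.res S.X₃ ι₀ s) from hr)).trans ?_
    rw [EtH90.res_res, EtH90.res_res]
    have e1 : σ ≫ (emap k).map ((EtCore.topIsTerminal W.left).from (ofOpen ⊤)) ≫ ι₀ = 𝟙 W := by
      refine MorphismProperty.Over.Hom.ext ?_
      have e1 : ((EtCore.topIsTerminal W.left).from (ofOpen (⊤ : W.left.Opens))).left = (⊤ : W.left.Opens).ι :=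
        (Category.comp_id _).symm.trans (Over.w ((EtCore.topIsTerminal W.left).from (ofOpen (⊤ : W.left.Opens))).hom)
      show W.left.topIso.inv ≫ ((EtCore.topIsTerminal W.left).from (ofOpen (⊤ : W.left.Opens))).left ≫ 𝟙 _ = 𝟙 _
      rw [e1, Category.comp_id, ← Scheme.topIso_hom, Iso.inv_hom_id]
    refine (EtH90.res_congr S.X₃ e1 s).trans ?_
    exact ConcreteCategory.congr_hom (S.X₃.obj.map_id (op W)) s
  haveI := H18Et.pull_preservesFiniteLimits f
  obtain ⟨e⟩ := EtTors.nonempty_Rpush_one_iso_cokernel f (EtCoh.Gm Y)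
  exact (isZero_cokernel_of_epi ((EtCoh.push f).map (cokernel.π (Injective.ι (EtCoh.Gm Y))))).of_iso e

variable [IsLocallyNoetherian X]

/-- The pullbacks along the spectrum of the local ring at a maximal point are discrete. -/
theorem discrete_bc_jmax (η : MaxPts X) (V : X.Etale) : DiscreteTopology ((EtCoh.bc (jmax η)).obj V).left := by
  haveI : Etale V.hom := V.prop
  haveI : IsPreimmersion (jmax η) := inferInstanceAs (IsPreimmersion (X.fromSpecStalk η.1))
  haveI : IsPreimmersion (pullback.fst V.hom (jmax η)) :=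
    MorphismProperty.pullback_fst (P := @IsPreimmersion) _ _ inferInstance
  haveI := (V.hom.isDiscrete_preimage_singleton η.1).to_subtype
  let φ : ((EtCoh.bc (jmax η)).obj V).left → ↥(V.hom.base ⁻¹' {η.1}) := fun p => ⟨fstM η V p, hom_fstM η V p⟩
  exact DiscreteTopology.of_continuous_injective (f := φ) ((fstM η V).continuous.subtype_mk _)
    fun a b e => fst_injective (jmax η) V (congrArg Subtype.val e :)

theorem isZero_Rpush_one_jmax (η : MaxPts X) :
    IsZero ((EtCoh.Rpush (jmax η) 1).obj (EtCoh.Gm (Spec (X.presheaf.stalk η.1)))) :=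
  isZero_Rpush_one_of_discrete _ (discrete_bc_jmax η)

end Groth.Agent.H05EGA4.EtCl
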