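import Groth.Agent.H05EGA4.EtCl.Torsion
import Groth.Agent.H05EGA4.EtCl.Rone
import Groth.Agent.H05EGA4.EtTors.Vanish

/-!
# Restriction of `H²(G_m)` to the maximal points
-/

set_option autoImplicit false
set_option linter.style.haveILetI false
set_option linter.unusedSectionVars false
set_option backward.isDefEq.respectTransparency false
set_option backward.isDefEq.respectTransparency.types false

universe u

open CategoryTheory CategoryTheory.Limits AlgebraicGeometry Opposite Abelian

namespace Groth.Agent.H05EGA4.EtCl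

open scoped Groth.Agent.H18Et

variable {X : Scheme.{u}}

/-- A class restricting to zero at all maximal points vanishes when the classes have no first cohomology. -/
theorem restrict_injective [AlgebraicGeometry.IsNoetherian X] (hsep : SepMax X)
    (hCl : Subsingleton (EtCoh.H X (ClM X) 1))
    [∀ x : X, PreservesFiniteLimits (EtCoh.pull (X.fromSpecStalk x))] (ξ : EtCoh.H X (EtCoh.Gm X) 2)
    (hξ : ∀ x : X, (∀ y : X, y ⤳ x → y = x) → EtLim.HGmPull (X.fromSpecStalk x) 2 ξ = 0) : ξ = 0 := by
  classical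
  haveI := mono_eM (X := X) hsep
  have hS : (ShortComplex.mk (eM X) (cokernel.π (eM X)) (cokernel.condition _)).ShortExact :=
    { exact := ShortComplex.exact_cokernel _, mono_f := inferInstanceAs (Mono (eM X)),
      epi_g := inferInstanceAs (Epi (cokernel.π _)) }
  haveI := finite_isMaxPt X
  haveI := Fintype.ofFinite (MaxPts X)
  have h0 : Sheaf.H.map (eM X) 2 ξ = 0 := by
    rw [eq_sum_H_pi (Pfac X) 2 (Sheaf.H.map (eM X) 2 ξ)]
    refine Finset.sum_eq_zero fun η _ => ?_
    have h1 : Sheaf.H.map (Pi.π (Pfac X) η) 2 (Sheaf.H.map (eM X) 2 ξ) = Sheaf.H.map (EtLim.GmPush (jmax η)) 2 ξ := by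
      rw [← Sheaf.H.map_comp_apply]
      congr 3
      exact Pi.lift_π _ _
    have h2 : Sheaf.H.map (EtLim.GmPush (jmax η)) 2 ξ = 0 := by
      refine EtTors.injective_HofPush_two (jmax η) _ (isZero_Rpush_one_jmax η) ?_
      rw [map_zero]
      exact hξ η.1 η.2
    rw [h1, h2, map_zero]
  obtain ⟨z, rfl⟩ := Ext.covariant_sequence_exact₁ _ hS ξ h0 (rfl : 1 + 1 = 2)
  rw [hCl.elim z 0, Ext.zero_comp]

/-- The first cohomology of a separably closed field vanishes. -/
theorem subsingleton_H1_sepClosed (K : Type u) [Field K] [IsSepClosed K]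
    (F : EtCoh.Ab (Spec (CommRingCat.of K))) : Subsingleton (EtCoh.H (Spec (CommRingCat.of K)) F 1) := by
  refine H9GalCoh.H1Galois.subsingleton_H1 F fun L _ _ _ _ c hc => ?_
  have hs : ∀ s : L ≃ₐ[K] L, s = 1 := fun s => AlgEquiv.ext fun l => by
    obtain ⟨k, rfl⟩ := IsSepClosed.algebraMap_surjective K L l
    rw [AlgEquiv.commutes]
    rfl
  have h1 := hc 1 1
  rw [mul_one] at h1
  refine ⟨-(c 1), fun s => ?_⟩
  rw [hs s, map_neg, right_eq_add.1 h1, neg_zero, zero_sub, neg_neg]

theorem subsingleton_H1_skyPush_of_point [CompactSpace X] [QuasiSeparatedSpace X] (x : X)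
    (F : EtCoh.Ab (Spec (X.residueField x))) (h : Subsingleton (EtCoh.H (Spec (X.residueField x)) F 1)) :
    Subsingleton (EtCoh.H X ((Dix.skyPush X x).obj F) 1) := by
  haveI := H18Et.pull_preservesFiniteLimits (X.fromSpecResidueField x)
  refine subsingleton_of_forall_eq 0 fun y => ?_
  exact EtTors.injective_HofPush_one (X.fromSpecResidueField x) _ (h.elim _ _)

theorem subsingleton_H_of_iso {F G : EtCoh.Ab X} (e : F ≅ G) (n : ℕ) (h : Subsingleton (EtCoh.H X G n)) :
    Subsingleton (EtCoh.H X F n) := by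
  refine subsingleton_of_forall_eq 0 fun x => ?_
  rw [← Sheaf.H.map_id_apply (F := F) x, ← e.hom_inv_id, Sheaf.H.map_comp_apply,
    h.elim (Sheaf.H.map e.hom n x) 0, map_zero]

end Groth.Agent.H05EGA4.EtCl
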