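import Groth.Agent.H05EGA4.EtCl.CurvePoints
import Groth.Agent.H05EGA4.EtCl.PushVanish
import Groth.Agent.H05EGA4.EtCl.DimOne
import Groth.Agent.H05EGA4.EtCl.Restrict

/-!
# Étale cohomology of `G_m` on reduced curves over an algebraically closed field
-/

set_option autoImplicit false
set_option linter.style.haveILetI false
set_option linter.unusedSectionVars false
set_option backward.isDefEq.respectTransparency false
set_option backward.isDefEq.respectTransparency.types false

universe u

open CategoryTheory CategoryTheory.Limits AlgebraicGeometry Opposite Abelian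

namespace Groth.Agent.H05EGA4.EtCl

open scoped Groth.Agent.H18Et

variable {k : Type u} [Field k] [IsAlgClosed k] {X : Scheme.{u}} (f : X ⟶ Spec (CommRingCat.of k))
  [LocallyOfFiniteType f] [AlgebraicGeometry.IsNoetherian X] [IsReduced X]

include f

theorem subsingleton_H_Pfac (hdim : topologicalKrullDim X ≤ 1) (η : MaxPts X) (n : ℕ) :
    Subsingleton (EtCoh.H X (Pfac X η) (n + 1)) := by
  haveI := H18Et.pull_preservesFiniteLimits (jmax η)
  refine subsingleton_H_push (jmax η) n _ (fun i P _ z => ?_)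
    fun i => subsingleton_H_Gm_stalk f hdim η.1 η.2 (i + 1) i.succ_pos
  haveI : CompactSpace ((EtCoh.bc (jmax η)).obj P).left := (H18Et.Coh.qcqs_bc (jmax η) P).1
  letI : Field (X.presheaf.stalk η.1) := (isField_stalk_of_isMaxPt η.1 η.2).toField
  exact ext_Gm_eq_zero_of_isCi (K := X.presheaf.stalk η.1)
    (isCi_one_of_point f hdim (L := X.presheaf.stalk η.1) (X.fromSpecStalk η.1)) z

/-- `H^q(X, G_m) = 0` for `q ≥ 2`. -/
theorem subsingleton_H_Gm_curve (hdim : topologicalKrullDim X ≤ 1) (m : ℕ) :
    Subsingleton (EtCoh.H X (EtCoh.Gm X) (m + 2)) := by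
  classical
  haveI := mono_eM (X := X) sepMax_of_isReduced
  have hS : (ShortComplex.mk (eM X) (cokernel.π (eM X)) (cokernel.condition _)).ShortExact :=
    { exact := ShortComplex.exact_cokernel _, mono_f := inferInstanceAs (Mono (eM X)),
      epi_g := inferInstanceAs (Epi (cokernel.π _)) }
  haveI := finite_isMaxPt X
  haveI := Fintype.ofFinite (MaxPts X)
  have hCl : Subsingleton (EtCoh.H X (ClM X) (m + 1)) := by
    obtain ⟨e⟩ := nonempty_iso_coprod_closed (ClM X) (isClosed_of_mem_supp hdim)
    refine subsingleton_H_of_iso e _ (subsingleton_H_coprod _ _ fun j => ?_)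
    haveI := isAlgClosed_residueField_of_isClosed f j.down.1 j.down.2
    exact subsingleton_H_skyPush_sepClosed X j.down.1 _ m
  refine subsingleton_of_forall_eq 0 fun ξ => ?_
  have h0 : Sheaf.H.map (eM X) (m + 2) ξ = 0 := by
    rw [eq_sum_H_pi (Pfac X) (m + 2) (Sheaf.H.map (eM X) (m + 2) ξ)]
    refine Finset.sum_eq_zero fun η _ => ?_
    rw [(subsingleton_H_Pfac f hdim η (m + 1)).elim (Sheaf.H.map (Pi.π (Pfac X) η) _ _) 0, map_zero]
  obtain ⟨z, rfl⟩ := Ext.covariant_sequence_exact₁ _ hS ξ h0 (rfl : (m + 1) + 1 = m + 2)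
  rw [hCl.elim z 0, Ext.zero_comp]

end Groth.Agent.H05EGA4.EtCl
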