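import Groth.Agent.H05EGA4.EtCl.CurveTors
import Groth.Agent.H9GalCoh.Killing

/-!
# Cohomology above degree one in dimension one
-/

set_option autoImplicit false
set_option linter.style.haveILetI false
set_option linter.unusedSectionVars false
set_option linter.overlappingInstances false
set_option backward.isDefEq.respectTransparency false
set_option backward.isDefEq.respectTransparency.types false

universe u

open CategoryTheory CategoryTheory.Limits AlgebraicGeometry Opposite Abelian

namespace Groth.Agent.H05EGA4.EtCl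

open scoped Groth.Agent.H18Et

variable {X : Scheme.{u}}

theorem isIso_nsmul_map {Y Z : Scheme.{u}} (T : EtCoh.Ab Y ⥤ EtCoh.Ab Z) [T.Additive] {F : EtCoh.Ab Y} {n : ℕ}
    (h : IsIso (n • 𝟙 F)) : IsIso (n • 𝟙 (T.obj F)) := by
  have e : T.map (n • 𝟙 F) = n • 𝟙 (T.obj F) :=
    (Functor.map_nsmul T).trans (congrArg (n • ·) (T.map_id F))
  rw [← e]
  infer_instance

variable [AlgebraicGeometry.IsNoetherian X]

/-- Sheaves acyclic at the maximal points have no cohomology above degree one. -/
theorem subsingleton_H_ge_two (hdim : topologicalKrullDim X ≤ 1)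
    (hcl : ∀ x : X, IsClosed ({x} : Set X) → IsSepClosed (X.residueField x)) (F : EtCoh.Ab X)
    (hR : ∀ (x : X), IsMaxPt x → ∀ (j : ℕ) (W : (Spec (X.residueField x)).Etale) [CompactSpace W.left]
      (z : Ext ((H18Et.FreeSheaf.free _).obj W) ((EtCoh.pull (X.fromSpecResidueField x)).obj F) (j + 1)), z = 0)
    (hH : ∀ (x : X), IsMaxPt x → ∀ j : ℕ,
      Subsingleton (EtCoh.H (Spec (X.residueField x)) ((EtCoh.pull (X.fromSpecResidueField x)).obj F) (j + 1)))
    (n : ℕ) : Subsingleton (EtCoh.H X F (n + 2)) := by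
  classical
  haveI := finite_isMaxPt X
  haveI := Fintype.ofFinite (MaxPts X)
  let g := Abelian.factorThruImage (eR F)
  let m := Abelian.image.ι (eR F)
  have hgm : g ≫ m = eR F := Abelian.image.fac (eR F)
  have hS₁ : (ShortComplex.mk (kernel.ι (eR F)) g (by
      rw [← cancel_mono m, Category.assoc, hgm, kernel.condition, zero_comp])).ShortExact := by
    letI S₁ : ShortComplex (EtCoh.Ab X) := ShortComplex.mk (kernel.ι (eR F)) g (by
      rw [← cancel_mono m, Category.assoc, hgm, kernel.condition, zero_comp])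
    haveI : Mono S₁.f := inferInstanceAs (Mono (kernel.ι (eR F)))
    haveI : Epi S₁.g := inferInstanceAs (Epi g)
    refine ⟨ShortComplex.exact_of_f_is_kernel _ (KernelFork.IsLimit.ofι _ _
      (fun x hx => kernel.lift (eR F) x (by rw [← hgm, ← Category.assoc, hx, zero_comp]))
      (fun x hx => kernel.lift_ι _ _ _) (fun x hx l hl => ?_))⟩
    rw [← cancel_mono (kernel.ι (eR F)), kernel.lift_ι]
    exact hl
  have hS₂ : (ShortComplex.mk m (cokernel.π (eR F)) (by
      rw [← cancel_epi g, ← Category.assoc, hgm, cokernel.condition, comp_zero])).ShortExact :=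
    { exact := ShortComplex.exact_kernel (cokernel.π (eR F)), mono_f := inferInstanceAs (Mono m),
      epi_g := inferInstanceAs (Epi (cokernel.π (eR F))) }
  have hK : Subsingleton (EtCoh.H X (kernel (eR F)) (n + 2)) :=
    subsingleton_H_of_maxPts hdim hcl _ (notMem_supp_kernel_eR F) (n + 1)
  have hC : Subsingleton (EtCoh.H X (cokernel (eR F)) (n + 1)) :=
    subsingleton_H_of_maxPts hdim hcl _ (notMem_supp_coker_eR F) n
  have hP : Subsingleton (EtCoh.H X (∏ᶜ ptComp F) (n + 2)) := subsingleton_of_forall_eq 0 fun y => by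
    rw [eq_sum_H_pi (ptComp F) (n + 2) y]
    refine Finset.sum_eq_zero fun η _ => ?_
    haveI := H18Et.pull_preservesFiniteLimits (X.fromSpecResidueField η.1)
    haveI : Subsingleton (EtCoh.H X (ptComp F η) (n + 2)) :=
      subsingleton_H_push (X.fromSpecResidueField η.1) (n + 1) _ (fun j P _ z => by
        haveI := EtTors.compactSpace_bc_point X η.1 P
        exact hR η.1 η.2 j _ z) (hH η.1 η.2)
    rw [Subsingleton.elim (Sheaf.H.map (Pi.π (ptComp F) η) (n + 2) y) 0, map_zero]
  refine subsingleton_of_forall_eq 0 fun ξ => ?_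
  have h1 : ξ.comp (Ext.mk₀ g) (add_zero (n + 2)) = 0 := by
    obtain ⟨z, hz⟩ := Ext.covariant_sequence_exact₁ _ hS₂ (ξ.comp (Ext.mk₀ g) (add_zero (n + 2)))
      (hP.elim _ _) (rfl : (n + 1) + 1 = n + 2)
    rw [← hz, hC.elim z 0, Ext.zero_comp]
  obtain ⟨z, hz⟩ := Ext.covariant_sequence_exact₂ _ hS₁ ξ h1
  rw [← hz, hK.elim z 0, Ext.zero_comp]

/-- Uniquely divisible sheaves on curves have no cohomology above degree one. -/
theorem subsingleton_H_uniquelyDivisible (hdim : topologicalKrullDim X ≤ 1)
    (hcl : ∀ x : X, IsClosed ({x} : Set X) → IsSepClosed (X.residueField x)) (F : EtCoh.Ab X)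
    (hdiv : ∀ n : ℕ, 0 < n → IsIso (n • 𝟙 F)) (m : ℕ) : Subsingleton (EtCoh.H X F (m + 2)) := by
  refine subsingleton_H_ge_two hdim hcl F (fun x _ j W _ z => ?_) (fun x _ j => ?_) m
  · refine ext_eq_zero_of_points (K := X.residueField x) (fun L _ _ _ _ => ?_) z
    exact H9GalCoh.Killing.subsingleton_of_uniquelyDivisible _
      (fun n hn => isIso_nsmul_map _ (isIso_nsmul_map _ (hdiv n hn))) (j + 1) j.succ_pos
  · exact H9GalCoh.Killing.subsingleton_of_uniquelyDivisible (K := X.residueField x) _
      (fun n hn => isIso_nsmul_map _ (hdiv n hn)) (j + 1) j.succ_pos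

end Groth.Agent.H05EGA4.EtCl
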