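import Groth.Agent.H05EGA4.EtCl.Max
import Groth.Agent.H12AlgSp.Codim
import Mathlib.AlgebraicGeometry.Properties

/-!
# The reduced case
-/

set_option autoImplicit false
set_option linter.style.haveILetI false
set_option linter.unusedSectionVars false
set_option backward.isDefEq.respectTransparency false
set_option backward.isDefEq.respectTransparency.types false

universe u

open CategoryTheory CategoryTheory.Limits AlgebraicGeometry Opposite TopologicalSpace

namespace Groth.Agent.H05EGA4.EtCl

open scoped Groth.Agent.H18Et

variable {X : Scheme.{u}}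

theorem isField_stalk_of_isMaxPt [IsReduced X] (x : X) (h : IsMaxPt x) : IsField (X.presheaf.stalk x) := by
  refine PrimeSpectrum.subsingleton_iff_isField_of_isReduced.1 ⟨fun a b => ?_⟩
  apply (X.fromSpecStalk x).isEmbedding.injective
  have ha : X.fromSpecStalk x a ⤳ x := (Scheme.range_fromSpecStalk (X := X) (x := x)).subset ⟨a, rfl⟩
  have hb : X.fromSpecStalk x b ⤳ x := (Scheme.range_fromSpecStalk (X := X) (x := x)).subset ⟨b, rfl⟩
  rw [h _ ha, h _ hb]

theorem isReduced_left [IsReduced X] (V : X.Etale) : IsReduced V.left := by
  haveI : Etale V.hom := V.prop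
  haveI : ∀ v : V.left, _root_.IsReduced (V.left.presheaf.stalk v) := fun v => by
    haveI : IsReduced ((Functor.fromPUnit X).obj V.right) := inferInstanceAs (IsReduced X)
    haveI : _root_.IsReduced (((Functor.fromPUnit X).obj V.right).presheaf.stalk (V.hom v)) := inferInstance
    exact H12AlgSp.isReduced_stalk_of_etale V.hom v
  exact isReduced_of_isReduced_stalk _

/-- On a reduced scheme functions are determined at the maximal points. -/
theorem sepMax_of_isReduced [IsReduced X] : SepMax X := by
  intro V v A hA
  haveI := isReduced_left V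
  suffices hbot : V.left.basicOpen A = ⊥ by
    rw [basicOpen_eq_bot_iff] at hbot
    rw [hbot, map_zero]
  refine eq_bot_iff.2 fun z hz => ?_
  obtain ⟨w, hw, hwz⟩ := exists_isMaxPt z
  have hwA : w ∈ V.left.basicOpen A := hwz.mem_open (V.left.basicOpen A).2 hz
  have h1 := (V.left.mem_basicOpen A w trivial).1 hwA
  rw [hA w hw] at h1
  exact (not_isUnit_zero h1).elim

end Groth.Agent.H05EGA4.EtCl
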