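import Groth.Agent.H05EGA4.EtCl.Fields
import Groth.Agent.H05EGA4.EtCl.Reduced
import Groth.Agent.H8Props.FieldDimScheme

/-!
# Residue fields of curves over an algebraically closed field
-/

set_option autoImplicit false
set_option linter.style.haveILetI false
set_option backward.isDefEq.respectTransparency false

universe u

open CategoryTheory CategoryTheory.Limits AlgebraicGeometry Opposite

namespace Groth.Agent.H05EGA4.EtCl

variable {k : Type u} [Field k] [IsAlgClosed k] {X : Scheme.{u}} (f : X ⟶ Spec (CommRingCat.of k))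
  [LocallyOfFiniteType f]

include f

/-- A field sitting at a point has transcendence degree the dimension of the closure. -/
theorem exists_algebra_trdeg {L : Type u} [Field L] (e : Spec (CommRingCat.of L) ⟶ X) [IsPreimmersion e] :
    ∃ (_ : Algebra k L) (s : ℕ), Algebra.trdeg k L = s ∧
      H8Props.FieldDim.cdim (e (default : PrimeSpectrum L)) = s := by
  obtain ⟨φ, hφ⟩ : ∃ φ : CommRingCat.of k ⟶ CommRingCat.of L, e ≫ f = Spec.map φ :=
    ⟨Spec.preimage (e ≫ f), (Spec.map_preimage _).symm⟩
  letI := φ.hom.toAlgebra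
  obtain ⟨s, hs, hs'⟩ := H8Props.FieldDim.exists_trdeg f e
    (hφ.trans (by rfl)) (default : PrimeSpectrum L)
  exact ⟨_, s, hs', hs⟩

/-- Curves: fields at points are `C₁`. -/
theorem isCi_one_of_point (hdim : topologicalKrullDim X ≤ 1) {L : Type u} [Field L]
    (e : Spec (CommRingCat.of L) ⟶ X) [IsPreimmersion e] : Curves.IsCi L 1 := by
  obtain ⟨_, s, hs, hc⟩ := exists_algebra_trdeg f e
  refine Fields.isCi_one_of_trdeg_le_one L k ?_
  have h1 : H8Props.FieldDim.cdim (e (default : PrimeSpectrum L)) ≤ 1 :=
    (topologicalKrullDim_subspace_le X _).trans hdim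
  rw [hc] at h1
  rw [hs]
  exact_mod_cast h1

/-- Closed points have algebraically closed residue fields. -/
theorem isAlgClosed_residueField_of_isClosed (x : X) (hx : IsClosed ({x} : Set X)) :
    IsAlgClosed (X.residueField x) := by
  obtain ⟨_, s, hs, hc⟩ := exists_algebra_trdeg f (L := X.residueField x) (X.fromSpecResidueField x)
  erw [Scheme.fromSpecResidueField_apply] at hc
  rw [H8Props.FieldDim.cdim, hx.closure_eq] at hc
  haveI : DiscreteTopology ({x} : Set X) := inferInstance
  have h0 := hc ▸ topologicalKrullDim_zero_of_discreteTopology ({x} : Set X)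
  have hs0 : s = 0 := Nat.le_zero.1 (by exact_mod_cast h0)
  subst hs0
  haveI : Algebra.IsAlgebraic k (X.residueField x) := trdeg_eq_zero_iff.1 (by rw [hs, Nat.cast_zero])
  exact IsAlgClosed.of_ringEquiv k _
    (RingEquiv.ofBijective _ (IsAlgClosed.algebraMap_bijective_of_isIntegral (k := k) (K := X.residueField x)))

/-- The stalks at the generic points of a reduced curve have no higher cohomology of `G_m`. -/
theorem subsingleton_H_Gm_stalk [IsReduced X] (hdim : topologicalKrullDim X ≤ 1) (x : X) (hx : IsMaxPt x)
    (q : ℕ) (hq : 1 ≤ q) :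
    Subsingleton (EtCoh.H (Spec (X.presheaf.stalk x)) (EtCoh.Gm (Spec (X.presheaf.stalk x))) q) := by
  letI : Field (X.presheaf.stalk x) := (isField_stalk_of_isMaxPt x hx).toField
  exact Fields.subsingleton_H_Gm_of_isCi (X.presheaf.stalk x)
    (isCi_one_of_point f hdim (L := X.presheaf.stalk x) (X.fromSpecStalk x)) q hq

end Groth.Agent.H05EGA4.EtCl
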