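import Groth.Agent.H05EGA4.EtCl.CurveTors
import Groth.Agent.H05EGA4.EtCl.Restrict
import Groth.Agent.H05EGA4.EtCl.CurvePoints
import Groth.Agent.H15Site.IntDesc.PushH
import Groth.Agent.S0108

/-!
# Torsion coefficients and `ℓ`-torsion of `G_m` in dimension one
-/

set_option autoImplicit false
set_option linter.style.haveILetI false
set_option linter.unusedSectionVars false
set_option backward.isDefEq.respectTransparency false
set_option backward.isDefEq.respectTransparency.types false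

universe u

open CategoryTheory CategoryTheory.Limits AlgebraicGeometry Opposite Abelian

namespace Groth.Agent.H05EGA4.EtCl

open Groth.Agent.H18Et.MuConst (sec sec_surjective sec_injective map_sec)
open scoped Groth.Agent.H18Et

/-- Fields with surjective norms have no cohomology of torsion sheaves above degree one. -/
theorem subsingleton_H_torsion (K : Type u) [Field K] (h : ∀ p : ℕ, p.Prime → S7732.NormSurj K p)
    (F : EtCoh.Ab (Spec (CommRingCat.of K))) (hF : EtCoh.IsTorsion F) (q : ℕ) :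
    Subsingleton (EtCoh.H (Spec (CommRingCat.of K)) F (q + 2)) := by
  refine subsingleton_of_forall_eq 0 fun ξ => ?_
  refine AddMonoid.addOrderOf_eq_one_iff.1 (Nat.eq_one_iff_not_exists_prime_dvd.2 fun p hp hpx => ?_)
  haveI : Fact p.Prime := ⟨hp⟩
  have hfin := (H9GalCoh.Killing.isOfFinAddOrder _ (q + 2) (by omega) ξ).addOrderOf_pos
  have hm : ∃ m : ℕ, p ^ m • ((addOrderOf ξ / p) • ξ) = 0 :=
    ⟨1, by rw [pow_one, smul_smul, Nat.mul_div_cancel' hpx, addOrderOf_nsmul_eq_zero]⟩
  have h1 : (addOrderOf ξ / p) • ξ = 0 := by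
    by_cases h0 : (p : K) = 0
    · haveI : CharP K p := CharP.charP_iff_prime_eq_zero hp |>.2 h0
      exact S7733.result K p F hF (q + 2) (by omega) _ hm
    · exact S7732.cd_of_normSurj K p h0 (h p hp) F hF (q + 2) (by omega) _ hm
  exact Nat.not_dvd_of_pos_of_lt (Nat.div_pos (Nat.le_of_dvd hfin hpx) hp.pos) (Nat.div_lt_self hfin hp.one_lt)
    (addOrderOf_dvd_of_nsmul_eq_zero h1)

theorem comp_mk₀_nsmul {Y : Scheme.{u}} (F : EtCoh.Ab Y) (n i : ℕ) (α : EtCoh.H Y F i) :
    α.comp (Ext.mk₀ (n • 𝟙 F)) (add_zero i) = n • α := by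
  rw [show Ext.mk₀ (n • 𝟙 F) = n • Ext.mk₀ (𝟙 F) from map_nsmul Ext.addEquiv₀.symm _ _,
    ← Ext.bilinearComp_apply_apply (h := add_zero i), map_nsmul, Ext.bilinearComp_apply_apply, Ext.comp_mk₀_id]

theorem nsmul_map_eq_zero {Y Z : Scheme.{u}} (T : EtCoh.Ab Y ⥤ EtCoh.Ab Z) [T.Additive] {F : EtCoh.Ab Y} {n : ℕ}
    (h : n • 𝟙 F = 0) : n • 𝟙 (T.obj F) = 0 := by
  rw [← CategoryTheory.Functor.map_id, ← Functor.map_nsmul, h, Functor.map_zero]

/-- Sheaves killed by `n` over a field of `ℓ`-cohomological dimension one for `ℓ ∣ n`. -/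
theorem subsingleton_H_of_killed (K : Type u) [Field K] (n : ℕ) (hn : 0 < n)
    (hcd : ∀ ℓ : ℕ, ℓ.Prime → ℓ ∣ n → Dix.CohDimLEAt (Spec (CommRingCat.of K)) ℓ 1)
    (F : EtCoh.Ab (Spec (CommRingCat.of K))) (hF : n • 𝟙 F = 0) (q : ℕ) :
    Subsingleton (EtCoh.H (Spec (CommRingCat.of K)) F (q + 2)) := by
  refine subsingleton_of_forall_eq 0 fun x => ?_
  have hx : n • x = 0 := by rw [← comp_mk₀_nsmul, hF, Ext.mk₀_zero, Ext.comp_zero]
  refine AddMonoid.addOrderOf_eq_one_iff.1 (Nat.eq_one_iff_not_exists_prime_dvd.2 fun p hp hpx => ?_)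
  have hdvd : addOrderOf x ∣ n := addOrderOf_dvd_of_nsmul_eq_zero hx
  obtain ⟨a, b, hb, hab⟩ := Nat.exists_eq_pow_mul_and_not_dvd hn.ne' p hp.ne_one
  obtain ⟨u', v', huv⟩ := Int.isCoprime_iff_nat_coprime.2
    (show Nat.Coprime (b : ℤ).natAbs ((p ^ a : ℕ) : ℤ).natAbs by
      rw [Int.natAbs_natCast, Int.natAbs_natCast]
      exact ((hp.coprime_iff_not_dvd.2 hb).pow_left a).symm)
  have hker : Subsingleton (EtCoh.H _ (kernel (p ^ a • 𝟙 F)) (q + 2)) := by
    have hk0 : p ^ a • 𝟙 (kernel (p ^ a • 𝟙 F)) = 0 := by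
      rw [← cancel_mono (kernel.ι (p ^ a • 𝟙 F)), zero_comp, Preadditive.nsmul_comp, Category.id_comp]
      have := kernel.condition (p ^ a • 𝟙 F)
      rwa [Preadditive.comp_nsmul, Category.comp_id] at this
    refine hcd p hp (hpx.trans hdvd) _ (fun U s x => ⟨U, 𝟙 U, ⟨x, rfl⟩, a, ?_⟩) (q + 2) (by omega)
    rw [← map_nsmul, H9GalCoh.Dev.killedBy_of_nsmul hk0 U s, map_zero]
  have hb0 : b • x = 0 := by
    rw [← comp_mk₀_nsmul, ← kernel.lift_ι (p ^ a • 𝟙 F) (b • 𝟙 F) (by
        rw [Preadditive.comp_nsmul, Category.comp_id, smul_smul, ← hab, hF]),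
      ← Ext.mk₀_comp_mk₀, ← Ext.comp_assoc_of_third_deg_zero,
      hker.elim (x.comp (Ext.mk₀ (kernel.lift _ _ _)) (add_zero _)) 0, Ext.zero_comp]
  exact hb (hpx.trans (addOrderOf_dvd_of_nsmul_eq_zero hb0))

/-- The same above a finite extension. -/
theorem subsingleton_H_of_killed_finite (K L : Type u) [Field K] [Field L] [Algebra K L] [FiniteDimensional K L]
    (n : ℕ) (hn : 0 < n) (hcd : ∀ ℓ : ℕ, ℓ.Prime → ℓ ∣ n → Dix.CohDimLEAt (Spec (CommRingCat.of K)) ℓ 1)
    (G : EtCoh.Ab (Spec (CommRingCat.of L))) (hG : n • 𝟙 G = 0) (q : ℕ) :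
    Subsingleton (EtCoh.H (Spec (CommRingCat.of L)) G (q + 2)) := by
  let a : Spec (CommRingCat.of L) ⟶ Spec (CommRingCat.of K) := Spec.map (CommRingCat.ofHom (algebraMap K L))
  haveI : IsIntegralHom a := IsIntegralHom.SpecMap_iff.2 (algebraMap_isIntegral_iff.2 inferInstance)
  obtain ⟨e⟩ := Groth.Agent.H15Site.IntDesc.nonempty_H_push a G (q + 2)
  haveI : (EtCoh.push a).Additive :=
    haveI : PreservesFiniteLimits (EtCoh.push a) := (EtCoh.pullPushAdj a).rightAdjoint_preservesLimits.{0, 0}.preservesFiniteLimits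
    Functor.additive_of_preserves_binary_products _
  haveI := subsingleton_H_of_killed K n hn hcd _ (nsmul_map_eq_zero (EtCoh.push a) hG) q
  exact e.addCommGroupIsoToAddEquiv.symm.injective.subsingleton

variable {X : Scheme.{u}} [AlgebraicGeometry.IsNoetherian X]

/-- Vanishing above degree two for sheaves killed by `n`. -/
theorem subsingleton_H_ge_three_killed (hdim : topologicalKrullDim X ≤ 1)
    (hcl : ∀ x : X, IsClosed ({x} : Set X) → IsSepClosed (X.residueField x)) (n : ℕ) (hn : 0 < n)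
    (hcd : ∀ x : X, IsMaxPt x → ∀ ℓ : ℕ, ℓ.Prime → ℓ ∣ n → Dix.CohDimLEAt (Spec (X.residueField x)) ℓ 1)
    (F : EtCoh.Ab X) (hF : n • 𝟙 F = 0) (m : ℕ) : Subsingleton (EtCoh.H X F (m + 3)) := by
  have hp : ∀ {Y Z : Scheme.{u}} (f : Y ⟶ Z), (EtCoh.pull f).Additive := fun f =>
    haveI := H18Et.pull_preservesFiniteLimits f; Functor.additive_of_preserves_binary_products _
  refine subsingleton_H_ge_three hdim hcl F (fun x hx j W _ z => ?_) (fun x hx j => ?_) m
  · refine ext_eq_zero_of_points (K := X.residueField x) (fun L _ _ _ _ => ?_) z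
    haveI := hp (H9GalCoh.Transfer.str (X.residueField x) L)
    haveI := hp (X.fromSpecResidueField x)
    exact subsingleton_H_of_killed_finite (X.residueField x) L n hn (hcd x hx) _
      (nsmul_map_eq_zero (EtCoh.pull (H9GalCoh.Transfer.str (X.residueField x) L))
        (nsmul_map_eq_zero (EtCoh.pull (X.fromSpecResidueField x)) hF)) j
  · haveI := hp (X.fromSpecResidueField x)
    exact subsingleton_H_of_killed (X.residueField x) n hn (hcd x hx) _
      (nsmul_map_eq_zero (EtCoh.pull (X.fromSpecResidueField x)) hF) j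

/-- Torsion sheaves on curves over algebraically closed fields have no cohomology above degree two. -/
theorem subsingleton_H_torsion_curve {k : Type u} [Field k] [IsAlgClosed k] (f : X ⟶ Spec (CommRingCat.of k))
    [LocallyOfFiniteType f] (hdim : topologicalKrullDim X ≤ 1) (F : EtCoh.Ab X) (hF : EtCoh.IsTorsion F) (m : ℕ) :
    Subsingleton (EtCoh.H X F (m + 3)) := by
  refine subsingleton_H_ge_three hdim (fun x hx => haveI := isAlgClosed_residueField_of_isClosed f x hx; inferInstance)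
    F (fun x _ j W _ z => ?_) (fun x _ j => ?_) m
  · refine ext_eq_zero_of_points (K := X.residueField x) (fun L _ _ _ _ => ?_) z
    refine subsingleton_H_torsion L (fun p hp => haveI : Fact p.Prime := ⟨hp⟩; Fields.normSurj_of_isCi L
      (H29Ci.isCi_of_algebraic (K := X.residueField x) L
        (isCi_one_of_point f hdim (L := X.residueField x) (X.fromSpecResidueField x))) p) _ ?_ j
    exact H18Et.Coh.isTorsion_pull _ _ (H18Et.Coh.isTorsion_pull _ _ hF)
  · exact subsingleton_H_torsion (X.residueField x) (fun p hp => haveI : Fact p.Prime := ⟨hp⟩;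
      Fields.normSurj_of_isCi _ (isCi_one_of_point f hdim (X.fromSpecResidueField x)) p) _
      (H18Et.Coh.isTorsion_pull _ _ hF) j

/-- If all points are maximal the bound drops by one. -/
theorem subsingleton_H_ge_two_all_max (hall : ∀ x : X, IsMaxPt x) (F : EtCoh.Ab X)
    (hR : ∀ (x : X) (j : ℕ) (W : (Spec (X.residueField x)).Etale) [CompactSpace W.left]
      (z : Ext ((H18Et.FreeSheaf.free _).obj W) ((EtCoh.pull (X.fromSpecResidueField x)).obj F) (j + 2)), z = 0)
    (hH : ∀ (x : X) (j : ℕ),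
      Subsingleton (EtCoh.H (Spec (X.residueField x)) ((EtCoh.pull (X.fromSpecResidueField x)).obj F) (j + 2)))
    (m : ℕ) : Subsingleton (EtCoh.H X F (m + 2)) := by
  classical
  haveI := finite_isMaxPt X
  haveI := Fintype.ofFinite (MaxPts X)
  have hz : ∀ {A : EtCoh.Ab X}, (∀ (V : X.Etale) (s : EtCoh.sect A V) (v : V.left), IsMaxPt v →
      v ∉ EtShriek.sectSupp A V s) → ∀ (V : X.Etale) (s : EtCoh.sect A V), s = 0 := fun h V s =>
    eq_zero_of_supp fun v => h V s v ((isMaxPt_hom_iff V v).1 (hall _))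
  have hzero : ∀ {A : EtCoh.Ab X}, (∀ (V : X.Etale) (s : EtCoh.sect A V), s = 0) → IsZero A := fun h => by
    rw [IsZero.iff_id_eq_zero]
    refine Sheaf.hom_ext (NatTrans.ext (funext fun V => AddCommGrpCat.ext fun s => ?_))
    rw [h V.unop s, map_zero, map_zero]
  haveI : Mono (eR F) := Preadditive.mono_of_isZero_kernel _ (hzero (hz (notMem_supp_kernel_eR F)))
  haveI : Epi (eR F) := Preadditive.epi_of_isZero_cokernel _ (hzero (hz (notMem_supp_coker_eR F)))
  haveI : IsIso (eR F) := isIso_of_mono_of_epi _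
  refine subsingleton_H_of_iso' (asIso (eR F)) _ (subsingleton_of_forall_eq 0 fun y => ?_)
  rw [eq_sum_H_pi (ptComp F) (m + 2) y]
  refine Finset.sum_eq_zero fun η _ => ?_
  let f := X.fromSpecResidueField η.1
  let G := (EtCoh.pull f).obj F
  haveI := H18Et.pull_preservesFiniteLimits f
  haveI := EtTors.preservesFiniteLimits_push f
  let ι := Injective.ι G
  let q := cokernel.π ι
  haveI hqe : Epi ((EtCoh.push f).map q) :=
    Preadditive.epi_of_isZero_cokernel _ (hzero (hz (notMem_supp_coker_push (x := η.1) q)))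
  have hS : (ShortComplex.mk ((EtCoh.push f).map ι) (cokernel.π _) (cokernel.condition _)).ShortExact :=
    { exact := ShortComplex.exact_cokernel _, mono_f := inferInstanceAs (Mono ((EtCoh.push f).map ι)),
      epi_g := inferInstanceAs (Epi (cokernel.π _)) }
  have hS' : (ShortComplex.mk ι q (cokernel.condition _)).ShortExact :=
    { exact := ShortComplex.exact_cokernel _, mono_f := inferInstanceAs (Mono ι), epi_g := inferInstanceAs (Epi q) }
  haveI := EtTors.injective_push f (Injective.under G)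
  let κ := cokernel.desc ((EtCoh.push f).map ι) ((EtCoh.push f).map q)
    (by rw [← Functor.map_comp, cokernel.condition, Functor.map_zero])
  haveI : Mono κ := EtTors.mono_desc_push f G
  haveI : Epi κ := epi_of_epi_fac (cokernel.π_desc _ _ _)
  haveI : IsIso κ := isIso_of_mono_of_epi κ
  haveI hη : Subsingleton (EtCoh.H X (ptComp F η) (m + 2)) := subsingleton_of_forall_eq 0 fun ξ => by
    obtain ⟨z, hz'⟩ := Ext.covariant_sequence_exact₁ _ hS ξ (Ext.eq_zero_of_injective _) (rfl : (m + 1) + 1 = m + 2)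
    haveI : Subsingleton (EtCoh.H X (cokernel ((EtCoh.push f).map ι)) (m + 1)) :=
      subsingleton_H_of_iso' (asIso κ) _ (subsingleton_H_push f m (cokernel ι) (fun i P _ w => by
        haveI := EtTors.compactSpace_bc_point X η.1 P
        obtain ⟨w', hw'⟩ := Ext.covariant_sequence_exact₃ _ hS' w rfl (hR η.1 i _ _)
        rw [← hw', Ext.eq_zero_of_injective w', Ext.zero_comp]) fun i => subsingleton_of_forall_eq 0 fun w => by
        obtain ⟨w', hw'⟩ := Ext.covariant_sequence_exact₃ _ hS' w rfl ((hH η.1 i).elim _ _)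
        rw [← hw', Ext.eq_zero_of_injective w', Ext.zero_comp])
    rw [← hz', Subsingleton.elim (α := EtCoh.H X (cokernel ((EtCoh.push f).map ι)) (m + 1)) z 0, Ext.zero_comp]
  rw [Subsingleton.elim (Sheaf.H.map (Pi.π (ptComp F) η) (m + 2) y) 0, map_zero]

theorem nsmul_id_kernel_powMap (N : ℕ) : N • 𝟙 (kernel (EtCoh.powMap X N)) = 0 := by
  rw [← cancel_mono (kernel.ι (EtCoh.powMap X N)), zero_comp, Preadditive.nsmul_comp, Category.id_comp]
  have := kernel.condition (EtCoh.powMap X N)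
  rw [EtCoh.powMap, Preadditive.comp_nsmul, Category.comp_id] at this
  exact this

/-- Kummer: without cohomology of the kernel there is no torsion. -/
theorem eq_zero_of_kummer {Y : Scheme.{u}} (N : ℕ) (hu : IsUnit (N : Γ(Y, ⊤))) (i : ℕ)
    (h : Subsingleton (EtCoh.H Y (kernel (EtCoh.powMap Y N)) i)) (ξ : EtCoh.H Y (EtCoh.Gm Y) i) (hξ : N • ξ = 0) :
    ξ = 0 := by
  haveI : Epi (EtCoh.powMap Y N) := S0108.result Y N hu
  let S : ShortComplex (EtCoh.Ab Y) :=
    ShortComplex.mk (kernel.ι (EtCoh.powMap Y N)) (EtCoh.powMap Y N) (kernel.condition _)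
  haveI : Mono S.f := inferInstanceAs (Mono (kernel.ι (EtCoh.powMap Y N)))
  haveI : Epi S.g := ‹Epi (EtCoh.powMap Y N)›
  have hS : S.ShortExact := ⟨ShortComplex.exact_of_f_is_kernel _ (kernelIsKernel _)⟩
  obtain ⟨x₁, hx₁⟩ := Ext.covariant_sequence_exact₂ _ hS ξ ((comp_mk₀_nsmul _ _ _ _).trans hξ)
  rw [← hx₁, h.elim x₁ 0, Ext.zero_comp]

theorem germ_eq_one_nhd {Y : Scheme.{u}} (A : Γ(Y, ⊤)) (y : Y) (h : Y.presheaf.germ ⊤ y trivial A = 1) :
    ∃ O : Y.Opens, y ∈ O ∧ O.ι.appTop A = 1 := by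
  obtain ⟨O', hyO, h1, h2, he⟩ := Y.presheaf.germ_eq (U := (⊤ : Y.Opens)) (V := (⊤ : Y.Opens)) y trivial trivial A 1
    (by rw [h, map_one])
  let O : Y.Opens := O'
  refine ⟨O, hyO, appTop_eq_of_germ _ A 1 (fun p => ?_) |>.trans (map_one _)⟩
  have hp : (O.ι p : Y) ∈ O := p.2
  rw [← TopCat.Presheaf.germ_res_apply Y.presheaf h1 _ hp A, ← TopCat.Presheaf.germ_res_apply Y.presheaf h2 _ hp 1]
  exact congrArg _ he

theorem sec_one {Y : Scheme.{u}} {U : Y.Etale} : sec (1 : Γ(U.left, ⊤)ˣ) = 0 := rfl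

/-- No `ℓ`-torsion in `H²(G_m)` and above. -/
theorem eq_zero_of_pow_nsmul (hdim : topologicalKrullDim X ≤ 1)
    (hcl : ∀ x : X, IsClosed ({x} : Set X) → IsSepClosed (X.residueField x)) (ℓ : ℕ) (hℓ : ℓ.Prime)
    (hinv : Dix.InvertibleOn X ℓ)
    (hcd : ∀ x : X, IsMaxPt x → Dix.CohDimLEAt (Spec (X.residueField x)) ℓ 1) (k i : ℕ) (hi : 2 ≤ i)
    (ξ : EtCoh.H X (EtCoh.Gm X) i) (hξ : ℓ ^ k • ξ = 0) : ξ = 0 := by
  classical
  have hu : IsUnit ((ℓ ^ k : ℕ) : Γ(X, ⊤)) := by
    refine X.toRingedSpace.isUnit_of_isUnit_germ ⊤ _ fun x hx => ?_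
    refine (X.mem_basicOpen _ x hx).1 ((X.evaluation_ne_zero_iff_mem_basicOpen x hx _).1 ?_)
    rw [map_natCast, Nat.cast_pow]
    exact pow_ne_zero _ (hinv x)
  have hcd' : ∀ x : X, IsMaxPt x → ∀ p : ℕ, p.Prime → p ∣ ℓ ^ k → Dix.CohDimLEAt (Spec (X.residueField x)) p 1 :=
    fun x hx p hp hpk => (Nat.prime_dvd_prime_iff_eq hp hℓ).1 (hp.dvd_of_dvd_pow hpk) ▸ hcd x hx
  rcases (show i = 2 ∨ 3 ≤ i by omega) with rfl | hi3
  swap
  · obtain ⟨m, rfl⟩ : ∃ m, i = m + 3 := ⟨i - 3, by omega⟩
    exact eq_zero_of_kummer _ hu _ (subsingleton_H_ge_three_killed hdim hcl _ (pow_pos hℓ.pos k) hcd' _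
      (nsmul_id_kernel_powMap _) m) ξ hξ
  haveI := finite_isMaxPt X
  haveI := Fintype.ofFinite (MaxPts X)
  -- the classes at the maximal points vanish
  have hP : Sheaf.H.map (eM X) 2 ξ = 0 := by
    rw [eq_sum_H_pi (Pfac X) 2 (Sheaf.H.map (eM X) 2 ξ)]
    refine Finset.sum_eq_zero fun η _ => ?_
    let S := Spec (X.presheaf.stalk η.1)
    haveI := H18Et.pull_preservesFiniteLimits (jmax η)
    have hall : ∀ z : S, IsMaxPt z := fun z w hw => (X.fromSpecStalk η.1).isEmbedding.injective (by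
      have h1 : ∀ t : S, X.fromSpecStalk η.1 t = η.1 := fun t =>
        η.2 _ ((Scheme.range_fromSpecStalk (X := X) (x := η.1)).subset ⟨t, rfl⟩)
      rw [h1, h1])
    haveI : _root_.IsNoetherianRing (X.presheaf.stalk η.1) := inferInstance
    haveI : AlgebraicGeometry.IsNoetherian S := inferInstance
    have hker : Subsingleton (EtCoh.H S (kernel (EtCoh.powMap S (ℓ ^ k))) 2) := by
      have hloc : ∀ z : S, ∀ (L : Type u) [Field L] [Algebra (S.residueField z) L] [FiniteDimensional (S.residueField z) L]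
          (G : EtCoh.Ab (Spec (CommRingCat.of L))), (ℓ ^ k) • 𝟙 G = 0 → ∀ j : ℕ,
          Subsingleton (EtCoh.H (Spec (CommRingCat.of L)) G (j + 2)) := fun z L _ _ _ G hG j => by
        let φ := (X.fromSpecStalk η.1).residueFieldMap z
        have hbij := bijective_residueFieldMap (X.fromSpecStalk η.1) z
        letI := ((algebraMap (S.residueField z) L).comp φ.hom).toAlgebra
        haveI : FiniteDimensional (X.residueField (X.fromSpecStalk η.1 z)) L :=
          RingHom.Finite.comp (g := algebraMap (S.residueField z) L) (RingHom.finite_algebraMap.2 inferInstance)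
            (RingHom.Finite.of_surjective φ.hom hbij.2)
        exact subsingleton_H_of_killed_finite (X.residueField (X.fromSpecStalk η.1 z)) L _ (pow_pos hℓ.pos k)
          (hcd' _ (by
            have h1 := η.2 _ ((Scheme.range_fromSpecStalk (X := X) (x := η.1)).subset ⟨z, rfl⟩)
            rw [h1]; exact η.2)) G hG j
      have hp : ∀ {Y Z : Scheme.{u}} (f : Y ⟶ Z), (EtCoh.pull f).Additive := fun f =>
        haveI := H18Et.pull_preservesFiniteLimits f; Functor.additive_of_preserves_binary_products _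
      refine subsingleton_H_ge_two_all_max hall _ (fun z j W _ y => ?_) (fun z j => ?_) 0
      · refine ext_eq_zero_of_points (K := S.residueField z) (fun L _ _ _ _ => ?_) y
        haveI := hp (H9GalCoh.Transfer.str (S.residueField z) L)
        haveI := hp (S.fromSpecResidueField z)
        exact hloc z L _ (nsmul_map_eq_zero (EtCoh.pull (H9GalCoh.Transfer.str (S.residueField z) L))
          (nsmul_map_eq_zero (EtCoh.pull (S.fromSpecResidueField z)) (nsmul_id_kernel_powMap _))) j
      · haveI := hp (S.fromSpecResidueField z)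
        exact hloc z (S.residueField z) _ (nsmul_map_eq_zero (EtCoh.pull (S.fromSpecResidueField z))
          (nsmul_id_kernel_powMap _)) j
    have h1 : Sheaf.H.map (Pi.π (Pfac X) η) 2 (Sheaf.H.map (eM X) 2 ξ) = Sheaf.H.map (EtLim.GmPush (jmax η)) 2 ξ := by
      rw [← Sheaf.H.map_comp_apply]
      congr 3
      exact Pi.lift_π _ _
    have h2 : Sheaf.H.map (EtLim.GmPush (jmax η)) 2 ξ = 0 := by
      refine EtTors.injective_HofPush_two (jmax η) _ (isZero_Rpush_one_jmax η) ?_
      rw [map_zero]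
      refine eq_zero_of_kummer (ℓ ^ k) ?_ 2 hker _ (by rw [← map_nsmul, ← map_nsmul, hξ, map_zero, map_zero])
      have := hu.map (jmax η).appTop.hom
      rwa [map_natCast] at this
    rw [h1, h2, map_zero]
  let g := Abelian.factorThruImage (eM X)
  let m := Abelian.image.ι (eM X)
  have hgm : g ≫ m = eM X := Abelian.image.fac (eM X)
  have hS₁ : (ShortComplex.mk (kernel.ι (eM X)) g (by
      rw [← cancel_mono m, Category.assoc, hgm, kernel.condition, zero_comp])).ShortExact := by
    letI S₁ : ShortComplex (EtCoh.Ab X) := ShortComplex.mk (kernel.ι (eM X)) g (by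
      rw [← cancel_mono m, Category.assoc, hgm, kernel.condition, zero_comp])
    haveI : Mono S₁.f := inferInstanceAs (Mono (kernel.ι (eM X)))
    haveI : Epi S₁.g := inferInstanceAs (Epi g)
    refine ⟨ShortComplex.exact_of_f_is_kernel _ (KernelFork.IsLimit.ofι _ _
      (fun x hx => kernel.lift (eM X) x (by rw [← hgm, ← Category.assoc, hx, zero_comp]))
      (fun x hx => kernel.lift_ι _ _ _) (fun x hx l hl => ?_))⟩
    rw [← cancel_mono (kernel.ι (eM X)), kernel.lift_ι]
    exact hl
  have hS₂ : (ShortComplex.mk m (cokernel.π (eM X)) (by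
      rw [← cancel_epi g, ← Category.assoc, hgm, cokernel.condition, comp_zero])).ShortExact :=
    { exact := ShortComplex.exact_kernel (cokernel.π (eM X)), mono_f := inferInstanceAs (Mono m),
      epi_g := inferInstanceAs (Epi (cokernel.π (eM X))) }
  have hK : Subsingleton (EtCoh.H X (kernel (eM X)) 2) := by
    refine subsingleton_H_of_maxPts hdim hcl _ (fun V s v hv => ?_) 1
    obtain ⟨a, ha⟩ := sec_surjective (U := V) ((kernel.ι (eM X)).hom.app (op V) s)
    have h0 : (eM X).hom.app (op V) (sec a) = 0 := by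
      rw [ha]
      exact ConcreteCategory.congr_hom (congrArg (fun k => k.hom.app (op V)) (kernel.condition (eM X))) s
    have h00 : (eM X).hom.app (op V) (sec (1 : Γ(V.left, ⊤)ˣ)) = 0 := by
      rw [sec_one]; exact map_zero _
    rw [eM_sec] at h0 h00
    have hg := germ_eq_of_psec_eq _ _ (h0.trans h00.symm) v hv
    rw [Units.val_one, map_one] at hg
    obtain ⟨O, hvO, hO⟩ := germ_eq_one_nhd a.val v hg
    refine notMem_supp_of_map (subι V O) (⟨v, hvO⟩ : (sub V O).left) ?_
    suffices hs : (kernel (eM X)).obj.map (subι V O).op s = 0 by rw [hs]; exact notMem_supp_zero_sect _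
    refine injective_app_of_mono (kernel.ι (eM X)) _ ?_
    rw [map_zero, app_res, ← ha, map_sec, ← sec_one]
    exact congrArg sec (Units.ext hO)
  have hC : Subsingleton (EtCoh.H X (ClM X) 1) :=
    subsingleton_H_of_maxPts hdim hcl _ (fun V s v hv => notMem_supp_maxPt V s v hv) 0
  have h1 : ξ.comp (Ext.mk₀ g) (add_zero 2) = 0 := by
    obtain ⟨z, hz⟩ := Ext.covariant_sequence_exact₁ _ hS₂ (ξ.comp (Ext.mk₀ g) (add_zero 2))
      (by
        rw [Ext.comp_assoc_of_second_deg_zero, Ext.mk₀_comp_mk₀]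
        show ξ.comp (Ext.mk₀ (g ≫ m)) (add_zero 2) = 0
        rw [hgm]
        exact hP) (rfl : 1 + 1 = 2)
    rw [← hz, hC.elim z 0, Ext.zero_comp]
  obtain ⟨z, hz⟩ := Ext.covariant_sequence_exact₂ _ hS₁ ξ h1
  rw [← hz, hK.elim z 0, Ext.zero_comp]

omit [AlgebraicGeometry.IsNoetherian X] in
theorem closure_mem_irreducibleComponents {x : X} (hx : IsMaxPt x) : closure {x} ∈ irreducibleComponents X := by
  refine ⟨isIrreducible_singleton.closure, fun T hT hle => ?_⟩
  obtain ⟨t, ht⟩ := QuasiSober.sober hT.closure isClosed_closure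
  have htx : t ⤳ x := ht.specializes (subset_closure (hle (subset_closure rfl)))
  obtain rfl := hx t htx
  exact subset_closure.trans ht.def.symm.subset

end Groth.Agent.H05EGA4.EtCl
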