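import Groth.Agent.H18Et.PushStalk
import Groth.Agent.H8Props.EtalePrescribedResidue
import Groth.Agent.H12AlgSp.LargeFieldLift
import Groth.Agent.H12AlgSp.Codim

/-!
# Étale neighbourhoods lift along inclusions of points
-/

set_option autoImplicit false
set_option linter.style.haveILetI false
set_option backward.isDefEq.respectTransparency false
set_option backward.isDefEq.respectTransparency.types false

universe u

open CategoryTheory CategoryTheory.Limits AlgebraicGeometry Opposite TopologicalSpace

namespace Groth.Agent.H05EGA4.EtCl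

variable {Z X : Scheme.{u}}

theorem bijective_residueFieldMap (f : Z ⟶ X) [IsPreimmersion f] (z : Z) :
    Function.Bijective (f.residueFieldMap z) := by
  refine ⟨(f.residueFieldMap z).hom.injective, fun y => ?_⟩
  obtain ⟨y₁, rfl⟩ := Z.residue_surjective z y
  obtain ⟨y₂, rfl⟩ := f.stalkMap_surjective z y₁
  exact ⟨X.residue (f z) y₂, ConcreteCategory.congr_hom (Scheme.residue_residueFieldMap f z) y₂⟩

/-- Étale neighbourhoods lift along discrete reduced preimmersions. -/
theorem liftsEtale_of_discrete (f : Z ⟶ X) [IsPreimmersion f] [DiscreteTopology Z] [IsReduced Z] :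
    H18Et.LiftsEtale f := by
  intro U p hp u
  let φ : X.residueField (f (p u)) ⟶ U.residueField u := f.residueFieldMap (p u) ≫ p.residueFieldMap u
  have hbij := bijective_residueFieldMap f (p u)
  have hfin : φ.hom.Finite :=
    (H12AlgSp.finite_residueFieldMap_etale p u).comp (RingHom.Finite.of_surjective _ hbij.2)
  letI := φ.hom.toAlgebra
  haveI : FiniteDimensional (X.residueField (f (p u))) (U.residueField u) := hfin
  haveI : Algebra.IsSeparable (X.residueField (f (p u))) (U.residueField u) := by
    letI := (p.residueFieldMap u).hom.toAlgebra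
    letI := (f.residueFieldMap (p u)).hom.toAlgebra
    haveI : IsScalarTower (X.residueField (f (p u))) (Z.residueField (p u)) (U.residueField u) :=
      IsScalarTower.of_algebraMap_eq fun _ => rfl
    haveI : Algebra.IsSeparable (X.residueField (f (p u))) (Z.residueField (p u)) :=
      Algebra.IsSeparable.of_equiv_equiv (RingEquiv.refl (X.residueField (f (p u))))
        (RingEquiv.ofBijective (f.residueFieldMap (p u)).hom hbij) (by ext a; rfl)
    haveI : Algebra.IsSeparable (Z.residueField (p u)) (U.residueField u) := inferInstance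
    exact Algebra.IsSeparable.trans (X.residueField (f (p u))) (Z.residueField (p u)) _
  obtain ⟨V, q, v, hv, hq, e⟩ :=
    H8Props.EtalePrescribedResidue.exists_etale_nbhd X (f (p u)) (U.residueField u)
  letI := ((X.residueFieldCongr hv).inv ≫ q.residueFieldMap v).hom.toAlgebra
  obtain ⟨e⟩ := e
  -- an open neighbourhood of `v` whose part over the range of `f` is `v` alone
  obtain ⟨Ω, hΩ, hΩ'⟩ := f.isEmbedding.isInducing.isOpen_iff.1 (isOpen_discrete {p u})
  obtain ⟨Ω₁, hΩ₁, hΩ₁'⟩ : ∃ Ω₁ : Set V, IsOpen Ω₁ ∧ Ω₁ ∩ q ⁻¹' {f (p u)} = {v} := by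
    haveI := (q.isDiscrete_preimage_singleton (f (p u))).to_subtype
    obtain ⟨Ω₁, hΩ₁, h⟩ := isOpen_induced_iff.1 (isOpen_discrete ({⟨v, hv⟩} : Set ↥(q ⁻¹' {f (p u)})))
    refine ⟨Ω₁, hΩ₁, Set.ext fun w => ⟨fun hw => ?_, fun hw => ?_⟩⟩
    · exact congrArg Subtype.val (h.subset (show (⟨w, hw.2⟩ : ↥(q ⁻¹' {f (p u)})) ∈ _ from hw.1))
    · rw [Set.mem_singleton_iff.1 hw]
      exact ⟨h.superset (Set.mem_singleton (⟨v, hv⟩ : ↥(q ⁻¹' {f (p u)}))), hv⟩
  have hvΩ : f (p u) ∈ Ω := hΩ'.superset (Set.mem_singleton (p u))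
  let O : V.Opens := ⟨Ω₁ ∩ q ⁻¹' Ω, hΩ₁.inter (hΩ.preimage q.continuous)⟩
  have hvO : v ∈ O := ⟨(hΩ₁'.superset (Set.mem_singleton v)).1, show q v ∈ Ω by rw [hv]; exact hvΩ⟩
  let q' : (O : Scheme.{u}) ⟶ X := O.ι ≫ q
  let P := pullback q' f
  haveI : IsPreimmersion (pullback.fst q' f) :=
    MorphismProperty.pullback_fst (P := @IsPreimmersion) _ _ inferInstance
  have hcond : ∀ a : P, q (((pullback.fst q' f) a).1) = f ((pullback.snd q' f) a) := fun a => by
    rw [← Scheme.Hom.comp_apply, ← pullback.condition]
    rfl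
  have hfst : ∀ a : P, ((pullback.fst q' f) a).1 = v := fun a => by
    refine hΩ₁'.subset ⟨((pullback.fst q' f) a).2.1, ?_⟩
    have hy : (pullback.snd q' f) a ∈ f ⁻¹' Ω := by
      have := ((pullback.fst q' f) a).2.2
      rwa [Set.mem_preimage, hcond] at this
    rw [Set.mem_preimage, Set.mem_singleton_iff, hcond, Set.mem_singleton_iff.1 (hΩ'.subset hy)]
  obtain ⟨a₀, ha₀⟩ : ∃ a₀ : P, (pullback.fst q' f) a₀ = (⟨v, hvO⟩ : (O : Scheme.{u})) := by
    obtain ⟨a₀, h, -⟩ := Scheme.Pullback.exists_preimage_pullback (f := q') (g := f) ⟨v, hvO⟩ (p u) hv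
    exact ⟨a₀, h⟩
  have hall : ∀ a : P, a = a₀ := fun a =>
    (pullback.fst q' f).isEmbedding.injective (Subtype.ext ((hfst a).trans (congrArg Subtype.val ha₀).symm))
  haveI : Subsingleton P := ⟨fun a b => (hall a).trans (hall b).symm⟩
  haveI : IsReduced P := by
    haveI : ∀ a : P, _root_.IsReduced (P.presheaf.stalk a) := fun a =>
      H12AlgSp.isReduced_stalk_of_etale (pullback.snd q' f) a
    exact isReduced_of_isReduced_stalk _
  -- a reduced scheme with one point is the spectrum of the residue field
  haveI : IsIso (P.fromSpecResidueField a₀) := by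
    haveI : IsClosedImmersion (P.fromSpecResidueField a₀) :=
      IsClosedImmersion.of_isPreimmersion _ (Set.Subsingleton.isClosed Set.subsingleton_of_subsingleton)
    haveI : Surjective (P.fromSpecResidueField a₀) :=
      ⟨fun b => ⟨(default : PrimeSpectrum (P.residueField a₀)), Subsingleton.elim _ _⟩⟩
    exact isIso_of_isClosedImmersion_of_surjective _
  have hav : (pullback.fst q' f ≫ O.ι) a₀ = v := (Scheme.Hom.comp_apply _ _ _).trans (hfst a₀)
  let ψ : U.residueField u ⟶ P.residueField a₀ := CommRingCat.ofHom e.toRingEquiv.toRingHom ≫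
    (V.residueFieldCongr hav).inv ≫ (pullback.fst q' f ≫ O.ι).residueFieldMap a₀
  let a : P ⟶ U := inv (P.fromSpecResidueField a₀) ≫ Spec.map ψ ≫ U.fromSpecResidueField u
  refine ⟨O, q', inferInstance, a, ?_, a₀, ?_⟩
  · rw [← cancel_epi (P.fromSpecResidueField a₀), ← cancel_mono f]
    simp only [a, Category.assoc, IsIso.hom_inv_id_assoc]
    have h1 : U.fromSpecResidueField u ≫ p ≫ f = Spec.map φ ≫ X.fromSpecResidueField (f (p u)) := by
      simp only [φ, Spec.map_comp, Category.assoc, Scheme.Hom.SpecMap_residueFieldMap_fromSpecResidueField,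
        Scheme.Hom.SpecMap_residueFieldMap_fromSpecResidueField_assoc]
    have h2 : φ ≫ CommRingCat.ofHom e.toRingEquiv.toRingHom = (X.residueFieldCongr hv).inv ≫ q.residueFieldMap v :=
      CommRingCat.hom_ext (RingHom.ext fun r => e.commutes r)
    rw [h1, ← Category.assoc (Spec.map ψ), ← Spec.map_comp]
    simp only [ψ, ← Category.assoc φ, h2]
    simp only [Spec.map_comp, Category.assoc]
    rw [← pullback.condition, Scheme.residueFieldCongr_inv, Scheme.residueFieldCongr_inv,
      X.residueFieldCongr_fromSpecResidueField, Scheme.Hom.SpecMap_residueFieldMap_fromSpecResidueField,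
      V.residueFieldCongr_fromSpecResidueField_assoc,
      Scheme.Hom.SpecMap_residueFieldMap_fromSpecResidueField_assoc]
    simp only [q', P, Category.assoc]
  · show (inv (P.fromSpecResidueField a₀) ≫ Spec.map ψ ≫ U.fromSpecResidueField u) a₀ = u
    rw [Scheme.Hom.comp_apply, Scheme.Hom.comp_apply]
    exact U.fromSpecResidueField_apply u _

theorem liftsEtaleUniv_fromSpecResidueField (x : X) : H18Et.LiftsEtaleUniv (X.fromSpecResidueField x) := by
  intro X' e he
  haveI : IsPreimmersion (pullback.fst e (X.fromSpecResidueField x)) :=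
    MorphismProperty.pullback_fst (P := @IsPreimmersion) _ _ inferInstance
  haveI : DiscreteTopology ↥(pullback e (X.fromSpecResidueField x)) := by
    let snd := pullback.snd e (X.fromSpecResidueField x)
    let s : Spec (X.residueField x) := (default : PrimeSpectrum (X.residueField x))
    haveI := (snd.isDiscrete_preimage_singleton s).to_subtype
    have huniv : snd ⁻¹' {s} = Set.univ := Set.eq_univ_of_forall fun w =>
      Subsingleton.elim (α := PrimeSpectrum (X.residueField x)) (snd w) s
    exact DiscreteTopology.of_continuous_injective (f := fun w => (⟨w, huniv.superset trivial⟩ : ↥(snd ⁻¹' {s})))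
      (continuous_id.subtype_mk _) fun a b h => congrArg Subtype.val h
  haveI : IsReduced (pullback e (X.fromSpecResidueField x)) := by
    haveI : ∀ w : ↥(pullback e (X.fromSpecResidueField x)),
        _root_.IsReduced ((pullback e (X.fromSpecResidueField x)).presheaf.stalk w) := fun w =>
      H12AlgSp.isReduced_stalk_of_etale (pullback.snd e (X.fromSpecResidueField x)) w
    exact isReduced_of_isReduced_stalk _
  intro U p hp u
  exact liftsEtale_of_discrete (pullback.fst e (X.fromSpecResidueField x)) p hp u

end Groth.Agent.H05EGA4.EtCl
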