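import Groth.Agent.H05EGA4.EtCl.Layers
import Groth.Agent.H05EGA4.EtCl.PushVanish
import Groth.Agent.H9GalCoh.Killing

/-!
# Uniquely divisible sheaves have cohomological dimension at most the dimension
-/

set_option autoImplicit false
set_option linter.style.haveILetI false
set_option linter.unusedSectionVars false
set_option linter.overlappingInstances false
set_option backward.isDefEq.respectTransparency false
set_option backward.isDefEq.respectTransparency.types false

universe u

open CategoryTheory CategoryTheory.Limits AlgebraicGeometry Opposite Abelian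

namespace Groth.Agent.H05EGA4.EtCl

open scoped Groth.Agent.H18Et

variable {X : Scheme.{u}}

/-- Multiplication by the positive integers is invertible. -/
def UDiv (F : EtCoh.Ab X) : Prop := ∀ n : ℕ, 0 < n → IsIso (n • 𝟙 F)

theorem uDiv_map {Y Z : Scheme.{u}} (T : EtCoh.Ab Y ⥤ EtCoh.Ab Z) [T.Additive] {F : EtCoh.Ab Y}
    (h : UDiv F) : UDiv (T.obj F) := fun n hn => by
  have e : T.map (n • 𝟙 F) = n • 𝟙 (T.obj F) :=
    (Functor.map_nsmul T).trans (congrArg (n • ·) (T.map_id F))
  haveI := h n hn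
  rw [← e]
  infer_instance

theorem uDiv_sigma {ι : Type (u + 1)} (G : ι → EtCoh.Ab X) (h : ∀ k, UDiv (G k)) : UDiv (∐ G) := fun n hn => by
  haveI := fun k => h k n hn
  have e : Limits.Sigma.map (fun k => n • 𝟙 (G k)) = n • 𝟙 (∐ G) := Sigma.hom_ext _ _ fun k => by
    rw [Sigma.ι_map, Preadditive.nsmul_comp, Category.id_comp, Preadditive.comp_nsmul, Category.comp_id]
  rw [← e]
  infer_instance

theorem uDiv_kernel {F G : EtCoh.Ab X} (φ : F ⟶ G) (hF : UDiv F) (hG : UDiv G) : UDiv (kernel φ) := fun n hn => by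
  haveI := hF n hn
  haveI := hG n hn
  have w : φ ≫ (asIso (n • 𝟙 G)).hom = (asIso (n • 𝟙 F)).hom ≫ φ := by
    simp [Preadditive.comp_nsmul, Preadditive.nsmul_comp]
  have e : (kernel.mapIso φ φ (asIso (n • 𝟙 F)) (asIso (n • 𝟙 G)) w).hom = n • 𝟙 (kernel φ) :=
    equalizer.hom_ext (by simp [Preadditive.comp_nsmul, Preadditive.nsmul_comp])
  rw [← e]
  infer_instance

theorem uDiv_cokernel {F G : EtCoh.Ab X} (φ : F ⟶ G) (hF : UDiv F) (hG : UDiv G) : UDiv (cokernel φ) :=
  fun n hn => by
  haveI := hF n hn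
  haveI := hG n hn
  have w : φ ≫ (asIso (n • 𝟙 G)).hom = (asIso (n • 𝟙 F)).hom ≫ φ := by
    simp [Preadditive.comp_nsmul, Preadditive.nsmul_comp]
  have e : (cokernel.mapIso φ φ (asIso (n • 𝟙 F)) (asIso (n • 𝟙 G)) w).hom = n • 𝟙 (cokernel φ) :=
    coequalizer.hom_ext (by simp [Preadditive.comp_nsmul, Preadditive.nsmul_comp])
  rw [← e]
  infer_instance

variable [AlgebraicGeometry.IsNoetherian X]

theorem subsingleton_H_skyPush_uDiv (x : X) (F : EtCoh.Ab (Spec (X.residueField x))) (h : UDiv F) (m : ℕ) :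
    Subsingleton (EtCoh.H X ((Dix.skyPush X x).obj F) (m + 1)) := by
  haveI := H18Et.pull_preservesFiniteLimits (X.fromSpecResidueField x)
  refine subsingleton_H_push (X.fromSpecResidueField x) m F (fun i P _ z => ?_) fun i => ?_
  · haveI := EtTors.compactSpace_bc_point X x P
    refine ext_eq_zero_of_points (K := X.residueField x) (fun L _ _ _ _ => ?_) z
    exact H9GalCoh.Killing.subsingleton_of_uniquelyDivisible _ (uDiv_map _ h) (i + 1) i.succ_pos
  · exact H9GalCoh.Killing.subsingleton_of_uniquelyDivisible (K := X.residueField x) _ h (i + 1) i.succ_pos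

/-- Uniquely divisible sheaves supported at points of level `≤ n` have no cohomology in degrees `≥ n`. -/
theorem subsingleton_H_low : ∀ (n : ℕ) (F : EtCoh.Ab X), UDiv F →
    (∀ (V : X.Etale) (s : EtCoh.sect F V) (v : V.left), v ∈ EtShriek.sectSupp F V s → Low n (V.hom v)) →
    ∀ i, n ≤ i → Subsingleton (EtCoh.H X F i)
  | 0, F, _, hF, i, _ => by
    have hz : IsZero F := by
      rw [IsZero.iff_id_eq_zero]
      refine Sheaf.hom_ext (NatTrans.ext (funext fun V => AddCommGrpCat.ext fun s => ?_))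
      rw [eq_zero_of_supp (s := s) fun v hv => hF V.unop s v hv, map_zero, map_zero]
    refine subsingleton_of_forall_eq 0 fun x => ?_
    rw [← Ext.comp_mk₀_id x, (IsZero.iff_id_eq_zero F).1 hz, Ext.mk₀_zero, Ext.comp_zero]
  | n + 1, F, hdiv, hF, i, hi => by
    classical
    obtain ⟨j, rfl⟩ := Nat.exists_eq_add_of_le' ((Nat.le_add_left 1 n).trans hi)
    obtain ⟨φ, hφ⟩ := exists_layerMap F (lowStrat n) hF
    have hG : UDiv (∐ layerObj F (lowStrat n)) := uDiv_sigma _ fun k => uDiv_map _ (uDiv_map _ hdiv)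
    have hK : Subsingleton (EtCoh.H X (kernel φ) (j + 1)) := subsingleton_H_low n _ (uDiv_kernel φ hdiv hG)
      (low_of_mem_supp_kernel φ hφ hF) _ (by omega)
    have hC : Subsingleton (EtCoh.H X (cokernel φ) j) := subsingleton_H_low n _ (uDiv_cokernel φ hdiv hG)
      (low_of_mem_supp_cokernel φ hφ hF) _ (by omega)
    have hS : Subsingleton (EtCoh.H X (∐ layerObj F (lowStrat n)) (j + 1)) := subsingleton_H_coprod (G := layerObj F (lowStrat n)) _
      fun k => subsingleton_H_skyPush_uDiv k.down.1 _ (uDiv_map _ hdiv) j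
    let g := Abelian.factorThruImage φ
    let m := Abelian.image.ι φ
    have hgm : g ≫ m = φ := Abelian.image.fac φ
    have hS₁ : (ShortComplex.mk (kernel.ι φ) g (by
        rw [← cancel_mono m, Category.assoc, hgm, kernel.condition, zero_comp])).ShortExact := by
      letI S₁ : ShortComplex (EtCoh.Ab X) := ShortComplex.mk (kernel.ι φ) g (by
        rw [← cancel_mono m, Category.assoc, hgm, kernel.condition, zero_comp])
      haveI : Mono S₁.f := inferInstanceAs (Mono (kernel.ι φ))
      haveI : Epi S₁.g := inferInstanceAs (Epi g)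
      refine ⟨ShortComplex.exact_of_f_is_kernel _ (KernelFork.IsLimit.ofι _ _
        (fun x hx => kernel.lift φ x (by rw [← hgm, ← Category.assoc, hx, zero_comp]))
        (fun x hx => kernel.lift_ι _ _ _) (fun x hx l hl => ?_))⟩
      rw [← cancel_mono (kernel.ι φ), kernel.lift_ι]
      exact hl
    have hS₂ : (ShortComplex.mk m (cokernel.π φ) (by
        rw [← cancel_epi g, ← Category.assoc, hgm, cokernel.condition, comp_zero])).ShortExact :=
      { exact := ShortComplex.exact_kernel (cokernel.π φ), mono_f := inferInstanceAs (Mono m),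
        epi_g := inferInstanceAs (Epi (cokernel.π φ)) }
    refine subsingleton_of_forall_eq 0 fun ξ => ?_
    have h1 : ξ.comp (Ext.mk₀ g) (add_zero (j + 1)) = 0 := by
      obtain ⟨z, hz⟩ := Ext.covariant_sequence_exact₁ _ hS₂ (ξ.comp (Ext.mk₀ g) (add_zero (j + 1)))
        (hS.elim _ _) (rfl : j + 1 = j + 1)
      rw [← hz, hC.elim z 0, Ext.zero_comp]
    obtain ⟨z, hz⟩ := Ext.covariant_sequence_exact₂ _ hS₁ ξ h1
    rw [← hz, hK.elim z 0, Ext.zero_comp]

/-- Uniquely divisible sheaves on Noetherian schemes of dimension `≤ d` have no cohomology above `d`. -/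
theorem subsingleton_H_uDiv (d : ℕ) (hd : topologicalKrullDim X ≤ d) (F : EtCoh.Ab X) (hF : UDiv F) (i : ℕ)
    (hi : d < i) : Subsingleton (EtCoh.H X F i) :=
  subsingleton_H_low (d + 1) F hF (fun _ _ _ _ => low_of_dim d hd _) i hi

/-- Unique divisibility of the sections. -/
theorem uDiv_of_bijective (F : EtCoh.Ab X)
    (hF : ∀ (U : X.Etale) (m : ℕ), 0 < m → Function.Bijective (fun s : EtCoh.sect F U => m • s)) : UDiv F :=
  fun n hn => by
  have hv : ∀ U, (n • 𝟙 F).hom.app U = n • 𝟙 (F.obj.obj U) := fun U => rfl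
  haveI : ∀ U, IsIso ((n • 𝟙 F).hom.app U) := fun U => (ConcreteCategory.isIso_iff_bijective _).2 <| by
    rw [hv U]
    exact hF U.unop n hn
  haveI h1 : IsIso (n • 𝟙 F).hom := NatIso.isIso_of_isIso_app _
  haveI : IsIso ((sheafToPresheaf X.smallEtaleTopology AddCommGrpCat.{u + 1}).map (n • 𝟙 F)) := h1
  exact isIso_of_reflects_iso _ (sheafToPresheaf X.smallEtaleTopology AddCommGrpCat.{u + 1})

end Groth.Agent.H05EGA4.EtCl
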