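import Groth.Agent.H05EGA4.EtCl.Torsion
import Groth.Agent.H05EGA4.EtDiv.Units
import Groth.Agent.H18Et.EtaleStalk
import Mathlib.RingTheory.Ideal.UFD

/-!
# Divisor classes on schemes with factorial étale local rings
-/

set_option autoImplicit false
set_option linter.style.haveILetI false
set_option linter.unusedSectionVars false
set_option linter.overlappingInstances false
set_option backward.isDefEq.respectTransparency false
set_option backward.isDefEq.respectTransparency.types false

universe u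

open CategoryTheory CategoryTheory.Limits AlgebraicGeometry Opposite TopologicalSpace IsLocalRing

namespace Groth.Agent.H05EGA4.EtCl

open Groth.Agent.H18Et.MuConst (sec)
open scoped Groth.Agent.H18Et

section Algebra

theorem dvd_of_local {R : Type*} [CommRing R] [IsDomain R] [UniqueFactorizationMonoid R] (A : R) :
    A ≠ 0 → ∀ B : R, (∀ p, Prime p → ∃ s, ¬p ∣ s ∧ A ∣ s * B) → A ∣ B := by
  induction A using UniqueFactorizationMonoid.induction_on_prime with
  | h₁ => exact fun h => absurd rfl h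
  | h₂ x hx => exact fun _ B _ => hx.dvd
  | h₃ a p ha hp ih =>
    intro _ B h
    obtain ⟨d, rfl⟩ := ih ha B fun q hq => (h q hq).imp fun s hs => ⟨hs.1, (dvd_mul_left a p).trans hs.2⟩
    obtain ⟨s, hs, c, hc⟩ := h p hp
    have h1 : s * d = p * c := mul_left_cancel₀ ha (by linear_combination hc)
    obtain ⟨e, rfl⟩ := (hp.dvd_or_dvd ⟨c, h1⟩).resolve_left hs
    exact ⟨e, by ring⟩

theorem dvd_of_map_dvd {R S : Type u} [CommRing R] [IsLocalRing R] [CommRing S] [IsLocalRing S] (f : R →+* S)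
    [IsLocalHom f] (hflat : f.Flat) {a b : R} (h : f a ∣ f b) : a ∣ b := by
  algebraize [f]
  haveI : Module.FaithfullyFlat R S := by
    haveI : Module.Flat R S := hflat
    haveI : IsLocalHom (algebraMap R S) := ‹IsLocalHom f›
    exact Module.FaithfullyFlat.of_flat_of_isLocalHom
  rw [← Ideal.mem_span_singleton] at h ⊢
  refine (Ideal.comap_map_eq_self_of_faithfullyFlat (B := S) (Ideal.span {a})).le ?_
  rw [Ideal.mem_comap, Ideal.map_span, Set.image_singleton]
  exact h

theorem exists_pow_of_span {R : Type*} [CommRing R] [IsDomain R] [IsLocalRing R] [UniqueFactorizationMonoid R]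
    {t : R} (ht : maximalIdeal R = Ideal.span {t}) {a : R} (ha : a ≠ 0) : ∃ i : ℕ, Associated a (t ^ i) := by
  have htu : ¬IsUnit t := fun hu => (maximalIdeal.isMaximal R).ne_top (ht.trans (Ideal.span_singleton_eq_top.2 hu))
  obtain ⟨i, c, hc, rfl⟩ := WfDvdMonoid.max_power_factor' ha htu
  refine ⟨i, associated_mul_unit_left _ _ ?_⟩
  by_contra hcu
  exact hc (Ideal.mem_span_singleton.1 (ht ▸ (mem_maximalIdeal c).2 hcu))

end Algebra

variable {X : Scheme.{u}}

/-- Every étale local ring is a factorial domain. -/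
def Factorial (X : Scheme.{u}) : Prop :=
  ∀ (U : X.Etale) (v : U.left), IsDomain (U.left.presheaf.stalk v) ∧
    UniqueFactorizationMonoid (U.left.presheaf.stalk v)

section Affine

variable {Y : Scheme.{u}} [IsAffine Y]

/-- The prime of a point of an affine scheme. -/
noncomputable def pid (y : Y) : Ideal Γ(Y, ⊤) := ((isAffineOpen_top Y).primeIdealOf ⟨y, trivial⟩).asIdeal

instance isPrime_pid (y : Y) : (pid y).IsPrime := ((isAffineOpen_top Y).primeIdealOf ⟨y, trivial⟩).isPrime

theorem isUnit_germ_iff (y : Y) (A : Γ(Y, ⊤)) : IsUnit (Y.presheaf.germ ⊤ y trivial A) ↔ A ∉ pid y := by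
  letI := TopCat.Presheaf.algebra_section_stalk Y.presheaf (⟨y, trivial⟩ : (⊤ : Y.Opens))
  haveI : IsLocalization.AtPrime (Y.presheaf.stalk y) (pid y) := (isAffineOpen_top Y).isLocalization_stalk ⟨y, trivial⟩
  exact IsLocalization.AtPrime.isUnit_to_map_iff (Y.presheaf.stalk y) (pid y) A

theorem dim_eq_height (y : Y) : ringKrullDim (Y.presheaf.stalk y) = (pid y).height := by
  letI := TopCat.Presheaf.algebra_section_stalk Y.presheaf (⟨y, trivial⟩ : (⊤ : Y.Opens))
  haveI : IsLocalization.AtPrime (Y.presheaf.stalk y) (pid y) := (isAffineOpen_top Y).isLocalization_stalk ⟨y, trivial⟩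
  exact IsLocalization.AtPrime.ringKrullDim_eq_height (pid y) (Y.presheaf.stalk y)

theorem specializes_of_le {a b : Y} (h : pid a ≤ pid b) : a ⤳ b := by
  have := ((PrimeSpectrum.le_iff_specializes ((isAffineOpen_top Y).primeIdealOf ⟨a, trivial⟩)
    ((isAffineOpen_top Y).primeIdealOf ⟨b, trivial⟩)).1 h).map (isAffineOpen_top Y).fromSpec.continuous
  rwa [IsAffineOpen.fromSpec_primeIdealOf, IsAffineOpen.fromSpec_primeIdealOf] at this

theorem exists_pt (q : Ideal Γ(Y, ⊤)) [hq : q.IsPrime] : ∃ y : Y, pid y = q := by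
  refine ⟨(isAffineOpen_top Y).fromSpec ⟨q, hq⟩, ?_⟩
  exact congrArg PrimeSpectrum.asIdeal ((isAffineOpen_top Y).fromSpec.isOpenEmbedding.injective
    ((isAffineOpen_top Y).fromSpec_primeIdealOf ⟨_, trivial⟩))

end Affine

/-- Associated germs. -/
def AssocAt {V : X.Etale} (A B : Γ(V.left, ⊤)) (v : V.left) : Prop :=
  Associated (V.left.presheaf.germ ⊤ v trivial A) (V.left.presheaf.germ ⊤ v trivial B)

theorem isReduced_of_factorial (hF : Factorial X) : IsReduced X := by
  haveI : ∀ x : X, _root_.IsReduced (X.presheaf.stalk x) := fun x => by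
    haveI : IsDomain (X.presheaf.stalk x) := (hF (EtCoh.top X) x).1
    infer_instance
  exact isReduced_of_isReduced_stalk X

variable [IsLocallyNoetherian X]

/-- Points of height one. -/
def HtOne (V : X.Etale) (v : V.left) : Prop := ringKrullDim (V.left.presheaf.stalk v) = 1

theorem htOne_iff (V : X.Etale) (v : V.left) : HtOne V v ↔ ringKrullDim (X.presheaf.stalk (V.hom v)) = 1 := by
  haveI : Etale V.hom := V.prop
  haveI : IsLocallyNoetherian ((Functor.fromPUnit X).obj V.right) := inferInstanceAs (IsLocallyNoetherian X)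
  exact iff_of_eq (congrArg (· = (1 : WithBot ℕ∞)) (H18Et.ringKrullDim_stalk_eq_of_etale V.hom v))

theorem htOne_map_iff {V W : X.Etale} (g : W ⟶ V) (w : W.left) : HtOne V (g.left w) ↔ HtOne W w := by
  rw [htOne_iff, htOne_iff, hom_left]

theorem not_isMaxPt_of_htOne (hF : Factorial X) {V : X.Etale} {v : V.left} (h : HtOne V v) : ¬IsMaxPt v := by
  intro hv
  haveI := isReduced_of_factorial hF
  haveI := isReduced_left V
  rw [HtOne, ringKrullDim_eq_zero_of_isField (isField_stalk_of_isMaxPt v hv)] at h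
  exact zero_ne_one h

theorem isMaxPt_of_specializes_htOne (hF : Factorial X) {V : X.Etale} {v z : V.left} (h : HtOne V v)
    (hz : z ⤳ v) (hne : z ≠ v) : IsMaxPt z := by
  haveI := (hF V v).1
  haveI : Ring.KrullDimLE 1 (V.left.presheaf.stalk v) := (Ring.krullDimLE_iff).2 h.le
  intro y hy
  have key : ∀ w : V.left, w ⤳ v → w ≠ v → ∃ q : Spec (V.left.presheaf.stalk v), q.asIdeal = ⊥ ∧
      V.left.fromSpecStalk v q = w := fun w hw hwv => by
    obtain ⟨q, hq⟩ : w ∈ Set.range (V.left.fromSpecStalk v) := by rw [Scheme.range_fromSpecStalk]; exact hw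
    refine ⟨q, ?_, hq⟩
    by_contra hb
    have hm := (Ring.krullDimLE_one_iff_of_isPrime_bot.1 ‹_› q.asIdeal hb q.isPrime : q.asIdeal.IsMaximal)
    refine hwv (hq.symm.trans ?_)
    rw [show q = closedPoint (V.left.presheaf.stalk v) from PrimeSpectrum.ext (eq_maximalIdeal hm)]
    exact Scheme.fromSpecStalk_closedPoint
  have hyv : y ≠ v := fun e => hne (hz.antisymm (e ▸ hy)).eq
  obtain ⟨q, hq, hqy⟩ := key y (hy.trans hz) hyv
  obtain ⟨q', hq', hqz⟩ := key z hz hne
  rw [← hqy, ← hqz, show q = q' from PrimeSpectrum.ext (hq.trans hq'.symm)]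

theorem notMem_supp_sub_of_assoc {V : X.Etale} {A B : Γ(V.left, ⊤)} (hA : MaxUnit V A) (hB : MaxUnit V B)
    {v : V.left} (h : AssocAt A B v) : v ∉ EtShriek.sectSupp (ClM X) V (clM V hA - clM V hB) := by
  obtain ⟨e, he⟩ := h.symm
  obtain ⟨O, hvO, ε, hε⟩ := EtDiv.exists_unit_nbhd A B v e (he.symm.trans (mul_comm _ _))
  refine notMem_supp_of_map (subι V O) (⟨v, hvO⟩ : (sub V O).left) ?_
  intro hmem
  refine hmem _ (𝟙 _) ⟨⟨v, hvO⟩, rfl⟩ ?_
  have e1 : clM _ (hA.res (subι V O)) = clM _ ((maxUnit_units (sub V O) ε).mul (hB.res (subι V O))) :=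
    congrArg _ (psec_congr _ _ fun w _ => congrArg _ hε)
  rw [map_sub, res_clM, res_clM, e1, clM_mul (maxUnit_units (sub V O) ε) (hB.res (subι V O)), clM_units, zero_add,
    sub_self, map_zero]

theorem assoc_of_notMem_supp (hF : Factorial X) {V : X.Etale} {A B : Γ(V.left, ⊤)} (hA : MaxUnit V A)
    (hB : MaxUnit V B) {v : V.left} (h : v ∉ EtShriek.sectSupp (ClM X) V (clM V hA - clM V hB)) :
    AssocAt A B v := by
  simp only [EtShriek.sectSupp, Set.mem_ofPred_eq, not_forall, not_not] at h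
  obtain ⟨W, g, ⟨w, rfl⟩, h0⟩ := h
  rw [map_sub, res_clM, res_clM, clM, clM, ← map_sub] at h0
  obtain ⟨W', g', w', u, rfl, hu⟩ := exists_eM_of_π_eq_zero W _ h0 w
  rw [map_sub, res_psec, res_psec, eM_sec, sub_eq_iff_eq_add, ← psec_mul] at hu
  haveI := isReduced_of_factorial hF
  have hg : W'.left.presheaf.germ ⊤ w' trivial (g'.left.appTop (g.left.appTop A)) =
      W'.left.presheaf.germ ⊤ w' trivial (u * g'.left.appTop (g.left.appTop B)) := by
    refine sub_eq_zero.1 ((map_sub _ _ _).symm.trans (sepMax_of_isReduced W' w' _ fun z hz => ?_))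
    rw [map_sub]
    exact sub_eq_zero.2 (germ_eq_of_psec_eq _ _ hu z hz)
  let γ := g' ≫ g
  haveI := H18Et.etale_left γ
  haveI := (hF V (γ.left w')).1
  haveI : IsDomain (V.left.presheaf.stalk (g.left (g'.left w'))) := (hF V _).1
  have key : ∀ C : Γ(V.left, ⊤), W'.left.presheaf.germ ⊤ w' trivial (g'.left.appTop (g.left.appTop C)) =
      γ.left.stalkMap w' (V.left.presheaf.germ ⊤ (γ.left w') trivial C) := fun C => germ_appTop γ.left w' C
  rw [key, map_mul, key] at hg
  have hd : ∀ P Q : V.left.presheaf.stalk (γ.left w'),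
      γ.left.stalkMap w' P ∣ γ.left.stalkMap w' Q → P ∣ Q := fun P Q =>
    dvd_of_map_dvd (γ.left.stalkMap w').hom (Flat.stalkMap γ.left w')
  change Associated (V.left.presheaf.germ ⊤ (γ.left w') trivial A) (V.left.presheaf.germ ⊤ (γ.left w') trivial B)
  refine associated_of_dvd_dvd (hd _ _ ?_) (hd _ _ ?_)
  · rw [hg]
    exact ((u.isUnit.map (W'.left.presheaf.germ ⊤ w' trivial).hom).mul_left_dvd).2 dvd_rfl
  · exact ⟨_, hg.trans (mul_comm _ _)⟩

/-- Classes vanishing at the height one points vanish. -/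
theorem eq_zero_of_htOne (hF : Factorial X) (V : X.Etale) (s : EtCoh.sect (ClM X) V)
    (h : ∀ v, HtOne V v → v ∉ EtShriek.sectSupp (ClM X) V s) : s = 0 := by
  refine eq_zero_of_supp fun v => ?_
  obtain ⟨W, g, w, hWaff, A, B, hA, hB, rfl, -, hs⟩ :=
    exists_clM V v (fun W g w _ => uniqGen_of_isDomain w (hF W w).1) s
  refine notMem_supp_of_map g w ?_
  rw [hs]
  refine notMem_supp_sub_of_assoc hA hB ?_
  haveI := (hF W w).1
  haveI := (hF W w).2
  haveI : IsLocallyNoetherian W.left :=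
    haveI : Etale W.hom := W.prop
    haveI : IsLocallyNoetherian ((Functor.fromPUnit X).obj W.right) := inferInstanceAs (IsLocallyNoetherian X)
    LocallyOfFiniteType.isLocallyNoetherian W.hom
  haveI : IsNoetherianRing Γ(W.left, ⊤) := IsLocallyNoetherian.component_noetherian ⟨⊤, isAffineOpen_top W.left⟩
  letI := TopCat.Presheaf.algebra_section_stalk W.left.presheaf (⟨w, trivial⟩ : (⊤ : W.left.Opens))
  haveI : IsLocalization.AtPrime (W.left.presheaf.stalk w) (pid w) :=
    (isAffineOpen_top W.left).isLocalization_stalk ⟨w, trivial⟩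
  haveI : IsNoetherianRing (W.left.presheaf.stalk w) := IsLocalization.isNoetherianRing (pid w).primeCompl _ inferInstance
  have hne : ∀ {C : Γ(W.left, ⊤)}, MaxUnit W C → W.left.presheaf.germ ⊤ w trivial C ≠ 0 := fun {C} hC h0 => by
    obtain ⟨z, hz, hzw⟩ := exists_isMaxPt w
    have h1 := congrArg (W.left.presheaf.stalkSpecializes hzw) h0
    rw [TopCat.Presheaf.germ_stalkSpecializes_apply, map_zero] at h1
    exact not_isUnit_zero (h1 ▸ hC z hz)
  suffices key : ∀ {P Q : Γ(W.left, ⊤)} (hP : MaxUnit W P),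
      (∀ z, HtOne W z → AssocAt P Q z) → W.left.presheaf.germ ⊤ w trivial P ∣ W.left.presheaf.germ ⊤ w trivial Q by
    have hz : ∀ z, HtOne W z → AssocAt A B z := fun z hz =>
      assoc_of_notMem_supp hF hA hB (hs ▸ notMem_supp_map g z (h _ ((htOne_map_iff g z).2 hz)))
    exact associated_of_dvd_dvd (key hA hz) (key hB fun z h' => (hz z h').symm)
  intro P Q hP hPQ
  refine dvd_of_local _ (hne hP) _ fun p hp => ?_
  let 𝔭 : Ideal (W.left.presheaf.stalk w) := Ideal.span {p}
  haveI : 𝔭.IsPrime := (Ideal.span_singleton_prime hp.ne_zero).2 hp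
  obtain ⟨z, hz⟩ := exists_pt (𝔭.comap (algebraMap Γ(W.left, ⊤) (W.left.presheaf.stalk w)))
  have hz1 : HtOne W z := by
    rw [HtOne, dim_eq_height, hz, ← Ideal.under_def, IsLocalization.height_under (pid w).primeCompl,
      Ideal.height_span_singleton_eq_one_of_mem_nonZeroDivisors (mem_nonZeroDivisors_of_ne_zero hp.ne_zero)
        hp.not_isUnit]
    rfl
  obtain ⟨c, hc⟩ := (hPQ z hz1).dvd
  letI := TopCat.Presheaf.algebra_section_stalk W.left.presheaf (⟨z, trivial⟩ : (⊤ : W.left.Opens))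
  haveI : IsLocalization.AtPrime (W.left.presheaf.stalk z) (pid z) :=
    (isAffineOpen_top W.left).isLocalization_stalk ⟨z, trivial⟩
  obtain ⟨⟨c₀, r⟩, hr⟩ := IsLocalization.surj (pid z).primeCompl c
  have hr' : c * W.left.presheaf.germ ⊤ z trivial r.1 = W.left.presheaf.germ ⊤ z trivial c₀ := hr
  have heq : W.left.presheaf.germ ⊤ z trivial (Q * r.1) = W.left.presheaf.germ ⊤ z trivial (P * c₀) := by
    rw [map_mul, map_mul, hc, mul_assoc, hr']
  obtain ⟨m, hm⟩ := (IsLocalization.eq_iff_exists (pid z).primeCompl (W.left.presheaf.stalk z)).1 heq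
  refine ⟨W.left.presheaf.germ ⊤ w trivial (m.1 * r.1), fun hdvd => ?_, ?_⟩
  · have hmem : m.1 * r.1 ∈ pid z := by
      exact (SetLike.ext_iff.1 hz _).2 (Ideal.mem_span_singleton.2 hdvd)
    exact ((inferInstance : (pid z).IsPrime).mem_or_mem hmem).elim m.2 r.2
  · refine ⟨W.left.presheaf.germ ⊤ w trivial (m.1 * c₀), ?_⟩
    rw [← map_mul, ← map_mul]
    exact congrArg _ (by linear_combination hm)

end Groth.Agent.H05EGA4.EtCl
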