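import Groth.Agent.H05EGA4.EtCl.Factorial

/-!
# The divisor classes as a sum over the points of height one
-/

set_option autoImplicit false
set_option linter.style.haveILetI false
set_option linter.unusedSectionVars false
set_option linter.overlappingInstances false
set_option backward.isDefEq.respectTransparency false
set_option backward.isDefEq.respectTransparency.types false

universe u

open CategoryTheory CategoryTheory.Limits AlgebraicGeometry Opposite TopologicalSpace IsLocalRing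

namespace Groth.Agent.H05EGA4.EtCl

open scoped Groth.Agent.H18Et

variable {X : Scheme.{u}} [IsLocallyNoetherian X]

/-- An equation of the prime divisor through a point `z` of height one. -/
structure IsEq (V : X.Etale) (t : Γ(V.left, ⊤)) (z : V.left) : Prop where
  maxUnit : MaxUnit V t
  span : maximalIdeal (V.left.presheaf.stalk z) = Ideal.span {V.left.presheaf.germ ⊤ z trivial t}
  unit : ∀ z', HtOne V z' → z' ≠ z → IsUnit (V.left.presheaf.germ ⊤ z' trivial t)

theorem notMem_supp_clM {V : X.Etale} {t : Γ(V.left, ⊤)} (ht : MaxUnit V t) {z : V.left}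
    (hz : IsUnit (V.left.presheaf.germ ⊤ z trivial t)) : z ∉ EtShriek.sectSupp (ClM X) V (clM V ht) := by
  have h : AssocAt t (1 : Γ(V.left, ⊤)) z := by
    rw [AssocAt, map_one]
    exact associated_one_iff_isUnit.2 hz
  have h1 : MaxUnit V (1 : Γ(V.left, ⊤)) := maxUnit_units V 1
  have := notMem_supp_sub_of_assoc ht h1 h
  rwa [show clM V h1 = 0 from clM_units V 1, sub_zero] at this

theorem notMem_supp_zero {F : EtCoh.Ab X} {V : X.Etale} (v : V.left) : v ∉ EtShriek.sectSupp F V 0 :=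
  fun h => h _ (𝟙 V) ⟨v, rfl⟩ (map_zero _)

theorem notMem_supp_neg {F : EtCoh.Ab X} {V : X.Etale} {s : EtCoh.sect F V} {v : V.left}
    (h : v ∉ EtShriek.sectSupp F V s) : v ∉ EtShriek.sectSupp F V (-s) := by
  simp only [EtShriek.sectSupp, Set.mem_ofPred_eq, not_forall, not_not] at h ⊢
  obtain ⟨W, g, hw, h0⟩ := h
  exact ⟨W, g, hw, by rw [map_neg, h0, neg_zero]⟩

theorem notMem_supp_zsmul {F : EtCoh.Ab X} {V : X.Etale} {s : EtCoh.sect F V} {v : V.left}
    (h : v ∉ EtShriek.sectSupp F V s) (n : ℤ) : v ∉ EtShriek.sectSupp F V (n • s) := by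
  simp only [EtShriek.sectSupp, Set.mem_ofPred_eq, not_forall, not_not] at h ⊢
  obtain ⟨W, g, hw, h0⟩ := h
  exact ⟨W, g, hw, by rw [map_zsmul, h0, smul_zero]⟩

theorem notMem_supp_sum {F : EtCoh.Ab X} {V : X.Etale} {ι : Type*} (S : Finset ι) (s : ι → EtCoh.sect F V)
    {v : V.left} (h : ∀ k ∈ S, v ∉ EtShriek.sectSupp F V (s k)) :
    v ∉ EtShriek.sectSupp F V (∑ k ∈ S, s k) :=
  Finset.sum_induction _ (fun t => v ∉ EtShriek.sectSupp F V t) (fun _ _ => notMem_supp_add) (notMem_supp_zero v) h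

theorem IsEq.res {V W : X.Etale} (g : W ⟶ V) {t : Γ(V.left, ⊤)} {z : W.left} (h : IsEq V t (g.left z))
    (huniq : ∀ z', g.left z' = g.left z → z' = z) : IsEq W (g.left.appTop t) z where
  maxUnit := h.maxUnit.res g
  span := by
    haveI := H18Et.etale_left g
    rw [germ_appTop, ← H18Et.map_maximalIdeal_stalk g.left z, h.span, Ideal.map_span, Set.image_singleton]
    rfl
  unit := fun z' hz' hne => by
    rw [germ_appTop]
    exact (h.unit _ ((htOne_map_iff g z').2 hz') fun e => hne (huniq z' e)).map _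

theorem exists_pow_germ (hF : Factorial X) {V : X.Etale} {t : Γ(V.left, ⊤)} {z : V.left}
    (h : maximalIdeal (V.left.presheaf.stalk z) = Ideal.span {V.left.presheaf.germ ⊤ z trivial t})
    {A : Γ(V.left, ⊤)} (hA : MaxUnit V A) :
    ∃ i : ℕ, AssocAt A (t ^ i) z := by
  haveI := (hF V z).1
  haveI := (hF V z).2
  have hne : V.left.presheaf.germ ⊤ z trivial A ≠ 0 := fun h0 => by
    obtain ⟨w, hw, hwz⟩ := exists_isMaxPt z
    have h1 := congrArg (V.left.presheaf.stalkSpecializes hwz) h0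
    rw [TopCat.Presheaf.germ_stalkSpecializes_apply, map_zero] at h1
    exact not_isUnit_zero (h1 ▸ hA w hw)
  obtain ⟨i, hi⟩ := exists_pow_of_span h hne
  exact ⟨i, by rw [AssocAt, map_pow]; exact hi⟩

theorem maxUnit_pow {V : X.Etale} {t : Γ(V.left, ⊤)} (ht : MaxUnit V t) : ∀ i : ℕ, MaxUnit V (t ^ i) :=
  fun i w hw => by rw [map_pow]; exact (ht w hw).pow i

theorem clM_pow {V : X.Etale} {t : Γ(V.left, ⊤)} (ht : MaxUnit V t) (i : ℕ) :
    clM V (maxUnit_pow ht i) = (i : ℤ) • clM V ht := by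
  induction i with
  | zero =>
    rw [show clM V (maxUnit_pow ht 0) = clM V (maxUnit_units V 1) from
      congrArg _ (psec_congr _ _ fun w _ => by rw [pow_zero, Units.val_one]), clM_units, Nat.cast_zero, zero_smul]
  | succ i ih =>
    rw [show clM V (maxUnit_pow ht (i + 1)) = clM V ((maxUnit_pow ht i).mul ht) from
      congrArg _ (psec_congr _ _ fun w _ => by rw [pow_succ]), clM_mul (maxUnit_pow ht i) ht, ih, Nat.cast_succ, add_smul, one_smul]

/-- Near a point of height one every class is a multiple of the class of an equation. -/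
theorem exists_zsmul_near (hF : Factorial X) {V : X.Etale} {t : Γ(V.left, ⊤)} (ht : MaxUnit V t) {z : V.left}
    (hz : maximalIdeal (V.left.presheaf.stalk z) = Ideal.span {V.left.presheaf.germ ⊤ z trivial t})
    (s : EtCoh.sect (ClM X) V) : ∃ n : ℤ, z ∉ EtShriek.sectSupp (ClM X) V (s - n • clM V ht) := by
  obtain ⟨W, g, w, -, A, B, hA, hB, rfl, -, hs⟩ :=
    exists_clM V z (fun W g w _ => uniqGen_of_isDomain w (hF W w).1) s
  haveI := H18Et.etale_left g
  have hw : maximalIdeal (W.left.presheaf.stalk w) =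
      Ideal.span {W.left.presheaf.germ ⊤ w trivial (g.left.appTop t)} := by
    rw [germ_appTop, ← H18Et.map_maximalIdeal_stalk g.left w, hz, Ideal.map_span, Set.image_singleton]
    rfl
  obtain ⟨i, hi⟩ := exists_pow_germ hF hw hA
  obtain ⟨j, hj⟩ := exists_pow_germ hF hw hB
  refine ⟨(i : ℤ) - j, notMem_supp_of_map g w ?_⟩
  rw [map_sub, map_zsmul, hs, res_clM, sub_smul, ← clM_pow, ← clM_pow, sub_sub_sub_comm, sub_eq_add_neg]
  exact notMem_supp_add (notMem_supp_sub_of_assoc hA _ hi) (notMem_supp_neg (notMem_supp_sub_of_assoc hB _ hj))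

/-- Equations of prime divisors exist near every specialisation. -/
theorem exists_isEq (hF : Factorial X) (V : X.Etale) [IsAffine V.left] (z v : V.left) (hz : HtOne V z)
    (hzv : pid z ≤ pid v) :
    ∃ (O : V.left.Opens) (_ : v ∈ O) (_ : z ∈ O) (t : Γ((sub V O).left, ⊤)),
      ∀ z₀ : (sub V O).left, (subι V O).left z₀ = z → IsEq (sub V O) t z₀ := by
  haveI : IsLocallyNoetherian V.left :=
    haveI : Etale V.hom := V.prop
    haveI : IsLocallyNoetherian ((Functor.fromPUnit X).obj V.right) := inferInstanceAs (IsLocallyNoetherian X)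
    LocallyOfFiniteType.isLocallyNoetherian V.hom
  haveI : IsNoetherianRing Γ(V.left, ⊤) := IsLocallyNoetherian.component_noetherian ⟨⊤, isAffineOpen_top V.left⟩
  letI := TopCat.Presheaf.algebra_section_stalk V.left.presheaf (⟨v, trivial⟩ : (⊤ : V.left.Opens))
  haveI : IsLocalization.AtPrime (V.left.presheaf.stalk v) (pid v) :=
    (isAffineOpen_top V.left).isLocalization_stalk ⟨v, trivial⟩
  haveI := (hF V v).1
  haveI := (hF V v).2
  have hdisj : Disjoint ((pid v).primeCompl : Set Γ(V.left, ⊤)) (pid z : Set Γ(V.left, ⊤)) :=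
    Set.disjoint_left.2 fun a ha haz => ha (hzv haz)
  haveI hP : ((pid z).map (algebraMap Γ(V.left, ⊤) (V.left.presheaf.stalk v))).IsPrime :=
    IsLocalization.isPrime_of_isPrime_disjoint (pid v).primeCompl _ (pid z) inferInstance hdisj
  have hh : ((pid z).map (algebraMap Γ(V.left, ⊤) (V.left.presheaf.stalk v))).height = 1 := by
    rw [IsLocalization.height_map_of_disjoint (pid v).primeCompl _ hdisj]
    have := hz
    rw [HtOne, dim_eq_height] at this
    exact WithBot.coe_eq_one.1 this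
  obtain ⟨x, hx⟩ := (UniqueFactorizationMonoid.isPrincipal_of_height_eq_one hh).principal
  obtain ⟨t, ht, g, hg, hgt⟩ := EtDiv.exists_spread (V.left.presheaf.stalk v) (pid v) (pid z)
    (IsNoetherian.noetherian _) x hx
  let O : V.left.Opens := V.left.basicOpen g
  have hvO : v ∈ O := (V.left.mem_basicOpen g v trivial).2 ((isUnit_germ_iff v g).2 hg)
  have hgz : g ∉ pid z := fun h => hg (hzv h)
  have hzO : z ∈ O := (V.left.mem_basicOpen g z trivial).2 ((isUnit_germ_iff z g).2 hgz)
  have hle : ∀ y : V.left, y ∈ O → t ∈ pid y → pid z ≤ pid y := fun y hy hty a ha => by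
    obtain ⟨c, hc⟩ := hgt a ha
    refine ((inferInstance : (pid y).IsPrime).mem_or_mem ((hc ▸ Ideal.mul_mem_left _ c hty : g * a ∈ pid y))).resolve_left ?_
    exact (isUnit_germ_iff y g).1 ((V.left.mem_basicOpen g y trivial).1 hy)
  refine ⟨O, hvO, hzO, (subι V O).left.appTop t, fun z₀ hz₀ => ?_⟩
  subst hz₀
  have hnm : ¬IsMaxPt ((subι V O).left z₀) := not_isMaxPt_of_htOne hF hz
  haveI := H18Et.etale_left (subι V O)
  refine ⟨fun w hw => ?_, ?_, fun z' hz' hne => ?_⟩
  · rw [germ_appTop]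
    refine (((isUnit_germ_iff _ t).2 fun hty => ?_)).map _
    have hmax := (isMaxPt_map_iff (subι V O) w).2 hw
    exact hnm ((hmax _ (specializes_of_le (hle _ w.2 hty))).symm ▸ hmax)
  · rw [germ_appTop, ← H18Et.map_maximalIdeal_stalk (subι V O).left z₀, ← Set.image_singleton, ← Ideal.map_span]
    refine congrArg _ (le_antisymm ?_ ((Ideal.span_singleton_le_iff_mem _).2
      ((mem_maximalIdeal _).2 fun hu => (isUnit_germ_iff _ t).1 hu ht)))
    letI := TopCat.Presheaf.algebra_section_stalk V.left.presheaf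
      (⟨(subι V O).left z₀, trivial⟩ : (⊤ : V.left.Opens))
    haveI : IsLocalization.AtPrime (V.left.presheaf.stalk ((subι V O).left z₀)) (pid ((subι V O).left z₀)) :=
      (isAffineOpen_top V.left).isLocalization_stalk ⟨_, trivial⟩
    rw [← IsLocalization.AtPrime.map_eq_maximalIdeal (pid ((subι V O).left z₀))
      (V.left.presheaf.stalk ((subι V O).left z₀)), Ideal.map_le_iff_le_comap]
    intro a ha
    obtain ⟨c, hc⟩ := hgt a ha
    rw [Ideal.mem_comap]
    refine (Ideal.unit_mul_mem_iff_mem _ ((isUnit_germ_iff ((subι V O).left z₀) g).2 hgz)).1 ?_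
    show V.left.presheaf.germ ⊤ _ trivial g * V.left.presheaf.germ ⊤ _ trivial a ∈ _
    rw [← map_mul, hc, map_mul]
    exact Ideal.mul_mem_left _ _ (Ideal.mem_span_singleton_self _)
  · rw [germ_appTop]
    refine (((isUnit_germ_iff _ t).2 fun hty => ?_)).map _
    exact hnm (isMaxPt_of_specializes_htOne hF ((htOne_map_iff (subι V O) z').2 hz') (specializes_of_le (hle _ z'.2 hty))
      fun e => hne (Subtype.ext e.symm))

/-- The points of height one of the base. -/
abbrev HPts (X : Scheme.{u}) : Type (u + 1) := ULift.{u + 1} {x : X // ringKrullDim (X.presheaf.stalk x) = 1}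

/-- The factors of the sum. -/
noncomputable abbrev HFac (X : Scheme.{u}) (k : HPts X) : EtCoh.Ab X :=
  compObj (P := fun x => ringKrullDim (X.presheaf.stalk x) = 1) (ClM X) k

theorem htOne_of_hom {V : X.Etale} {z : V.left} (k : HPts X) (h : V.hom z = k.down.1) : HtOne V z :=
  (htOne_iff V z).2 (h.symm ▸ k.down.2)

theorem fin_ClM (hF : Factorial X) (V : X.Etale) (s : EtCoh.sect (ClM X) V) (v : V.left) :
    ∃ (V' : X.Etale) (g : V' ⟶ V) (v' : V'.left) (S : Finset (HPts X)), g.left v' = v ∧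
      ∀ k ∉ S, (compMap (ClM X) k).hom.app (op V') ((ClM X).obj.map g.op s) = 0 := by
  classical
  haveI : Etale V.hom := V.prop
  haveI : IsLocallyNoetherian V.left :=
    haveI : IsLocallyNoetherian ((Functor.fromPUnit X).obj V.right) := inferInstanceAs (IsLocallyNoetherian X)
    LocallyOfFiniteType.isLocallyNoetherian V.hom
  obtain ⟨O, hO, hvO, -⟩ := exists_isAffineOpen_mem_and_subset (U := (⊤ : V.left.Opens)) (x := v) trivial
  let V' := sub V O
  haveI : IsAffine V'.left := hO
  haveI : IsAffine O.toScheme := hO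
  haveI : IsLocallyNoetherian O.toScheme := LocallyOfFiniteType.isLocallyNoetherian O.ι
  haveI : AlgebraicGeometry.IsNoetherian O.toScheme := {}
  haveI : AlgebraicGeometry.IsNoetherian V'.left :=
    inferInstanceAs (AlgebraicGeometry.IsNoetherian O.toScheme)
  let s' : EtCoh.sect (ClM X) V' := (ClM X).obj.map (subι V O).op s
  let C : Set V'.left := EtShriek.sectSupp (ClM X) V' s'
  have hC : IsClosed C := H18Et.isClosed_sectSupp _ _ _
  haveI : QuasiSober C := hC.isClosedEmbedding_subtypeVal.quasiSober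
  have hfin := (genericPoints.finite (α := C) TopologicalSpace.NoetherianSpace.finite_irreducibleComponents).image
    (Subtype.val (p := fun z => z ∈ C))
  let S : Finset X := hfin.toFinset.image fun z => V'.hom z
  refine ⟨V', subι V O, ⟨v, hvO⟩, S.preimage (fun k : HPts X => k.down.1) (fun a _ b _ e => ULift.ext _ _ (Subtype.ext e)),
    rfl, fun k hk => compMap_eq_zero (ClM X) k V' s' fun z hz hzC => hk ?_⟩
  rw [Finset.mem_preimage, Finset.mem_image]
  refine ⟨z, hfin.mem_toFinset.2 ⟨⟨z, hzC⟩, ?_, rfl⟩, hz⟩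
  refine ⟨isIrreducible_singleton.closure, fun T hT hle => ?_⟩
  obtain ⟨η, hη⟩ := QuasiSober.sober hT.closure isClosed_closure
  have h : η ⤳ (⟨z, hzC⟩ : C) := hη.specializes (subset_closure (hle (subset_closure rfl)))
  have he : η = ⟨z, hzC⟩ := Subtype.ext (by
    by_contra hne
    exact notMem_supp_maxPt V' s' η.1
      (isMaxPt_of_specializes_htOne hF (htOne_of_hom k hz) (h.map continuous_subtype_val) hne) η.2)
  rw [he] at hη
  exact subset_closure.trans hη.def.ge

theorem finite_fibre (V : X.Etale) [IsAffine V.left] (x : X) : (V.hom.base ⁻¹' {x}).Finite := by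
  haveI : Etale V.hom := V.prop
  haveI : IsLocallyNoetherian V.left :=
    haveI : IsLocallyNoetherian ((Functor.fromPUnit X).obj V.right) := inferInstanceAs (IsLocallyNoetherian X)
    LocallyOfFiniteType.isLocallyNoetherian V.hom
  haveI : AlgebraicGeometry.IsNoetherian V.left := {}
  haveI : NoetherianSpace ↥((𝟭 Scheme).obj V.left) := inferInstanceAs (NoetherianSpace V.left)
  exact (TopologicalSpace.NoetherianSpace.isCompact (α := V.left) _).finite (V.hom.isDiscrete_preimage_singleton x)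

theorem real_ClM (hF : Factorial X) (k : HPts X) (V : X.Etale) (c : EtCoh.sect (HFac X k) V) (v : V.left) :
    ∃ (V' : X.Etale) (g : V' ⟶ V) (v' : V'.left) (s : EtCoh.sect (ClM X) V'), g.left v' = v ∧
      (compMap (ClM X) k).hom.app (op V') s = (HFac X k).obj.map g.op c ∧
        ∀ l, l ≠ k → (compMap (ClM X) l).hom.app (op V') s = 0 := by
  classical
  let i := X.fromSpecResidueField k.down.1
  have hr : ∀ {W : X.Etale} {w : W.left}, W.hom w ∈ Set.range i ↔ W.hom w = k.down.1 := fun {W w} => by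
    simp [i, Scheme.range_fromSpecResidueField]
  obtain ⟨O, hO, hvO, -⟩ := exists_isAffineOpen_mem_and_subset (U := (⊤ : V.left.Opens)) (x := v) trivial
  let V₀ := sub V O
  haveI : IsAffine V₀.left := hO
  haveI : IsAffine ((𝟭 Scheme).obj V₀.left) := hO
  let Z : Set V₀.left := {z | V₀.hom z = k.down.1 ∧ pid z ≤ pid (⟨v, hvO⟩ : V₀.left)}
  have hZ : Z.Finite := (finite_fibre V₀ k.down.1).subset fun z hz => hz.1
  choose! O₁ hv₁ hz₁ t₁ ht₁ using fun z (hz : z ∈ Z) =>
    exists_isEq hF V₀ z ⟨v, hvO⟩ (htOne_of_hom k hz.1) hz.2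
  let Cl' : Set V₀.left := ⋃ z ∈ (V₀.hom.base ⁻¹' {k.down.1}) \ Z, closure {z}
  have hCl : IsClosed Cl' :=
    ((finite_fibre V₀ k.down.1).subset Set.sdiff_subset).isClosed_biUnion fun _ _ => isClosed_closure
  have hvCl : (⟨v, hvO⟩ : V₀.left) ∉ Cl' := fun hm => by
    obtain ⟨z, hz, hzv⟩ := Set.mem_iUnion₂.1 hm
    refine hz.2 ⟨hz.1, fun a ha => ?_⟩
    by_contra hav
    exact (isUnit_germ_iff z a).1 ((V₀.left.mem_basicOpen a z trivial).1 ((specializes_iff_mem_closure.2 hzv).mem_open
      (V₀.left.basicOpen a).2 ((V₀.left.mem_basicOpen a _ trivial).2 ((isUnit_germ_iff _ a).2 hav)))) ha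
  let O₂ : V₀.left.Opens := ⟨Cl'ᶜ ∩ ⋂ z ∈ Z, (O₁ z : Set V₀.left),
    hCl.isOpen_compl.inter (hZ.isOpen_biInter fun z _ => (O₁ z).2)⟩
  have hvO₂ : (⟨v, hvO⟩ : V₀.left) ∈ O₂ := ⟨hvCl, Set.mem_iInter₂.2 hv₁⟩
  have hle₂ : ∀ z ∈ Z, O₂ ≤ O₁ z := fun z hz y hy => Set.mem_iInter₂.1 hy.2 z hz
  let W := sub V₀ O₂
  let γ : W ⟶ V := subι V₀ O₂ ≫ subι V O
  have hmem : ∀ w : W.left, W.hom w = k.down.1 → w.1 ∈ Z := fun w hw => by
    by_contra hn
    exact w.2.1 (Set.mem_iUnion₂.2 ⟨w.1, ⟨hw, hn⟩, subset_closure rfl⟩)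
  have key : ∀ z : {z : W.left // W.hom z = k.down.1}, ∃ (t : Γ(W.left, ⊤)) (ht : IsEq W t z.1) (n : ℤ),
      ∀ r : ((EtCoh.bc i).obj W).left, (pullback.fst W.hom i) r = z.1 →
        r ∉ EtShriek.sectSupp ((EtCoh.pull i).obj (ClM X)) ((EtCoh.bc i).obj W)
          (unit i (ClM X) W (n • clM W ht.maxUnit) - ((EtCoh.pull i).obj (ClM X)).obj.map ((EtCoh.bc i).map γ).op c) := by
    rintro ⟨z, hz⟩
    have hzZ := hmem z hz
    let a : W ⟶ sub V₀ (O₁ z.1) := MorphismProperty.Over.homMk (V₀.left.homOfLE (hle₂ _ hzZ))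
      ((Category.assoc _ _ _).symm.trans (congrArg (fun f => f ≫ V₀.hom) (Scheme.homOfLE_ι V₀.left (hle₂ _ hzZ)))) trivial
    have ha : a ≫ subι V₀ (O₁ z.1) = subι V₀ O₂ := MorphismProperty.Over.Hom.ext (V₀.left.homOfLE_ι (hle₂ _ hzZ))
    have haι : ∀ w, (subι V₀ (O₁ z.1)).left (a.left w) = (subι V₀ O₂).left w := fun w => by
      rw [← ha]; rfl
    have ht : IsEq W (a.left.appTop (t₁ z.1)) z :=
      IsEq.res a (ht₁ z.1 hzZ _ (haι z)) fun z' e => Subtype.ext ((haι z').symm.trans
        ((congrArg (subι V₀ (O₁ z.1)).left e).trans (haι z)))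
    obtain ⟨p, hp⟩ := exists_pt_of_mem_range i W z (hr.2 hz)
    obtain ⟨Z', g, q, s, hq, hqs⟩ := exists_unit_near i (ClM X) W
      (((EtCoh.pull i).obj (ClM X)).obj.map ((EtCoh.bc i).map γ).op c) p
    let z' : Z'.left := (pullback.fst Z'.hom i) q
    have hgz : g.left z' = z := by rw [← hp, ← hq, fst_bcMap]
    haveI := H18Et.etale_left g
    have hspan : maximalIdeal (Z'.left.presheaf.stalk z') =
        Ideal.span {Z'.left.presheaf.germ ⊤ z' trivial (g.left.appTop (a.left.appTop (t₁ z.1)))} := by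
      have hsp := ht.span
      subst hgz
      rw [germ_appTop g.left z', ← H18Et.map_maximalIdeal_stalk g.left z', hsp, Ideal.map_span, Set.image_singleton]
      rfl
    obtain ⟨n, hn⟩ := exists_zsmul_near hF (ht.maxUnit.res g) hspan s
    refine ⟨_, ht, n, fun r hr' => ?_⟩
    obtain rfl : ((EtCoh.bc i).map g).left q = r := fst_injective i W (by rw [hq, hp, hr'])
    refine notMem_supp_of_map ((EtCoh.bc i).map g) q ?_
    have h1 : q ∉ EtShriek.sectSupp ((EtCoh.pull i).obj (ClM X)) ((EtCoh.bc i).obj Z')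
        (unit i (ClM X) Z' (s - n • clM Z' (ht.maxUnit.res g))) := (notMem_supp_unit_iff i _ _ _ q).2 hn
    have h2 := notMem_supp_add (notMem_supp_neg h1) hqs
    have e : ∀ x y, unit i (ClM X) Z' (x - y) = unit i (ClM X) Z' x - unit i (ClM X) Z' y := fun x y => map_sub _ _ _
    rw [map_sub, unit_res, map_zsmul, res_clM]
    rw [e, neg_sub, sub_add_sub_cancel] at h2
    exact h2
  choose t ht n hn using key
  haveI : Finite {z : W.left // W.hom z = k.down.1} := by
    haveI := (finite_fibre V₀ k.down.1).to_subtype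
    exact Finite.of_injective (β := ↥(V₀.hom.base ⁻¹' {k.down.1})) (fun z => ⟨z.1.1, z.2⟩)
      fun a b e => Subtype.ext (Subtype.ext (congrArg Subtype.val e :))
  haveI := Fintype.ofFinite {z : W.left // W.hom z = k.down.1}
  let s : EtCoh.sect (ClM X) W := ∑ z, n z • clM W (ht z).maxUnit
  refine ⟨W, γ, ⟨⟨v, hvO⟩, hvO₂⟩, s, rfl, ?_, fun l hl => compMap_eq_zero (ClM X) l W s fun w hw => ?_⟩
  · refine eq_res_of_supp (F := (EtCoh.pull i).obj (ClM X)) (V := (EtCoh.bc i).obj W) fun r => ?_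
    let z₀ : {z : W.left // W.hom z = k.down.1} := ⟨(pullback.fst W.hom i) r, hr.1 ⟨_, (hom_fst i W r).symm⟩⟩
    have e : s = n z₀ • clM W (ht z₀).maxUnit + ∑ z ∈ Finset.univ.erase z₀, n z • clM W (ht z).maxUnit :=
      (Finset.add_sum_erase _ _ (Finset.mem_univ z₀)).symm
    show r ∉ EtShriek.sectSupp _ _ (unit i (ClM X) W s - _)
    rw [e, show ∀ x y, unit i (ClM X) W (x + y) = unit i (ClM X) W x + unit i (ClM X) W y from fun x y => map_add _ _ _,
      add_sub_right_comm]
    refine notMem_supp_add (hn z₀ r rfl) ((notMem_supp_unit_iff i _ _ _ r).2 (notMem_supp_sum _ _ fun z hz => ?_))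
    refine notMem_supp_zsmul (notMem_supp_clM _ ((ht z).unit _ (htOne_of_hom k z₀.2) ?_)) _
    exact fun e => (Finset.mem_erase.1 hz).1 (Subtype.ext e.symm)
  · refine notMem_supp_sum _ _ fun z _ => notMem_supp_zsmul (notMem_supp_clM _
      ((ht z).unit w (htOne_of_hom l hw) fun e => hl (ULift.ext _ _ (Subtype.ext ?_)))) _
    rw [← hw, e, z.2]

theorem inj_ClM (hF : Factorial X) (V : X.Etale) (s : EtCoh.sect (ClM X) V)
    (h : ∀ k : HPts X, (compMap (ClM X) k).hom.app (op V) s = 0) : s = 0 :=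
  eq_zero_of_htOne hF V s fun v hv =>
    notMem_supp_of_compMap (ClM X) (⟨⟨V.hom v, (htOne_iff V v).1 hv⟩⟩ : HPts X) V s (h _) v rfl

/-- The classes are the sum of their components at the points of height one. -/
theorem nonempty_iso_coprod_factorial (hF : Factorial X) : Nonempty (ClM X ≅ ∐ HFac X) :=
  nonempty_iso_coprod (ClM X) (HFac X) (compMap (ClM X)) (inj_ClM hF) (fin_ClM hF) (real_ClM hF)

theorem exists_nsmul_H_ClM_factorial [CompactSpace X] [QuasiSeparatedSpace X] (hF : Factorial X) (n : ℕ)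
    (x : EtCoh.H X (ClM X) (n + 1)) : ∃ m, 0 < m ∧ m • x = 0 := by
  obtain ⟨e⟩ := nonempty_iso_coprod_factorial hF
  exact exists_nsmul_H_of_iso e _ (exists_nsmul_H_coprod _ _ fun k => exists_nsmul_H_compObj _ k n) x

end Groth.Agent.H05EGA4.EtCl
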