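import Groth.Agent.H05EGA4.EtCl.DimFun
import Groth.Agent.H05EGA4.EtCl.CurveOne
import Groth.Agent.S0642
import Groth.Agent.H7Lim.GeomConnFinite
import Mathlib.FieldTheory.RatFunc.AsPolynomial
import Mathlib.RingTheory.PolynomialAlgebra
import Mathlib.FieldTheory.PurelyInseparable.PerfectClosure
import Mathlib.RingTheory.AlgebraicIndependent.TranscendenceBasis

/-!
# Cohomological dimension and transcendence degree
-/

set_option autoImplicit false
set_option linter.style.haveILetI false
set_option linter.unusedSectionVars false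
set_option linter.overlappingInstances false
set_option backward.isDefEq.respectTransparency false
set_option backward.isDefEq.respectTransparency.types false

universe u

open CategoryTheory CategoryTheory.Limits AlgebraicGeometry Opposite Abelian TensorProduct
open scoped Classical

namespace Groth.Agent.H05EGA4.EtCl

open scoped Groth.Agent.H18Et

variable {X Y : Scheme.{u}} {ℓ : ℕ}

/-- Cohomological dimension does not grow along integral morphisms. -/
theorem cohDimLEAt_of_isIntegralHom (e : Y ⟶ X) [IsIntegralHom e] {d : ℕ} (h : Dix.CohDimLEAt X ℓ d) :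
    Dix.CohDimLEAt Y ℓ d := by
  intro F hF q hq
  obtain ⟨i⟩ := Groth.Agent.H15Site.IntDesc.nonempty_H_push e F q
  haveI := h _ (isPrimaryTorsion_push e (fun P _ => (H18Et.Coh.qcqs_bc e P).1) F hF) q hq
  exact Function.Injective.subsingleton (β := EtCoh.H X ((EtCoh.push e).obj F) q)
    i.addCommGroupIsoToAddEquiv.symm.injective

/-- Cohomological dimension descends along universal homeomorphisms. -/
theorem cohDimLEAt_of_univHomeo (e : Y ⟶ X) [IsIntegralHom e] [UniversallyInjective e] [Surjective e] {d : ℕ}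
    (h : Dix.CohDimLEAt Y ℓ d) : Dix.CohDimLEAt X ℓ d := by
  intro F hF q hq
  haveI := H18Et.pull_preservesFiniteLimits e
  haveI := h _ (isPrimaryTorsion_pull e hF) q hq
  exact Function.Injective.subsingleton (β := EtCoh.H Y ((EtCoh.pull e).obj F) q) (S0642.result e F q).1

theorem subsingleton_H_cz' : ∀ (j : ℕ) (G : EtCoh.Ab Y) (k : ℕ),
    Subsingleton (EtCoh.H Y (cz j G) (k + 1)) → Subsingleton (EtCoh.H Y G (k + j + 1))
  | 0, _, _, h => h
  | j + 1, G, k, h => subsingleton_of_forall_eq 0 fun x => by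
    haveI := subsingleton_H_cz' j (cokernel (Injective.ι G)) k h
    obtain ⟨y, hy⟩ := Ext.covariant_sequence_exact₁ _ (shortExact_cz G) x (Ext.eq_zero_of_injective _)
      (rfl : k + j + 1 + 1 = k + (j + 1) + 1)
    rw [← hy, Subsingleton.elim (α := EtCoh.H Y (cokernel (Injective.ι G)) (k + j + 1)) y 0, Ext.zero_comp]

section Leray

variable (f : Y ⟶ X)

theorem shortExact_push (A : EtCoh.Ab Y) (h : IsZero (rOne f A)) :
    (ShortComplex.mk ((EtCoh.push f).map (Injective.ι A)) ((EtCoh.push f).map (cokernel.π (Injective.ι A)))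
      (by rw [← Functor.map_comp, cokernel.condition, Functor.map_zero])).ShortExact := by
  haveI := H18Et.pull_preservesFiniteLimits f
  haveI := EtTors.preservesFiniteLimits_push f
  exact
    { exact := (ShortComplex.exact_cokernel (Injective.ι A) :
        (ShortComplex.mk _ _ (cokernel.condition (Injective.ι A))).Exact).map_of_mono_of_preservesKernel
          (EtCoh.push f) (inferInstanceAs (Mono (Injective.ι A))) inferInstance
      mono_f := inferInstanceAs (Mono ((EtCoh.push f).map (Injective.ι A)))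
      epi_g := Preadditive.epi_of_isZero_cokernel _ h }

theorem subsingleton_H_one (A : EtCoh.Ab Y) (h : IsZero (rOne f A))
    (h1 : Subsingleton (EtCoh.H X ((EtCoh.push f).obj A) 1)) : Subsingleton (EtCoh.H Y A 1) := by
  haveI := H18Et.pull_preservesFiniteLimits f
  refine subsingleton_of_forall_eq 0 fun x => ?_
  obtain ⟨z, hz⟩ := Ext.covariant_sequence_exact₁ _ (shortExact_cz A) x (Ext.eq_zero_of_injective _) (zero_add 1)
  obtain ⟨z, rfl⟩ := (Ext.mk₀_bijective _ _).surjective z
  let adj := EtCoh.pullPushAdj f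
  let y := adj.homEquiv _ _ ((EtCore.pullConst f ℤ).hom ≫ z)
  obtain ⟨w, hw⟩ := Ext.covariant_sequence_exact₃ _ (shortExact_push f A h) (Ext.mk₀ y) (zero_add 1)
    (h1.elim _ _)
  obtain ⟨w, rfl⟩ := (Ext.mk₀_bijective _ _).surjective w
  rw [Ext.mk₀_comp_mk₀] at hw
  have hw' := (Ext.mk₀_bijective _ _).injective hw
  have hz' : z = ((EtCore.pullConst f ℤ).inv ≫ (adj.homEquiv _ _).symm w) ≫ cokernel.π (Injective.ι A) := by
    rw [Category.assoc, ← adj.homEquiv_naturality_right_symm]
    erw [hw']
    rw [Equiv.symm_apply_apply, Iso.inv_hom_id_assoc]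
  rw [← hz, hz', ← Ext.mk₀_comp_mk₀, Ext.comp_assoc_of_second_deg_zero]
  exact (congrArg (fun t => (Ext.mk₀ ((EtCore.pullConst f ℤ).inv ≫ (adj.homEquiv _ _).symm w)).comp t (zero_add 1))
    (shortExact_cz A).comp_extClass).trans (Ext.comp_zero _ _ _ _ _)

variable (hR : ∀ (G : EtCoh.Ab Y), Dix.IsPrimaryTorsion ℓ G → ∀ j : ℕ, IsZero (rOne f (cz (j + 1) G)))
  (hR₀ : ∀ (G : EtCoh.Ab Y), Dix.IsPrimaryTorsion ℓ G → Dix.IsPrimaryTorsion ℓ (rOne f G))
  (hf : ∀ (G : EtCoh.Ab Y), Dix.IsPrimaryTorsion ℓ G → Dix.IsPrimaryTorsion ℓ ((EtCoh.push f).obj G))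

include hR hR₀ hf

/-- Leray for a morphism with two direct images. -/
theorem cohDimLEAt_succ {d : ℕ} (hX : Dix.CohDimLEAt X ℓ d) : Dix.CohDimLEAt Y ℓ (d + 1) := by
  intro G hG q hq
  obtain ⟨r, rfl⟩ : ∃ r, q = r + 2 := ⟨q - 2, by omega⟩
  haveI := H18Et.pull_preservesFiniteLimits f
  haveI := EtTors.preservesFiniteLimits_push f
  -- the first image
  let ι := Injective.ι G
  have hS : (ShortComplex.mk ((EtCoh.push f).map ι) (cokernel.π _) (cokernel.condition _)).ShortExact :=
    { exact := ShortComplex.exact_cokernel _, mono_f := inferInstanceAs (Mono ((EtCoh.push f).map ι)),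
      epi_g := inferInstanceAs (Epi (cokernel.π _)) }
  let κ := cokernel.desc ((EtCoh.push f).map ι) ((EtCoh.push f).map (cokernel.π ι))
    (by rw [← Functor.map_comp, cokernel.condition, Functor.map_zero])
  haveI : Mono κ := EtTors.mono_desc_push f G
  have hK : (ShortComplex.mk κ (cokernel.π κ) (cokernel.condition _)).ShortExact :=
    { exact := ShortComplex.exact_cokernel _, mono_f := inferInstanceAs (Mono κ),
      epi_g := inferInstanceAs (Epi (cokernel.π κ)) }
  let e : cokernel κ ≅ rOne f G :=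
    (cokernelEpiComp (cokernel.π ((EtCoh.push f).map ι)) κ).symm ≪≫ cokernelIsoOfEq (cokernel.π_desc _ _ _)
  have hC : Subsingleton (EtCoh.H X (cokernel ((EtCoh.push f).map ι)) (r + 1)) :=
    subsingleton_of_forall_eq 0 fun x => by
      haveI := EtTors.injective_push f (Injective.under G)
      have h2 : x.comp hS.extClass (rfl : r + 1 + 1 = r + 2) = 0 := (hX _ (hf G hG) (r + 2) (by omega)).elim _ _
      obtain ⟨y, hy⟩ := Ext.covariant_sequence_exact₃ _ hS x (rfl : r + 1 + 1 = r + 2) h2
      rw [← hy, Ext.eq_zero_of_injective y, Ext.zero_comp]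
  have hP1 : Subsingleton (EtCoh.H X ((EtCoh.push f).obj (cz 1 G)) (r + 1)) :=
    subsingleton_of_forall_eq 0 fun x => by
      haveI : Subsingleton (EtCoh.H X (cokernel κ) (r + 1)) := by
        haveI := hX _ (hR₀ G hG) (r + 1) (by omega)
        exact Function.Injective.subsingleton (β := EtCoh.H X (rOne f G) (r + 1))
          ((Sheaf.functorH _ (r + 1)).mapIso e).addCommGroupIsoToAddEquiv.injective
      obtain ⟨y, hy⟩ := Ext.covariant_sequence_exact₂ _ hK x
        (Subsingleton.elim (α := EtCoh.H X (cokernel κ) (r + 1)) _ _)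
      rw [← hy, hC.elim y 0, Ext.zero_comp]
  -- shifting
  have key : ∀ (i m : ℕ), Subsingleton (EtCoh.H X ((EtCoh.push f).obj (cz 1 G)) (m + 1 + i)) →
      Subsingleton (EtCoh.H X ((EtCoh.push f).obj (cz (i + 1) G)) (m + 1)) := by
    intro i
    induction i with
    | zero => exact fun m h => h
    | succ i ih =>
      intro m h
      have hh := ih (m + 1) (by rwa [show m + 1 + 1 + i = m + 1 + (i + 1) by omega])
      rw [cz_succ (i + 1) G]
      refine subsingleton_of_forall_eq 0 fun x => ?_
      haveI := EtTors.injective_push f (Injective.under (cz (i + 1) G))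
      obtain ⟨y, hy⟩ := Ext.covariant_sequence_exact₃ _ (shortExact_push f _ (hR G hG i)) x
        (rfl : m + 1 + 1 = m + 1 + 1) (hh.elim _ _)
      rw [← hy, Ext.eq_zero_of_injective y, Ext.zero_comp]
  have h1 := key r 0 (by rwa [show 0 + 1 + r = r + 1 by omega])
  have h2 := subsingleton_H_cz' (r + 1) G 0 (subsingleton_H_one f _ (hR G hG r) h1)
  rwa [show r + 2 = 0 + (r + 1) + 1 by omega]

end Leray

/-- A strict henselization of a field is its separable closure. -/
theorem exists_strictHens_field (A : Type u) [CommRing A] [IsLocalRing A] (hA : IsField A) :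
    ∃ (R : Type u) (_ : CommRing R) (_ : IsLocalRing R) (_ : Algebra A R) (_ : IsLocalHom (algebraMap A R))
      (_ : Hensel.IsStrictHenselization A R), IsSepClosed (IsLocalRing.ResidueField R) ∧ IsField R ∧
        (algebraMap A R).IsIntegral := by
  obtain ⟨k, _, _, _, _, _, R, _, _, _, _, π, hπ, h⟩ := H9Hens.exists_isStrictHenselization_colim (R := A)
  have hm : IsLocalRing.maximalIdeal R = ⊥ := by
    rw [← hπ.map_maximalIdeal H9Hens.ker_algebraMap_of_tower, IsLocalRing.isField_iff_maximalIdeal_eq.1 hA,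
      Ideal.map_bot]
  have hR : IsField R := IsLocalRing.isField_iff_maximalIdeal_eq.2 hm
  refine ⟨R, _, ‹_›, _, ‹_›, h, (h.isSepClosure).1, hR, fun x => ?_⟩
  haveI : Algebra.IsSeparable (IsLocalRing.ResidueField A) (IsLocalRing.ResidueField R) := h.isSepClosure.2
  obtain ⟨q, hq, hq0⟩ := Algebra.IsIntegral.isIntegral (R := IsLocalRing.ResidueField A) (IsLocalRing.residue R x)
  obtain ⟨p, hp, -, hpm⟩ := Polynomial.lifts_and_degree_eq_and_monic
    (Polynomial.mem_lifts_of_surjective IsLocalRing.residue_surjective q) hq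
  refine ⟨p, hpm, ?_⟩
  have h1 : IsLocalRing.residue R (p.eval₂ (algebraMap A R) x) = 0 := by
    rw [Polynomial.hom_eval₂, ← hq0, ← hp, Polynomial.eval₂_map]
    rfl
  rw [IsLocalRing.residue_eq_zero_iff, hm, Ideal.mem_bot] at h1
  exact h1

section RatFunc

variable (k : Type u) [Field k] [PerfectField k]

/-- The geometric function field of the line over a perfect field. -/
theorem isField_tensor_ratFunc (R : Type u) [Field R] [Algebra k R] [Algebra.IsAlgebraic k R] :
    IsField (RatFunc k ⊗[k] R) ∧ Nonempty ((R ⊗[k] RatFunc k) →ₐ[R] RatFunc R) ∧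
      ∀ φ : (R ⊗[k] RatFunc k) →ₐ[R] RatFunc R, Function.Injective φ := by
  let i : Polynomial k →+* RatFunc R :=
    (algebraMap (Polynomial R) (RatFunc R)).comp (Polynomial.mapRingHom (algebraMap k R))
  have hi : Function.Injective i := (RatFunc.algebraMap_injective R).comp
    (Polynomial.map_injective _ (algebraMap k R).injective)
  let ι : RatFunc k →+* RatFunc R := IsFractionRing.lift hi
  have hι : ∀ p, ι (algebraMap (Polynomial k) (RatFunc k) p) = i p := IsFractionRing.lift_algebraMap hi
  let ιa : RatFunc k →ₐ[k] RatFunc R :=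
    { ι with
      commutes' := fun c => by
        show ι (algebraMap k (RatFunc k) c) = algebraMap k (RatFunc R) c
        rw [IsScalarTower.algebraMap_apply k (Polynomial k) (RatFunc k), hι,
          IsScalarTower.algebraMap_apply k R (RatFunc R), IsScalarTower.algebraMap_apply R (Polynomial R) (RatFunc R)]
        show algebraMap (Polynomial R) (RatFunc R) (Polynomial.map (algebraMap k R) (Polynomial.C c)) = _
        rw [Polynomial.map_C]
        rfl }
  let ψ : (R ⊗[k] RatFunc k) →ₐ[R] RatFunc R :=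
    Algebra.TensorProduct.lift (Algebra.ofId R (RatFunc R)) ιa fun _ _ => mul_comm _ _
  let j : (R ⊗[k] Polynomial k) →ₐ[R] R ⊗[k] RatFunc k :=
    Algebra.TensorProduct.map (AlgHom.id R R) (IsScalarTower.toAlgHom k (Polynomial k) (RatFunc k))
  have hclear : ∀ z : R ⊗[k] RatFunc k, ∃ (d : Polynomial k) (t : R ⊗[k] Polynomial k),
      d ≠ 0 ∧ z * (1 ⊗ₜ algebraMap (Polynomial k) (RatFunc k) d) = j t := fun z => by
    induction z with
    | zero => exact ⟨1, 0, one_ne_zero, by rw [zero_mul, map_zero]⟩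
    | tmul r a =>
      obtain ⟨n, d, hd, rfl⟩ := IsFractionRing.div_surjective (Polynomial k) a
      refine ⟨d, r ⊗ₜ n, nonZeroDivisors.ne_zero hd, ?_⟩
      rw [Algebra.TensorProduct.tmul_mul_tmul, mul_one, div_mul_cancel₀ _ (IsFractionRing.to_map_ne_zero_of_mem_nonZeroDivisors hd)]
      rfl
    | add a b iha ihb =>
      obtain ⟨d, t, hd, ht⟩ := iha
      obtain ⟨d', t', hd', ht'⟩ := ihb
      refine ⟨d * d', t * (1 ⊗ₜ d') + t' * (1 ⊗ₜ d), mul_ne_zero hd hd', ?_⟩
      have hj : ∀ e : Polynomial k, j (1 ⊗ₜ e) = 1 ⊗ₜ algebraMap (Polynomial k) (RatFunc k) e := fun e => rfl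
      rw [map_add, map_mul j, map_mul j, hj, hj, ← ht, ← ht', map_mul,
        show (1 : R) ⊗ₜ[k] (algebraMap (Polynomial k) (RatFunc k) d * algebraMap (Polynomial k) (RatFunc k) d') =
          ((1 : R) ⊗ₜ algebraMap (Polynomial k) (RatFunc k) d) * (1 ⊗ₜ algebraMap (Polynomial k) (RatFunc k) d') by
          rw [Algebra.TensorProduct.tmul_mul_tmul, one_mul]]
      ring
  have hψ : Function.Injective ψ := by
    rw [injective_iff_map_eq_zero]
    intro z hz
    obtain ⟨d, t, hd, ht⟩ := hclear z
    have he : (ψ.comp j) = (IsScalarTower.toAlgHom R (Polynomial R) (RatFunc R)).comp (polyEquivTensor' k R).symm.toAlgHom := by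
      refine Algebra.TensorProduct.ext (Algebra.ext_id _ _ _) ?_
      refine Polynomial.algHom_ext ?_
      show ψ (j (1 ⊗ₜ Polynomial.X)) = algebraMap (Polynomial R) (RatFunc R) ((polyEquivTensor' k R).symm (1 ⊗ₜ Polynomial.X))
      simp [ψ, j, ιa, polyEquivTensor', polyEquivTensor_symm_apply_tmul_eq_smul]
      rw [← RatFunc.algebraMap_X, hι]
      simp [i]
    have ht0 : t = 0 := by
      refine (polyEquivTensor' k R).symm.injective (RatFunc.algebraMap_injective R ?_)
      have := DFunLike.congr_fun he t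
      rw [AlgHom.comp_apply, AlgHom.comp_apply, ← ht, map_mul, hz, zero_mul] at this
      rw [map_zero, map_zero]
      exact this.symm
    rw [ht0, map_zero] at ht
    have hu : IsUnit ((1 : R) ⊗ₜ[k] algebraMap (Polynomial k) (RatFunc k) d) :=
      (Ne.isUnit ((map_ne_zero_iff _ (RatFunc.algebraMap_injective k)).2 hd)).map
        (Algebra.TensorProduct.includeRight : RatFunc k →ₐ[k] R ⊗[k] RatFunc k)
    exact hu.mul_left_eq_zero.1 ht
  haveI : IsDomain (RatFunc k ⊗[k] R) :=
    MulEquiv.isDomain_iff (Algebra.TensorProduct.comm k (RatFunc k) R).toMulEquiv |>.2 hψ.isDomain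
  haveI : Algebra.IsIntegral k R := Algebra.IsAlgebraic.isIntegral
  have hfld : IsField (RatFunc k ⊗[k] R) := isField_of_isIntegral_of_isField' (Field.toIsField (RatFunc k))
  refine ⟨hfld, ⟨ψ⟩, fun φ => ?_⟩
  letI := ((Algebra.TensorProduct.comm k R (RatFunc k)).toMulEquiv.isField hfld).toField
  exact φ.toRingHom.injective

theorem trdeg_ratFunc (R : Type u) [Field R] : Algebra.trdeg R (RatFunc R) = 1 := by
  haveI : Algebra.IsAlgebraic (Polynomial R) (RatFunc R) := IsLocalization.isAlgebraic _ (nonZeroDivisors (Polynomial R))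
  haveI : FaithfulSMul (Polynomial R) (RatFunc R) :=
    (faithfulSMul_iff_algebraMap_injective _ _).2 (RatFunc.algebraMap_injective R)
  rw [← trdeg_add_eq R (Polynomial R) (A := RatFunc R), Polynomial.trdeg_of_isDomain,
    trdeg_eq_zero (R := Polynomial R) (A := RatFunc R), add_zero]

theorem cohDimLEAt_ratFunc (hℓ : ℓ.Prime) {d : ℕ} (hd : Dix.CohDimLEAt (Spec (CommRingCat.of k)) ℓ d) :
    Dix.CohDimLEAt (Spec (CommRingCat.of (RatFunc k))) ℓ (d + 1) := by
  haveI : Fact ℓ.Prime := ⟨hℓ⟩
  let S : Scheme.{u} := Spec (CommRingCat.of k)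
  let f : Spec (CommRingCat.of (RatFunc k)) ⟶ S := Spec.map (CommRingCat.ofHom (algebraMap k (RatFunc k)))
  haveI : AlgebraicGeometry.IsNoetherian S := inferInstance
  have hstalk : ∀ s : S, Function.Bijective (StructureSheaf.toStalk k s).hom := fun s => by
    let P : PrimeSpectrum k := s
    letI : Algebra k (S.presheaf.stalk s) := StructureSheaf.stalkAlgebra k P
    haveI : IsLocalization.AtPrime (S.presheaf.stalk s) P.asIdeal := StructureSheaf.IsLocalization.to_stalk k P
    exact (IsLocalization.atUnits k P.asIdeal.primeCompl (S := S.presheaf.stalk s) fun a ha =>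
      (show a ≠ 0 from fun h0 => ha (h0 ▸ P.asIdeal.zero_mem)).isUnit).bijective
  have fibre : ∀ s : S, ∃ (R : Type u) (_ : CommRing R) (_ : IsLocalRing R) (_ : Algebra (S.presheaf.stalk s) R)
      (_ : IsLocalHom (algebraMap (S.presheaf.stalk s) R)) (_ : Hensel.IsStrictHenselization (S.presheaf.stalk s) R)
      (_ : IsSepClosed (IsLocalRing.ResidueField R)) (T : Type u) (_ : Field T)
      (e : Spec (CommRingCat.of T) ⟶ pullback f (Hens2.specOf S s R)), IsIso e ∧
        Dix.CohDimLEAt (Spec (CommRingCat.of T)) ℓ 1 := fun s => by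
    obtain ⟨R, _, _, _, _, _, hsc, hRf, hint⟩ := exists_strictHens_field (S.presheaf.stalk s)
      ((RingEquiv.ofBijective _ (hstalk s)).toMulEquiv.symm.isField (Field.toIsField k))
    refine ⟨R, _, ‹_›, _, ‹_›, ‹_›, hsc, ?_⟩
    let φ : k →+* R := (algebraMap (S.presheaf.stalk s) R).comp (StructureSheaf.toStalk k s).hom
    have hφ : Hens2.specOf S s R = Spec.map (CommRingCat.ofHom φ) := by
      show Spec.map _ ≫ S.fromSpecStalk s = _
      rw [Spec.fromSpecStalk_eq', ← Spec.map_comp]
      rfl
    letI := hRf.toField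
    letI : Algebra k R := φ.toAlgebra
    haveI : Algebra.IsIntegral k R := ⟨fun x => RingHom.IsIntegral.trans _ _
      (RingHom.isIntegral_of_surjective _ (hstalk s).2) hint x⟩
    haveI : Algebra.IsAlgebraic k R := Algebra.IsIntegral.isAlgebraic
    haveI : PerfectField R := Algebra.IsAlgebraic.perfectField k
    haveI : IsSepClosed R := by
      let eR : R ≃+* IsLocalRing.ResidueField R := RingEquiv.ofBijective (IsLocalRing.residue R)
        ⟨(IsLocalRing.residue R).injective, IsLocalRing.residue_surjective⟩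
      haveI := hsc
      refine IsSepClosed.of_exists_root _ fun p _ hirr hsep => ?_
      obtain ⟨x, hx⟩ := IsSepClosed.exists_root (p.map (eR : R →+* IsLocalRing.ResidueField R))
        (by rw [Polynomial.degree_map]; exact hirr.degree_pos.ne') hsep.map
      refine ⟨eR.symm x, eR.injective ?_⟩
      rw [map_zero, ← hx.eq_zero, show eR (p.eval (eR.symm x)) = (eR : R →+* IsLocalRing.ResidueField R) (p.eval (eR.symm x)) from rfl,
        ← Polynomial.eval_map_apply]
      congr 1
      exact eR.apply_symm_apply x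
    haveI : IsAlgClosed R := inferInstance
    obtain ⟨hT, ⟨ψ⟩, hψ⟩ := isField_tensor_ratFunc k R
    letI := hT.toField
    let e : Spec (CommRingCat.of (RatFunc k ⊗[k] R)) ≅ pullback f (Hens2.specOf S s R) :=
      (pullbackSpecIso k (RatFunc k) R).symm ≪≫ pullback.congrHom rfl hφ.symm
    refine ⟨RatFunc k ⊗[k] R, _, e.hom, inferInstance, Fields.cohDimLEAt_one _ ℓ hℓ (Fields.normSurj_of_isCi _ ?_ ℓ)⟩
    let c : RatFunc k ⊗[k] R →+* RatFunc R := ψ.toRingHom.comp (Algebra.TensorProduct.comm k (RatFunc k) R).toRingHom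
    letI : Algebra R (RatFunc k ⊗[k] R) := Algebra.TensorProduct.rightAlgebra
    let c' : RatFunc k ⊗[k] R →ₐ[R] RatFunc R :=
      { c with
        commutes' := fun r => by
          show ψ ((Algebra.TensorProduct.comm k (RatFunc k) R) ((1 : RatFunc k) ⊗ₜ r)) = _
          rw [Algebra.TensorProduct.comm_tmul]
          exact ψ.commutes r }
    refine Fields.isCi_one_of_trdeg_le_one _ R ?_
    exact (trdeg_le_of_injective c' c'.toRingHom.injective).trans (trdeg_ratFunc R).le
  haveI : QuasiCompact f := inferInstance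
  haveI : QuasiSeparated f := inferInstance
  refine cohDimLEAt_succ f (fun G hG j => ?_) (fun G hG => ?_)
    (fun G hG => isPrimaryTorsion_push f (fun P _ => (H18Et.Coh.qcqs_bc f P).1) G hG) hd
  · refine H18Et.Cons.isZero_of_supp_eq_empty _ fun s hs => ?_
    obtain ⟨R, _, _, _, _, _, hsc, T, _, e, he, hcd⟩ := fibre s
    haveI := hsc
    haveI := he
    refine notMem_supp_of_stalk (rOne f (cz (j + 1) G)) (Hens2.geomPt S s R) (subsingleton_of_forall_eq 0 fun p => ?_)
      (by rw [hensGeomPt_base]; exact hs)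
    obtain ⟨w, hw⟩ := exists_H_of_stalk f s R (j + 1) G p
    haveI := cohDimLEAt_of_univHomeo e hcd _ (isPrimaryTorsion_pull (pullback.fst f (Hens2.specOf S s R)) hG)
      (j + 1 + 1) (by omega)
    have := hw 1 (Subsingleton.elim _ _)
    rwa [one_smul] at this
  · refine isPrimaryTorsion_of_supp_stalk _ fun s => ?_
    obtain ⟨R, _, _, _, _, _, hsc, T, _, e, he, hcd⟩ := fibre s
    haveI := hsc
    haveI := he
    refine ⟨_, inferInstance, inferInstance, Hens2.geomPt S s R, hensGeomPt_base s R, fun p => ?_⟩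
    obtain ⟨w, hw⟩ := exists_H_of_stalk f s R 0 G p
    haveI := H18Et.pull_preservesFiniteLimits e
    obtain ⟨m, hm⟩ := Fields.exists_pow_nsmul_eq_zero T hℓ
      (isPrimaryTorsion_pull e (isPrimaryTorsion_pull (pullback.fst f (Hens2.specOf S s R)) hG))
      Nat.one_pos (EtCore.Hpull e _ 1 w)
    exact ⟨m, hw _ ((S0642.result e _ 1).1 (by rw [map_nsmul, hm, map_zero]))⟩

end RatFunc

end Groth.Agent.H05EGA4.EtCl
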