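import Groth.Agent.H05EGA4.EtCl.FieldTr
import Mathlib.FieldTheory.PurelyInseparable.Tower

/-!
# `cd(L) ≤ cd(K) + trdeg(L/K)`
-/

set_option autoImplicit false
set_option linter.style.haveILetI false
set_option linter.unusedSectionVars false
set_option linter.overlappingInstances false
set_option backward.isDefEq.respectTransparency false
set_option backward.isDefEq.respectTransparency.types false

universe u

open CategoryTheory CategoryTheory.Limits AlgebraicGeometry Opposite Abelian
open scoped Classical IntermediateField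

namespace Groth.Agent.H05EGA4.EtCl

open scoped Groth.Agent.H18Et

variable {ℓ : ℕ}

theorem cohDimLEAt_of_algebraic (K L : Type u) [Field K] [Field L] [Algebra K L] [Algebra.IsAlgebraic K L] {d : ℕ}
    (h : Dix.CohDimLEAt (Spec (CommRingCat.of K)) ℓ d) : Dix.CohDimLEAt (Spec (CommRingCat.of L)) ℓ d := by
  haveI : Algebra.IsIntegral K L := Algebra.IsAlgebraic.isIntegral
  haveI : IsIntegralHom (Spec.map (CommRingCat.ofHom (algebraMap K L))) :=
    IsIntegralHom.SpecMap_iff.2 fun x => Algebra.IsIntegral.isIntegral x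
  exact cohDimLEAt_of_isIntegralHom (Spec.map (CommRingCat.ofHom (algebraMap K L))) h

theorem cohDimLEAt_of_purelyInseparable (K L : Type u) [Field K] [Field L] [Algebra K L] [IsPurelyInseparable K L]
    {d : ℕ} (h : Dix.CohDimLEAt (Spec (CommRingCat.of L)) ℓ d) : Dix.CohDimLEAt (Spec (CommRingCat.of K)) ℓ d := by
  haveI : IsIntegralHom (Spec.map (CommRingCat.ofHom (algebraMap K L))) :=
    IsIntegralHom.SpecMap_iff.2 fun x => Algebra.IsIntegral.isIntegral x
  haveI := H7Lim.GeomConnFinite.universallyInjective_SpecMap K L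
  haveI : Surjective (Spec.map (CommRingCat.ofHom (algebraMap K L))) := ⟨fun x =>
    ⟨IsLocalRing.closedPoint L, Subsingleton.elim (α := PrimeSpectrum K) _ x⟩⟩
  exact cohDimLEAt_of_univHomeo (Spec.map (CommRingCat.ofHom (algebraMap K L))) h

theorem cohDimLEAt_of_ringEquiv {K L : Type u} [CommRing K] [CommRing L] (e : K ≃+* L) {d : ℕ}
    (h : Dix.CohDimLEAt (Spec (CommRingCat.of K)) ℓ d) : Dix.CohDimLEAt (Spec (CommRingCat.of L)) ℓ d :=
  cohDimLEAt_of_iso (Spec.map e.toCommRingCatIso.hom) h

/-- One variable. -/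
theorem cohDimLEAt_adjoin_simple (hℓ : ℓ.Prime) (k L : Type u) [Field k] [Field L] [Algebra k L] (x : L)
    (hx : Transcendental k x) {d : ℕ} (hd : Dix.CohDimLEAt (Spec (CommRingCat.of k)) ℓ d) :
    Dix.CohDimLEAt (Spec (CommRingCat.of k⟮x⟯)) ℓ (d + 1) := by
  let E := AlgebraicClosure L
  let kp := perfectClosure k E
  let x' : E := algebraMap L E x
  haveI : PerfectField kp := perfectClosure.perfectField k E
  have h1 : Dix.CohDimLEAt (Spec (CommRingCat.of kp)) ℓ d := cohDimLEAt_of_algebraic k kp hd
  have hx0 : Transcendental k x' := (transcendental_algebraMap_iff (algebraMap L E).injective).2 hx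
  have hx' : Transcendental kp x' := fun ha => hx0 (ha.restrictScalars k)
  have h2 : Dix.CohDimLEAt (Spec (CommRingCat.of kp⟮x'⟯)) ℓ (d + 1) :=
    cohDimLEAt_of_ringEquiv (RatFunc.algEquivOfTranscendental x' hx').toRingEquiv (cohDimLEAt_ratFunc kp hℓ h1)
  let Lx := k⟮x'⟯
  have hle : (kp⟮x'⟯).restrictScalars k ≤ (perfectClosure Lx E).restrictScalars k := by
    rw [IntermediateField.restrictScalars_adjoin, IntermediateField.adjoin_le_iff]
    rintro y (hy | hy)
    · obtain ⟨n, c, hc⟩ := (mem_perfectClosure_iff (F := k) (E := E)).1 hy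
      haveI : ExpChar Lx (ringExpChar k) := expChar_of_injective_ringHom (algebraMap k Lx).injective (ringExpChar k)
      refine (mem_perfectClosure_iff_pow_mem (F := Lx) (E := E) (ringExpChar k)).2 ⟨n, algebraMap k Lx c, ?_⟩
      rw [← IsScalarTower.algebraMap_apply]
      exact hc
    · rw [Set.mem_singleton_iff.1 hy]
      exact (mem_perfectClosure_iff (F := Lx) (E := E)).2
        ⟨0, ⟨x', IntermediateField.mem_adjoin_simple_self k x'⟩, by rw [pow_zero, pow_one]; rfl⟩
  let ι : Lx →ₐ[k] (kp⟮x'⟯).restrictScalars k := IntermediateField.inclusion (by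
    rw [IntermediateField.adjoin_simple_le_iff]
    exact IntermediateField.mem_adjoin_simple_self kp x')
  letI : Algebra Lx kp⟮x'⟯ := ι.toRingHom.toAlgebra
  haveI : IsPurelyInseparable Lx kp⟮x'⟯ := (isPurelyInseparable_iff_pow_mem Lx (ringExpChar Lx)).2 fun y => by
    obtain ⟨n, c, hc⟩ := (mem_perfectClosure_iff (F := Lx) (E := E)).1 (hle y.2)
    exact ⟨n, c, Subtype.ext hc⟩
  have h3 : Dix.CohDimLEAt (Spec (CommRingCat.of Lx)) ℓ (d + 1) := cohDimLEAt_of_purelyInseparable Lx kp⟮x'⟯ h2
  have hmap : (k⟮x⟯).map (IsScalarTower.toAlgHom k L E) = Lx := by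
    rw [IntermediateField.adjoin_map, Set.image_singleton]
    rfl
  exact cohDimLEAt_of_ringEquiv
    (((k⟮x⟯).equivMap (IsScalarTower.toAlgHom k L E)).trans (IntermediateField.equivOfEq hmap)).toRingEquiv.symm h3

/-- Adjoining finitely many elements. -/
theorem cohDimLEAt_adjoin (hℓ : ℓ.Prime) (k L : Type u) [Field k] [Field L] [Algebra k L] {d : ℕ}
    (hd : Dix.CohDimLEAt (Spec (CommRingCat.of k)) ℓ d) (s : Finset L) :
    Dix.CohDimLEAt (Spec (CommRingCat.of (IntermediateField.adjoin k (s : Set L)))) ℓ (d + s.card) := by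
  induction s using Finset.induction with
  | empty =>
    rw [Finset.coe_empty, IntermediateField.adjoin_empty, Finset.card_empty, add_zero]
    exact cohDimLEAt_of_ringEquiv (IntermediateField.botEquiv k L).toRingEquiv.symm hd
  | @insert a s ha ih =>
    let M := IntermediateField.adjoin k (s : Set L)
    have he : IntermediateField.adjoin k ((insert a s : Finset L) : Set L) = (M⟮a⟯).restrictScalars k := by
      rw [IntermediateField.adjoin_adjoin_left, Finset.coe_insert, Set.union_comm, ← Set.insert_eq]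
    rw [he, Finset.card_insert_of_notMem ha, ← add_assoc]
    show Dix.CohDimLEAt (Spec (CommRingCat.of M⟮a⟯)) ℓ _
    by_cases hta : Transcendental M a
    · exact cohDimLEAt_adjoin_simple hℓ M L a hta ih
    · haveI : Algebra.IsAlgebraic M M⟮a⟯ :=
        IntermediateField.isAlgebraic_adjoin fun z hz => by
          rw [Set.mem_singleton_iff.1 hz]
          exact (not_not.1 hta).isIntegral
      exact fun F hF q hq => cohDimLEAt_of_algebraic M M⟮a⟯ ih F hF q (by omega)

/-- **Cohomological dimension and transcendence degree.** -/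
theorem cohDimLEAt_trdeg (hℓ : ℓ.Prime) (k L : Type u) [Field k] [Field L] [Algebra k L] (t : ℕ)
    (ht : Algebra.trdeg k L ≤ t) {d : ℕ} (hd : Dix.CohDimLEAt (Spec (CommRingCat.of k)) ℓ d) :
    Dix.CohDimLEAt (Spec (CommRingCat.of L)) ℓ (d + t) := by
  obtain ⟨s, hs⟩ := exists_isTranscendenceBasis k L
  have hfin : Cardinal.mk s < Cardinal.aleph0 := by
    rw [hs.cardinalMk_eq_trdeg]
    exact ht.trans_lt (Cardinal.natCast_lt_aleph0)
  haveI : Finite s := Cardinal.lt_aleph0_iff_finite.1 hfin
  haveI : Fintype s := Fintype.ofFinite s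
  have hcard : s.toFinset.card ≤ t := by
    have h1 : Cardinal.mk s ≤ t := hs.cardinalMk_eq_trdeg.trans_le ht
    rw [Cardinal.mk_fintype] at h1
    rw [Set.toFinset_card]
    exact_mod_cast h1
  haveI := hs.isAlgebraic_field
  have h := cohDimLEAt_adjoin hℓ k L hd s.toFinset
  rw [Set.coe_toFinset] at h
  have h2 : Dix.CohDimLEAt (Spec (CommRingCat.of L)) ℓ (d + s.toFinset.card) :=
    haveI : Algebra.IsAlgebraic (IntermediateField.adjoin k s) L := by
      have h := hs.isAlgebraic_field
      rwa [Subtype.range_coe] at h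
    cohDimLEAt_of_algebraic (IntermediateField.adjoin k s) L h
  exact fun F hF q hq => h2 F hF q (by omega)

end Groth.Agent.H05EGA4.EtCl
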