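import Groth.Agent.H05EGA4.EtCl.TrdegCdFun
import Groth.Agent.H05EGA4.EtCl.CdpCharP
import Groth.Agent.S0134
import Groth.Agent.H18Et.Coh.Colimit

/-!
# Finiteness of the cohomological dimension
-/

set_option autoImplicit false
set_option linter.style.haveILetI false
set_option linter.unusedSectionVars false
set_option linter.overlappingInstances false
set_option backward.isDefEq.respectTransparency false
set_option backward.isDefEq.respectTransparency.types false

universe u

open CategoryTheory CategoryTheory.Limits AlgebraicGeometry Opposite Abelian TopologicalSpace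
open scoped Classical

namespace Groth.Agent.H05EGA4.EtCl

open scoped Groth.Agent.H18Et

theorem cohDimLEAt_of_cohDimLE {X : Scheme.{u}} {d ℓ : ℕ} (hℓ : ℓ.Prime) (h : EtCoh.CohDimLE X d) :
    Dix.CohDimLEAt X ℓ d := fun F hF q hq => h F (Fields.isTorsion_of_primary hℓ.pos hF) q hq

variable {X : Scheme.{u}} [AlgebraicGeometry.IsNoetherian X]

/-- From all primes to torsion sheaves. -/
theorem cohDimLE_of_cohDimLEAt (d : ℕ) (h : ∀ ℓ : ℕ, ℓ.Prime → Dix.CohDimLEAt X ℓ d) : EtCoh.CohDimLE X d := by
  intro F hF q hq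
  have key : ∀ (N : ℕ), 0 < N → ∀ G : EtCoh.Ab X, EtCoh.KilledBy N G → Subsingleton (EtCoh.H X G q) := by
    intro N
    induction N using Nat.strong_induction_on with
    | _ N ih =>
    intro hN G hG
    by_cases h1 : N = 1
    · subst h1
      refine subsingleton_of_forall_eq 0 fun x => ?_
      rw [← Ext.comp_mk₀_id x, show 𝟙 G = (0 : G ⟶ G) from by
        rw [← one_smul ℕ (𝟙 G)]; exact (killedBy_iff 1 G).1 hG, Ext.mk₀_zero, Ext.comp_zero]
    obtain ⟨ℓ, hℓ, M, rfl⟩ := Nat.exists_prime_and_dvd h1
    let φ : G ⟶ G := ℓ • 𝟙 G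
    let g := Abelian.factorThruImage φ
    let i := Abelian.image.ι φ
    have hgi : g ≫ i = φ := Abelian.image.fac φ
    have hk : Subsingleton (EtCoh.H X (kernel φ) q) := h ℓ hℓ _ (isPrimaryTorsion_of_killed 1 _ (by
      rw [pow_one, killedBy_iff, ← cancel_mono (kernel.ι φ), zero_comp, Preadditive.nsmul_comp, Category.id_comp]
      refine Eq.trans ?_ (kernel.condition φ)
      rw [Preadditive.comp_nsmul, Category.comp_id])) q hq
    have hi : Subsingleton (EtCoh.H X (Abelian.image φ) q) := ih M
      ((lt_mul_iff_one_lt_left (Nat.pos_of_mul_pos_left hN)).2 hℓ.one_lt) (Nat.pos_of_mul_pos_left hN) _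
      ((killedBy_iff _ _).2 (by
        rw [← cancel_mono i, zero_comp, ← cancel_epi g, comp_zero, Preadditive.nsmul_comp, Category.id_comp,
          Preadditive.comp_nsmul, hgi, ← mul_nsmul', mul_comm]
        exact (killedBy_iff _ _).1 hG))
    have w : kernel.ι φ ≫ g = 0 := by rw [← cancel_mono i, Category.assoc, hgi, kernel.condition, zero_comp]
    have hS : (ShortComplex.mk (kernel.ι φ) g w).ShortExact := by
      letI S₁ : ShortComplex (EtCoh.Ab X) := ShortComplex.mk (kernel.ι φ) g w
      haveI : Mono S₁.f := inferInstanceAs (Mono (kernel.ι φ))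
      haveI : Epi S₁.g := inferInstanceAs (Epi g)
      refine ⟨ShortComplex.exact_of_f_is_kernel _ (KernelFork.IsLimit.ofι _ _
        (fun x hx => kernel.lift φ x (by rw [← hgi, ← Category.assoc, hx, zero_comp]))
        (fun x hx => kernel.lift_ι _ _ _) (fun x hx l hl => ?_))⟩
      rw [← cancel_mono (kernel.ι φ), kernel.lift_ι]
      exact hl
    refine subsingleton_of_forall_eq 0 fun x => ?_
    obtain ⟨y, hy⟩ := Ext.covariant_sequence_exact₂ _ hS x (hi.elim _ _)
    rw [← hy, hk.elim y 0, Ext.zero_comp]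
  obtain ⟨J, _, _, D, c, hc, hcons, ⟨e⟩⟩ := S0134.result X F hF
  let e' : colimit D ≅ F := IsColimit.coconePointUniqueUpToIso (colimit.isColimit D) hc ≪≫ e
  suffices hs : Subsingleton (EtCoh.H X (colimit D) q) from
    Function.Injective.subsingleton (β := EtCoh.H X (colimit D) q)
      ((Sheaf.functorH _ q).mapIso e').addCommGroupIsoToAddEquiv.symm.injective
  refine subsingleton_of_forall_eq 0 fun x => ?_
  obtain ⟨j, y, hy⟩ := (Groth.Agent.H18Et.CohColim.hSurj_hInj q D).1 x
  obtain ⟨N, hN, hk⟩ := H18Et.Cons.exists_killedBy (D.obj j) (hcons j)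
  haveI := key N (Nat.pos_of_ne_zero hN.ne) _ hk
  rw [← hy, Subsingleton.elim (α := EtCoh.H X (D.obj j) q) y 0, map_zero]

theorem exists_delta_bound {k : Type u} [Field k] (f : X ⟶ Spec (CommRingCat.of k)) [LocallyOfFiniteType f]
    [QuasiCompact f] : ∃ n : ℕ, ∀ x : X, delta f x ≤ n := by
  have hfin := genericPoints.finite (α := X) NoetherianSpace.finite_irreducibleComponents
  refine ⟨hfin.toFinset.sup (delta f), fun x => ?_⟩
  let η := genericPoints.ofComponent ⟨irreducibleComponent x, irreducibleComponent_mem_irreducibleComponents x⟩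
  have hsp : η.1 ⤳ x := (genericPoints.isGenericPoint η).specializes
    (by rw [genericPoints.component_ofComponent]; exact mem_irreducibleComponent)
  have h1 : delta f η.1 ≤ hfin.toFinset.sup (delta f) := Finset.le_sup (hfin.mem_toFinset.2 η.2)
  by_cases he : η.1 = x
  · rw [← he]; exact h1
  · exact (delta_lt f hsp he).le.trans h1

/-- Finite type schemes over a field of finite cohomological dimension have finite cohomological dimension. -/
theorem exists_cohDimLE {k : Type u} [Field k] (f : X ⟶ Spec (CommRingCat.of k)) [LocallyOfFiniteType f]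
    [QuasiCompact f] (e : ℕ) (hk : EtCoh.CohDimLE (Spec (CommRingCat.of k)) e) :
    ∃ d : ℕ, EtCoh.CohDimLE X d := by
  obtain ⟨n, hn⟩ := exists_delta_bound f
  refine ⟨e + 2 * n, cohDimLE_of_cohDimLEAt _ fun ℓ hℓ F hF q hq => ?_⟩
  refine subsingleton_H_of_cdFun (trdegCdFun f hℓ (cohDimLEAt_of_cohDimLE hℓ hk)) hℓ F hF q fun x _ => ?_
  have := hn x
  show e + 2 * delta f x < q
  omega

end Groth.Agent.H05EGA4.EtCl
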