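import Groth.Agent.H05EGA4.EtCl.PointConst
import Groth.Agent.S4991
import Groth.Agent.H28Alg.RegularUFD
import Groth.Agent.H4Depth.Regular

/-!
# Integral regular schemes
-/

set_option autoImplicit false
set_option linter.style.haveILetI false
set_option linter.unusedSectionVars false
set_option backward.isDefEq.respectTransparency false
set_option backward.isDefEq.respectTransparency.types false

universe u

open CategoryTheory CategoryTheory.Limits AlgebraicGeometry Opposite TopologicalSpace

namespace Groth.Agent.H05EGA4.EtCl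

open scoped Groth.Agent.H18Et

variable {X : Scheme.{u}} [IsLocallyNoetherian X]

theorem factorial_of_regular (hreg : ∀ x : X, IsRegularLocalRing (X.presheaf.stalk x)) : Factorial X := by
  intro U v
  haveI : Etale U.hom := U.prop
  haveI : IsLocallyNoetherian ((Functor.fromPUnit X).obj U.right) := inferInstanceAs (IsLocallyNoetherian X)
  haveI : IsRegularLocalRing (U.left.presheaf.stalk v) :=
    (S4991.result U.hom v ⟨⊤, trivial, inferInstance⟩).2 (hreg _)
  haveI := H4Depth.isDomain_of_isRegularLocalRing (U.left.presheaf.stalk v)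
  exact ⟨inferInstance, H28Alg.ufd_of_regular _⟩

theorem eq_genericPoint_of_isMaxPt [IsIntegral X] {x : X} (hx : IsMaxPt x) : x = genericPoint X :=
  (hx _ (genericPoint_specializes x)).symm

theorem main_integral [IsIntegral X] (hreg : ∀ x : ↥X, IsRegularLocalRing (X.presheaf.stalk x))
    (c : Cofan fun x : {x : ↥X // ringKrullDim (X.presheaf.stalk x) = 1} =>
      (EtCoh.push (X.fromSpecResidueField x.1)).obj (EtCoh.const (Spec (X.residueField x.1)) ℤ))
    (hc : IsColimit c) :
    Mono (EtLim.GmPush (X.fromSpecStalk (genericPoint ↥X))) ∧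
      Nonempty (cokernel (EtLim.GmPush (X.fromSpecStalk (genericPoint ↥X))) ≅ c.pt) := by
  have hF := factorial_of_regular hreg
  haveI := isReduced_of_factorial hF
  have hgen : IsMaxPt (genericPoint X) := fun z hz => (hz.antisymm (genericPoint_specializes z)).eq
  letI : Unique (MaxPts X) :=
    ⟨⟨⟨genericPoint X, hgen⟩⟩, fun a => Subtype.ext (eq_genericPoint_of_isMaxPt a.2)⟩
  let e : PM X ≅ Pfac X default := productUniqueIso (Pfac X)
  have hcomp : eM X ≫ e.hom = EtLim.GmPush (X.fromSpecStalk (genericPoint X)) := by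
    show Pi.lift _ ≫ Pi.π _ _ = _
    rw [Pi.lift_π]
    rfl
  haveI := mono_eM (X := X) sepMax_of_isReduced
  refine ⟨?_, ?_⟩
  · rw [← hcomp]; infer_instance
  · obtain ⟨i⟩ := nonempty_iso_coprod_const hF
    let e₁ : cokernel (EtLim.GmPush (X.fromSpecStalk (genericPoint X))) ≅ ClM X :=
      (cokernel.mapIso (eM X) (EtLim.GmPush (X.fromSpecStalk (genericPoint X))) (Iso.refl _) e
        (by rw [Iso.refl_hom, Category.id_comp]; exact hcomp)).symm
    exact ⟨e₁ ≪≫ i ≪≫ (coproductIsCoproduct _).coconePointUniqueUpToIso hc⟩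

end Groth.Agent.H05EGA4.EtCl
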