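import Groth.Agent.H05EGA4.EtCl.Comp

/-!
# The layers of a sheaf by the length of chains of specialisations

A sheaf supported at points of level `≤ n + 1` maps to the sum of its components at the points of
level exactly `n + 1`, with kernel and cokernel supported at level `≤ n`.
-/

set_option autoImplicit false
set_option linter.style.haveILetI false
set_option linter.unusedSectionVars false
set_option linter.overlappingInstances false
set_option backward.isDefEq.respectTransparency false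
set_option backward.isDefEq.respectTransparency.types false

universe u

open CategoryTheory CategoryTheory.Limits AlgebraicGeometry Opposite TopologicalSpace
open scoped Classical

namespace Groth.Agent.H05EGA4.EtCl

open Groth.Agent.H18Et
open scoped Groth.Agent.H18Et

variable {X : Scheme.{u}}

/-- All chains of strict specialisations from `x` have at most `n` members. -/
def Low : ℕ → X → Prop
  | 0, _ => False
  | n + 1, x => ∀ y, x ⤳ y → y = x ∨ Low n y

theorem not_low_zero (x : X) : ¬ Low 0 x := id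

theorem low_succ : ∀ {n : ℕ} {x : X}, Low n x → Low (n + 1) x
  | 0, _, h => h.elim
  | _ + 1, _, h => fun y hy => (h y hy).imp id low_succ

theorem low_specializes {n : ℕ} {x y : X} (h : Low n x) (hy : x ⤳ y) : Low n y := by
  cases n with
  | zero => exact h.elim
  | succ n =>
    rcases h y hy with rfl | h'
    · exact h
    · exact low_succ h'

/-- The points of level exactly `n + 1`. -/
def Layer (n : ℕ) (x : X) : Prop := Low (n + 1) x ∧ ¬ Low n x

theorem eq_of_layer {n : ℕ} {x y : X} (hx : Low (n + 1) x) (hy : ¬ Low n y) (h : x ⤳ y) : y = x :=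
  (hx y h).resolve_right hy

/-- In dimension `≤ d` all points have level `≤ d + 1`. -/
theorem low_of_dim (d : ℕ) (hd : topologicalKrullDim X ≤ d) (x : X) : Low (d + 1) x := by
  have key : ∀ (n : ℕ) (x : X), ¬ Low n x → (n : ℕ∞) ≤
      Order.height (⟨closure {x}, isIrreducible_singleton.closure, isClosed_closure⟩ : IrreducibleCloseds X) := by
    intro n
    induction n with
    | zero => intros; exact zero_le
    | succ n ih =>
      intro x hx
      simp only [Low, not_forall, not_or] at hx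
      obtain ⟨y, hy, hne, hy'⟩ := hx
      refine le_trans (add_le_add_left (ih y hy') 1 |>.trans_eq' (by push_cast; rfl)) (Order.height_add_one_le ?_)
      refine lt_of_le_of_ne (closure_minimal (Set.singleton_subset_iff.2 (specializes_iff_mem_closure.1 hy))
        isClosed_closure) fun e => hne ?_
      exact IsGenericPoint.eq (S := closure ({x} : Set X)) (congrArg IrreducibleCloseds.carrier e) rfl
  by_contra hx
  have h1 : ((d + 1 : ℕ) : WithBot ℕ∞) ≤ topologicalKrullDim X :=
    le_trans (by exact_mod_cast key (d + 1) x hx) (Order.height_le_krullDim _)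
  exact absurd (h1.trans hd) (by norm_cast; omega)

/-- Away from the closure of `x` skyscrapers at `x` vanish. -/
theorem res_skyPush_eq_zero {x : X} (B : EtCoh.Ab (Spec (X.residueField x))) (V : X.Etale)
    (hV : ∀ w : V.left, ¬ x ⤳ V.hom w) (s : EtCoh.sect ((Dix.skyPush X x).obj B) V) : s = 0 := by
  haveI : IsEmpty ((EtCoh.bc (X.fromSpecResidueField x)).obj V).left := ⟨fun p => by
    have h1 := hom_fst (X.fromSpecResidueField x) V p
    rw [Scheme.fromSpecResidueField_apply] at h1
    exact hV _ (specializes_of_eq h1.symm)⟩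
  haveI : Subsingleton (EtCoh.sect ((Dix.skyPush X x).obj B) V) :=
    H18Et.subsingleton_sect_of_isEmpty B _ inferInstance
  exact Subsingleton.elim _ _

theorem hom_sub (V : X.Etale) (O : V.left.Opens) (w : (sub V O).left) : (sub V O).hom w = V.hom w.1 :=
  (hom_left (subι V O) w).symm

/-- Shrink so that finitely many closures are avoided. -/
theorem exists_avoid {ι : Type*} (V : X.Etale) (v : V.left) (S : Finset ι) (x : ι → X)
    (h : ∀ k ∈ S, ¬ x k ⤳ V.hom v) :
    ∃ (O : V.left.Opens), v ∈ O ∧ ∀ k ∈ S, ∀ w : (sub V O).left, ¬ x k ⤳ (sub V O).hom w := by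
  refine ⟨⟨(⋃ k ∈ S, V.hom.base ⁻¹' closure {x k})ᶜ, (isClosed_biUnion_finset fun k _ =>
    isClosed_closure.preimage V.hom.continuous).isOpen_compl⟩, ?_, ?_⟩
  · simp only [Opens.mem_mk, Set.mem_compl_iff, Set.mem_iUnion, not_exists]
    exact fun k hk hv => h k hk (specializes_iff_mem_closure.2 hv)
  · intro k hk w hw
    refine w.2 (Set.mem_iUnion₂.2 ⟨k, hk, ?_⟩)
    rw [hom_sub] at hw
    exact specializes_iff_mem_closure.1 hw

theorem injective_app' {F G : EtCoh.Ab X} (α : F ⟶ G) [Mono α] (W : X.Etale) :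
    Function.Injective (α.hom.app (op W)) :=
  fun a b h => (FreeSheaf.homEquiv W F).symm.injective
    ((cancel_mono α).1 (by rw [homEquiv_symm_comp, homEquiv_symm_comp, h]))

/-- Points over maximal points of the image of a closed set are finitely many. -/
theorem finite_of_max_image [IsLocallyNoetherian X] {V : X.Etale} [IsAffine V.left] {C : Set V.left}
    (hC : IsClosed C) (P : X → Prop)
    (h : ∀ v ∈ C, P (V.hom v) → ∀ w ∈ C, w ⤳ v → V.hom w = V.hom v) : {v ∈ C | P (V.hom v)}.Finite := by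
  haveI : Etale V.hom := V.prop
  haveI : IsLocallyNoetherian V.left :=
    haveI : IsLocallyNoetherian ((Functor.fromPUnit X).obj V.right) := inferInstanceAs (IsLocallyNoetherian X)
    LocallyOfFiniteType.isLocallyNoetherian V.hom
  haveI : AlgebraicGeometry.IsNoetherian V.left := {}
  haveI : QuasiSober C := hC.isClosedEmbedding_subtypeVal.quasiSober
  have hfin := genericPoints.finite (α := C) TopologicalSpace.NoetherianSpace.finite_irreducibleComponents
  refine Set.Finite.subset (hfin.image Subtype.val) fun v hv => ?_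
  obtain ⟨Z, hZ, hvZ⟩ : ∃ Z ∈ irreducibleComponents C, (⟨v, hv.1⟩ : C) ∈ Z :=
    ⟨irreducibleComponent _, irreducibleComponent_mem_irreducibleComponents _, mem_irreducibleComponent⟩
  let η := genericPoints.ofComponent ⟨Z, hZ⟩
  have hη : η.1.1 ⤳ v := by
    have h1 : η.1 ⤳ (⟨v, hv.1⟩ : C) := (genericPoints.isGenericPoint η).specializes
      (by rw [genericPoints.component_ofComponent]; exact hvZ)
    exact h1.map continuous_subtype_val
  exact ⟨η.1, η.2, eq_of_specializes_of_fibre V.hom hη (h v hv.1 hv.2 _ η.1.2 hη)⟩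

/-- Two levels such that no point of the upper one properly specialises outside the lower one. -/
structure Strat (X : Scheme.{u}) where
  /-- The lower level. -/
  lo : X → Prop
  /-- The upper level. -/
  hi : X → Prop
  eq_of : ∀ {x y : X}, hi x → ¬ lo y → x ⤳ y → y = x

/-- The points of the upper level outside the lower one. -/
def Strat.Mem (S : Strat X) (x : X) : Prop := S.hi x ∧ ¬ S.lo x

/-- The strata by chains of specialisations. -/
def lowStrat (n : ℕ) : Strat X := ⟨Low n, Low (n + 1), fun hx hy h => eq_of_layer hx hy h⟩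

variable [AlgebraicGeometry.IsNoetherian X] (F : EtCoh.Ab X) (σ : Strat X)

/-- The components at the points of the upper level outside the lower one. -/
noncomputable abbrev layerObj : ULift.{u + 1} {x : X // σ.Mem x} → EtCoh.Ab X := fun k => compObj F k

theorem exists_finite_comp
    (hF : ∀ (V : X.Etale) (s : EtCoh.sect F V) (v : V.left), v ∈ EtShriek.sectSupp F V s → σ.hi (V.hom v))
    (V : X.Etale) (s : EtCoh.sect F V) (v : V.left) :
    ∃ (V' : X.Etale) (g : V' ⟶ V) (v' : V'.left) (S : Finset (ULift.{u + 1} {x : X // σ.Mem x})),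
      g.left v' = v ∧ ∀ k ∉ S, (compMap F k).hom.app (op V') (F.obj.map g.op s) = 0 := by
  classical
  obtain ⟨O, hO, hvO, -⟩ := exists_isAffineOpen_mem_and_subset (U := (⊤ : V.left.Opens)) (x := v) trivial
  let V' := sub V O
  haveI : IsAffine V'.left := hO
  let s' : EtCoh.sect F V' := F.obj.map (subι V O).op s
  have hfin := finite_of_max_image (isClosed_sectSupp F V' s') (σ.Mem) fun w hw hl z hz hzw =>
    (σ.eq_of (hF V' s' z hz) hl.2 (hzw.map V'.hom.continuous)).symm
  refine ⟨V', subι V O, ⟨v, hvO⟩, (hfin.toFinset.image fun w => V'.hom w).preimage (fun k => k.down.1)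
    (fun a _ b _ e => ULift.ext _ _ (Subtype.ext e)), rfl, fun k hk => compMap_eq_zero F k V' s' fun w hw hmem => hk ?_⟩
  rw [Finset.mem_preimage, Finset.mem_image]
  exact ⟨w, hfin.mem_toFinset.2 ⟨hmem, show σ.Mem (V'.hom w) from hw ▸ k.down.2⟩, hw⟩

theorem exists_layerMap
    (hF : ∀ (V : X.Etale) (s : EtCoh.sect F V) (v : V.left), v ∈ EtShriek.sectSupp F V s → σ.hi (V.hom v)) :
    ∃ φ : F ⟶ ∐ layerObj F σ, ∀ (k : ULift.{u + 1} {x : X // σ.Mem x}) (V : X.Etale) (s : EtCoh.sect F V),
      (Sigma.π (layerObj F σ) k).hom.app (op V) (φ.hom.app (op V) s) = (compMap F k).hom.app (op V) s := by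
  classical
  let G := layerObj F σ
  let π : ∀ k, F ⟶ G k := fun k => compMap F k
  let D : F ⟶ ∏ᶜ G := Pi.lift π
  let E : (∐ G) ⟶ ∏ᶜ G := Pi.lift fun k => Sigma.π G k
  have hD : ∀ {V : X.Etale} (s : EtCoh.sect F V) k,
      (Pi.π G k).hom.app (op V) (D.hom.app (op V) s) = (π k).hom.app (op V) s := fun {V} s k => by
    rw [← ConcreteCategory.comp_apply, ← NatTrans.comp_app, ← ObjectProperty.FullSubcategory.comp_hom, Pi.lift_π]
  have hE : ∀ {V : X.Etale} (t : EtCoh.sect (∐ G) V) k,
      (Pi.π G k).hom.app (op V) (E.hom.app (op V) t) = (Sigma.π G k).hom.app (op V) t := fun {V} t k => by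
    rw [← ConcreteCategory.comp_apply, ← NatTrans.comp_app, ← ObjectProperty.FullSubcategory.comp_hom, Pi.lift_π]
  haveI : Mono E := mono_of_eq_zero _ fun V s hs =>
    Groth.Agent.H15Site.Shriek.eq_zero_of_proj G s fun k => by rw [← hE, hs, map_zero]
  haveI : Epi (pullback.fst D E) := epi_of_local _ fun V s v => by
    obtain ⟨V', g, v', S, hv, hS⟩ := exists_finite_comp F σ hF V s v
    let t : EtCoh.sect (∐ G) V' :=
      ∑ k ∈ S, (Sigma.ι G k).hom.app (op V') ((π k).hom.app (op V') (F.obj.map g.op s))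
    obtain ⟨p, hp, -⟩ := exists_pullback_sect D E (F.obj.map g.op s) t (pi_sect_ext _ _ _ fun l => by
      rw [hD, hE, map_sum]
      simp only [sigma_ι_π]
      by_cases hl : l ∈ S
      · rw [Finset.sum_eq_single l (fun k _ hk => dif_neg hk) (fun hn => absurd hl hn), dif_pos rfl]
        rfl
      · rw [Finset.sum_eq_zero fun k hk => dif_neg fun e => hl (by rwa [← e]), hS l hl])
    exact ⟨V', g, v', p, hv, hp⟩
  haveI := isIso_of_mono_of_epi (pullback.fst D E)
  refine ⟨inv (pullback.fst D E) ≫ pullback.snd D E, fun k V s => ?_⟩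
  have h1 : (inv (pullback.fst D E) ≫ pullback.snd D E) ≫ E = D := by
    rw [Category.assoc, ← pullback.condition, IsIso.inv_hom_id_assoc]
  rw [← hE]
  refine Eq.trans ?_ (hD s k)
  congr 1
  exact ConcreteCategory.congr_hom (congrArg (fun m => m.hom.app (op V)) h1) s

variable {F σ} (φ : F ⟶ ∐ layerObj F σ)
  (hφ : ∀ (k : ULift.{u + 1} {x : X // σ.Mem x}) (V : X.Etale) (s : EtCoh.sect F V),
    (Sigma.π (layerObj F σ) k).hom.app (op V) (φ.hom.app (op V) s) = (compMap F k).hom.app (op V) s)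

include hφ

theorem low_of_mem_supp_kernel
    (hF : ∀ (V : X.Etale) (s : EtCoh.sect F V) (v : V.left), v ∈ EtShriek.sectSupp F V s → σ.hi (V.hom v))
    (V : X.Etale) (s : EtCoh.sect (kernel φ) V) (v : V.left) (hv : v ∈ EtShriek.sectSupp (kernel φ) V s) :
    σ.lo (V.hom v) := by
  by_contra hn
  let s' := (kernel.ι φ).hom.app (op V) s
  have hmem : v ∈ EtShriek.sectSupp F V s' := by
    intro W g hw h0
    refine hv W g hw (injective_app' (kernel.ι φ) W ?_)
    rw [map_zero, app_res]
    exact h0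
  let k : ULift.{u + 1} {x : X // σ.Mem x} := ⟨⟨V.hom v, hF V s' v hmem, hn⟩⟩
  refine notMem_supp_of_compMap F k V s' ?_ v rfl hmem
  rw [← hφ, show φ.hom.app (op V) s' = 0 from ?_, map_zero]
  exact ConcreteCategory.congr_hom (congrArg (fun m => m.hom.app (op V)) (kernel.condition φ)) s

theorem exists_preimage_near
    (hF : ∀ (V : X.Etale) (s : EtCoh.sect F V) (v : V.left), v ∈ EtShriek.sectSupp F V s → σ.hi (V.hom v))
    (V : X.Etale) (b : EtCoh.sect (∐ layerObj F σ) V) (v : V.left)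
    (hv : ¬ σ.lo (V.hom v)) :
    ∃ (W : X.Etale) (γ : W ⟶ V) (w : W.left) (a : EtCoh.sect F W), γ.left w = v ∧
      φ.hom.app (op W) a = (∐ layerObj F σ).obj.map γ.op b := by
  classical
  obtain ⟨V₂, g₂, v₂, S, hv₂, hS⟩ := exists_local_sum (layerObj F σ) b v
  have hy : V₂.hom v₂ = V.hom v := by rw [← hom_left g₂, hv₂]
  let S₁ := S.filter fun k => ¬ k.down.1 ⤳ V₂.hom v₂
  obtain ⟨O₁, hvO₁, hO₁⟩ := exists_avoid V₂ v₂ S₁ (fun k => k.down.1) fun k hk => (Finset.mem_filter.1 hk).2
  let g₃ : sub V₂ O₁ ⟶ V := subι V₂ O₁ ≫ g₂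
  let v₃ : (sub V₂ O₁).left := ⟨v₂, hvO₁⟩
  have hv₃ : g₃.left v₃ = v := hv₂
  have hy₃ : (sub V₂ O₁).hom v₃ = V.hom v := by rw [← hom_left g₃, hv₃]
  let b₃ := (∐ layerObj F σ).obj.map g₃.op b
  have hb₃ : ∀ k : ULift.{u + 1} {x : X // σ.Mem x}, k.down.1 ≠ V.hom v →
      (Sigma.π (layerObj F σ) k).hom.app (op (sub V₂ O₁)) b₃ = 0 := fun k hk => by
    show (Sigma.π (layerObj F σ) k).hom.app (op (sub V₂ O₁)) ((∐ layerObj F σ).obj.map (subι V₂ O₁ ≫ g₂).op b) = 0
    rw [← res_comp, app_res]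
    by_cases hkS : k ∈ S
    · refine res_skyPush_eq_zero _ _ (hO₁ k (Finset.mem_filter.2 ⟨hkS, fun hsp => hk ?_⟩)) _
      exact (σ.eq_of k.down.2.1 (hy ▸ hv) hsp).symm.trans hy
    · rw [hS k hkS, map_zero]
  by_cases hA : σ.Mem (V.hom v)
  swap
  · refine ⟨_, g₃, v₃, 0, hv₃, ?_⟩
    rw [map_zero]
    exact (Groth.Agent.H15Site.Shriek.eq_zero_of_proj (layerObj F σ) b₃ fun k =>
      hb₃ k fun e => hA (e ▸ k.down.2)).symm
  let η : ULift.{u + 1} {x : X // σ.Mem x} := ⟨⟨V.hom v, hA⟩⟩
  let i := X.fromSpecResidueField η.down.1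
  let c : EtCoh.sect ((EtCoh.pull i).obj F) ((EtCoh.bc i).obj (sub V₂ O₁)) :=
    (Sigma.π (layerObj F σ) η).hom.app (op (sub V₂ O₁)) b₃
  obtain ⟨p, hp⟩ := exists_pt_of_mem_range i (sub V₂ O₁) v₃
    (by rw [Scheme.range_fromSpecResidueField]; exact hy₃)
  obtain ⟨Z, g, q, s, hq, hqs⟩ := exists_unit_near i F (sub V₂ O₁) c p
  let z : Z.left := (pullback.fst Z.hom i) q
  have hz : g.left z = v₃ := by rw [← hp, ← hq, fst_bcMap]
  have hzy : Z.hom z = V.hom v := by rw [← hom_left g, hz, hy₃]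
  obtain ⟨O, hO, hzO, -⟩ := exists_isAffineOpen_mem_and_subset (U := (⊤ : Z.left.Opens)) (x := z) trivial
  haveI : IsAffine (sub Z O).left := hO
  let z₁ : (sub Z O).left := ⟨z, hzO⟩
  have hfin := finite_of_max_image (isClosed_closure.preimage (sub Z O).hom.continuous :
      IsClosed ((sub Z O).hom.base ⁻¹' closure {V.hom v})) (· = V.hom v) fun a _ ha w hw hwa => by
    refine Eq.trans ?_ ha.symm
    refine (Specializes.antisymm ?_ (specializes_iff_mem_closure.2 hw)).eq
    exact ha ▸ hwa.map (sub Z O).hom.continuous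
  have hother : IsClosed (⋃ w ∈ hfin.toFinset.erase z₁, closure ({w} : Set (sub Z O).left)) :=
    isClosed_biUnion_finset fun _ _ => isClosed_closure
  let O₂ : (sub Z O).left.Opens := ⟨_, hother.isOpen_compl⟩
  have hz₂ : z₁ ∈ O₂ := by
    simp only [O₂, Opens.mem_mk, Set.mem_compl_iff, Set.mem_iUnion, not_exists]
    intro w hw hmem
    obtain ⟨hne, hw⟩ := Finset.mem_erase.1 hw
    refine hne (eq_of_specializes_of_fibre (sub Z O).hom (specializes_iff_mem_closure.2 hmem) ?_)
    exact ((hfin.mem_toFinset.1 hw).2).trans (((hom_sub Z O z₁).trans hzy).symm)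
  have honly : ∀ w : (sub (sub Z O) O₂).left, (sub (sub Z O) O₂).hom w = V.hom v → w.1 = z₁ := fun w hw => by
    by_contra hne
    rw [hom_sub] at hw
    refine w.2 (Set.mem_iUnion₂.2 ⟨w.1, Finset.mem_erase.2 ⟨hne, hfin.mem_toFinset.2 ⟨?_, hw⟩⟩, subset_closure rfl⟩)
    show (sub Z O).hom w.1 ∈ closure {V.hom v}
    rw [hw]
    exact subset_closure rfl
  let h₂ : sub (sub Z O) O₂ ⟶ Z := subι (sub Z O) O₂ ≫ subι Z O
  let s₂ : EtCoh.sect F (sub (sub Z O) O₂) := F.obj.map h₂.op s
  obtain ⟨Z', g', z', S', hz', hS'⟩ := exists_finite_comp F σ hF _ s₂ ⟨z₁, hz₂⟩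
  let S₂ := S'.filter fun k => k.down.1 ≠ V.hom v
  have hy' : Z'.hom z' = V.hom v := by rw [← hom_left g', hz', hom_sub, hom_sub]; exact hzy
  obtain ⟨O₄, hzO₄, hO₄⟩ := exists_avoid Z' z' S₂ (fun k => k.down.1) fun k hk hsp =>
    (Finset.mem_filter.1 hk).2 ((σ.eq_of k.down.2.1 hv (hy' ▸ hsp)).symm)
  let δ : sub Z' O₄ ⟶ Z := subι Z' O₄ ≫ g' ≫ h₂
  refine ⟨sub Z' O₄, δ ≫ g ≫ g₃, ⟨z', hzO₄⟩, F.obj.map δ.op s, ?_, ?_⟩
  · show g₃.left (g.left ((subι Z O).left ((subι (sub Z O) O₂).left (g'.left z')))) = v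
    rw [hz']
    show g₃.left (g.left z) = v
    rw [hz, hv₃]
  refine sub_eq_zero.1 (Groth.Agent.H15Site.Shriek.eq_zero_of_proj (layerObj F σ) _ fun k => ?_)
  rw [map_sub, hφ, sub_eq_zero]
  rw [show (∐ layerObj F σ).obj.map (δ ≫ g ≫ g₃).op b = (∐ layerObj F σ).obj.map (δ ≫ g).op b₃ from
    (congrArg (fun m => (∐ layerObj F σ).obj.map m.op b) (Category.assoc δ g g₃).symm).trans (res_comp _ g₃ (δ ≫ g) b).symm,
    app_res (Sigma.π (layerObj F σ) k)]
  by_cases hk : k.down.1 = V.hom v
  · obtain rfl : k = η := ULift.ext _ _ (Subtype.ext hk)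
    refine eq_res_of_supp (F := (EtCoh.pull i).obj F) (V := (EtCoh.bc i).obj (sub Z' O₄)) fun r => ?_
    have hrq : ((EtCoh.bc i).map δ).left r = q := by
      refine fst_injective i Z ?_
      rw [fst_bcMap]
      have h1 := hom_fst i (sub Z' O₄) r
      rw [Scheme.fromSpecResidueField_apply] at h1
      have h2 := honly (g'.left ((subι Z' O₄).left ((pullback.fst (sub Z' O₄).hom i) r)))
        (by rw [hom_left g', hom_left]; exact h1)
      exact congrArg Subtype.val h2
    have h2 := notMem_supp_map ((EtCoh.bc i).map δ) r (hrq ▸ hqs)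
    rw [map_sub, unit_res, ← Functor.map_comp_apply, ← op_comp, ← Functor.map_comp] at h2
    exact h2
  · rw [hb₃ k hk, map_zero]
    by_cases hkS : k ∈ S'
    · exact res_skyPush_eq_zero _ _ (hO₄ k (Finset.mem_filter.2 ⟨hkS, hk⟩)) _
    · show (compMap F k).hom.app _ (F.obj.map (subι Z' O₄ ≫ g' ≫ h₂).op s) = 0
      rw [← res_comp, ← res_comp, app_res, hS' k hkS, map_zero]

theorem low_of_mem_supp_cokernel
    (hF : ∀ (V : X.Etale) (s : EtCoh.sect F V) (v : V.left), v ∈ EtShriek.sectSupp F V s → σ.hi (V.hom v))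
    (V : X.Etale) (s : EtCoh.sect (cokernel φ) V) (v : V.left) (hv : v ∈ EtShriek.sectSupp (cokernel φ) V s) :
    σ.lo (V.hom v) := by
  by_contra hn
  haveI : Sheaf.IsLocallySurjective (cokernel.π φ) :=
    (Sheaf.isLocallySurjective_iff_epi' _ (cokernel.π φ)).2 inferInstance
  obtain ⟨V₁, g₁, v₁, ⟨b, hb⟩, rfl⟩ := H18Et.Subterminal.exists_mem_of_cover
    (Presheaf.imageSieve_mem _ (cokernel.π φ).hom s) v
  obtain ⟨W, γ, w, a, rfl, ha⟩ := exists_preimage_near φ hφ hF V₁ b v₁ (by rwa [← hom_left g₁])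
  refine notMem_supp_of_map g₁ (γ.left w) ?_ hv
  rw [show (cokernel φ).obj.map g₁.op s = (cokernel.π φ).hom.app (op V₁) b from hb.symm]
  refine notMem_supp_of_map γ w ?_
  rw [← app_res, ← ha, ← ConcreteCategory.comp_apply, ← NatTrans.comp_app,
    ← ObjectProperty.FullSubcategory.comp_hom, cokernel.condition]
  exact fun hmem => hmem _ (𝟙 _) ⟨w, rfl⟩ (map_zero _)

end Groth.Agent.H05EGA4.EtCl
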