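import Groth.Agent.H05EGA4.EtCl.Comp
import Groth.Agent.H22Alg.FlatSurj
import Groth.Agent.H18Et.MuConst
import Groth.Prelude.Def_EtLim
import Groth.Prelude.Def_EtGm
import Mathlib.AlgebraicGeometry.Stalk

/-!
# Units at the maximal points

The sheaf `P = ∏ j_{η*} G_m` over the maximal points and the cokernel of `G_m ⟶ P`.
-/

set_option autoImplicit false
set_option linter.style.haveILetI false
set_option linter.unusedSectionVars false
set_option linter.overlappingInstances false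
set_option backward.isDefEq.respectTransparency false
set_option backward.isDefEq.respectTransparency.types false

universe u

open CategoryTheory CategoryTheory.Limits AlgebraicGeometry Opposite TopologicalSpace

namespace Groth.Agent.H05EGA4.EtCl

open Groth.Agent.H18Et.MuConst (sec sec_surjective sec_injective map_sec)
open scoped Groth.Agent.H18Et

variable {X : Scheme.{u}}

/-- A maximal point: one without proper generalisations. -/
def IsMaxPt {Y : Scheme.{u}} (y : Y) : Prop := ∀ z, z ⤳ y → z = y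

theorem exists_isMaxPt {Y : Scheme.{u}} (y : Y) : ∃ η : Y, IsMaxPt η ∧ η ⤳ y := by
  let Z : irreducibleComponents Y :=
    ⟨irreducibleComponent y, irreducibleComponent_mem_irreducibleComponents y⟩
  let η := genericPoints.ofComponent Z
  have hg : IsGenericPoint η.1 (irreducibleComponent y) := by
    have := genericPoints.isGenericPoint η
    rwa [genericPoints.component_ofComponent] at this
  refine ⟨η.1, fun z hz => ?_, hg.specializes mem_irreducibleComponent⟩
  have h1 : irreducibleComponent y ⊆ closure ({z} : Set Y) := by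
    rw [← hg.def]
    exact closure_minimal (Set.singleton_subset_iff.2 (specializes_iff_mem_closure.1 hz)) isClosed_closure
  have h2 : closure ({z} : Set Y) ⊆ irreducibleComponent y :=
    (irreducibleComponent_mem_irreducibleComponents y).2 isIrreducible_singleton.closure h1
  exact IsGenericPoint.eq (S := irreducibleComponent y) (le_antisymm h2 h1) hg

theorem finite_isMaxPt (Y : Scheme.{u}) [AlgebraicGeometry.IsNoetherian Y] : Finite {y : Y // IsMaxPt y} := by
  have hfin := genericPoints.finite (α := Y) TopologicalSpace.NoetherianSpace.finite_irreducibleComponents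
  haveI := hfin.to_subtype
  refine Finite.of_injective (β := genericPoints Y) (fun y => ⟨y.1, ?_⟩)
    fun a b e => Subtype.ext (congrArg (fun t : genericPoints Y => t.1) e)
  refine ⟨isIrreducible_singleton.closure, fun T hT hle => ?_⟩
  obtain ⟨t, ht⟩ := QuasiSober.sober hT.closure isClosed_closure
  have h : t ⤳ y.1 := ht.specializes (subset_closure (hle (subset_closure rfl)))
  rw [y.2 t h] at ht
  exact subset_closure.trans ht.def.ge

theorem isMaxPt_hom_iff [IsLocallyNoetherian X] (V : X.Etale) (v : V.left) : IsMaxPt (V.hom v) ↔ IsMaxPt v := by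
  haveI : Etale V.hom := V.prop
  haveI : IsLocallyNoetherian V.left :=
    haveI : IsLocallyNoetherian ((Functor.fromPUnit X).obj V.right) := inferInstanceAs (IsLocallyNoetherian X)
    LocallyOfFiniteType.isLocallyNoetherian V.hom
  constructor
  · intro h z hz
    exact eq_of_specializes_of_fibre V.hom hz (h _ (hz.map V.hom.continuous))
  · intro h y hy
    haveI : IsLocallyNoetherian ((𝟭 Scheme).obj V.left) := ‹IsLocallyNoetherian V.left›
    obtain ⟨z, hz, rfl⟩ := generalizingMap_of_isOpenMap V.hom V.hom.isOpenMap hy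
    rw [h z hz]

theorem isMaxPt_map_iff [IsLocallyNoetherian X] {V W : X.Etale} (g : W ⟶ V) (w : W.left) :
    IsMaxPt (g.left w) ↔ IsMaxPt w := by
  rw [← isMaxPt_hom_iff V, ← isMaxPt_hom_iff W, hom_left]

variable (X) in
/-- The maximal points. -/
abbrev MaxPts : Type u := {x : X // IsMaxPt x}

/-- `j_η : Spec O_η ⟶ X`. -/
noncomputable abbrev jmax (η : MaxPts X) : Spec (X.presheaf.stalk η.1) ⟶ X := X.fromSpecStalk η.1

variable (X) in
/-- The factors. -/
noncomputable abbrev Pfac (η : MaxPts X) : EtCoh.Ab X :=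
  (EtCoh.push (jmax η)).obj (EtCoh.Gm (Spec (X.presheaf.stalk η.1)))

variable (X) in
/-- The units at the maximal points. -/
noncomputable abbrev PM : EtCoh.Ab X := ∏ᶜ Pfac X

variable (X) in
/-- `G_m ⟶ P`. -/
noncomputable abbrev eM : EtCoh.Gm X ⟶ PM X := Pi.lift fun η => EtLim.GmPush (jmax η)

variable (X) in
/-- The divisor classes. -/
noncomputable abbrev ClM : EtCoh.Ab X := cokernel (eM X)

/-- The projection of the pullback. -/
noncomputable abbrev fstM (η : MaxPts X) (V : X.Etale) : ((EtCoh.bc (jmax η)).obj V).left ⟶ V.left :=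
  pullback.fst V.hom (jmax η)

theorem hom_fstM (η : MaxPts X) (V : X.Etale) (p : ((EtCoh.bc (jmax η)).obj V).left) :
    V.hom (fstM η V p) = η.1 := by
  refine (hom_fst (jmax η) V p).trans ?_
  have h : (jmax η) ((pullback.snd V.hom (jmax η)) p) ∈ Set.range (X.fromSpecStalk η.1) := ⟨_, rfl⟩
  rw [Scheme.range_fromSpecStalk] at h
  exact η.2 _ h

theorem isMaxPt_fstM [IsLocallyNoetherian X] (η : MaxPts X) (V : X.Etale) (p : ((EtCoh.bc (jmax η)).obj V).left) :
    IsMaxPt (fstM η V p) :=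
  (isMaxPt_hom_iff V _).1 (by
    have h := hom_fstM η V p
    exact h.symm ▸ η.2)

theorem exists_pt_max (η : MaxPts X) (V : X.Etale) (w : V.left) (hw : V.hom w = η.1) :
    ∃ p : ((EtCoh.bc (jmax η)).obj V).left, fstM η V p = w :=
  exists_pt_of_mem_range (jmax η) V w (by
    show V.hom w ∈ Set.range (X.fromSpecStalk η.1)
    rw [hw, Scheme.range_fromSpecStalk]
    exact specializes_rfl)

theorem bijective_stalkMap_fstM (η : MaxPts X) (V : X.Etale) (p : ((EtCoh.bc (jmax η)).obj V).left) :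
    Function.Bijective ((fstM η V).stalkMap p) := by
  haveI := H22Alg.flat_fromSpecStalk X η.1
  haveI : Flat (fstM η V) := inferInstanceAs (Flat (pullback.fst V.hom (jmax η)))
  haveI : IsPreimmersion (jmax η) := inferInstanceAs (IsPreimmersion (X.fromSpecStalk η.1))
  haveI : IsPreimmersion (fstM η V) := MorphismProperty.pullback_fst (P := @IsPreimmersion) _ _ inferInstance
  exact ⟨H22Alg.stalkMap_injective_of_flat _ p, (fstM η V).stalkMap_surjective p⟩

theorem germ_appTop {Y Z : Scheme.{u}} (f : Y ⟶ Z) (p : Y) (A : Γ(Z, ⊤)) :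
    Y.presheaf.germ ⊤ p trivial (f.appTop A) = f.stalkMap p (Z.presheaf.germ ⊤ (f p) trivial A) :=
  (Scheme.Hom.germ_stalkMap_apply f ⊤ p trivial A).symm

theorem appTop_eq_of_germ {Y Z : Scheme.{u}} (f : Y ⟶ Z) (A B : Γ(Z, ⊤))
    (h : ∀ p, Z.presheaf.germ ⊤ (f p) trivial A = Z.presheaf.germ ⊤ (f p) trivial B) : f.appTop A = f.appTop B :=
  TopCat.Presheaf.section_ext Y.sheaf ⊤ _ _ fun p _ => by
    show Y.presheaf.germ ⊤ p trivial _ = Y.presheaf.germ ⊤ p trivial _
    rw [germ_appTop, germ_appTop, h]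

/-- Invertible at the maximal points. -/
def MaxUnit (V : X.Etale) (A : Γ(V.left, ⊤)) : Prop :=
  ∀ w, IsMaxPt w → IsUnit (V.left.presheaf.germ ⊤ w trivial A)

theorem MaxUnit.mul {V : X.Etale} {A B : Γ(V.left, ⊤)} (hA : MaxUnit V A) (hB : MaxUnit V B) :
    MaxUnit V (A * B) := fun w hw => by rw [map_mul]; exact (hA w hw).mul (hB w hw)

theorem maxUnit_units (V : X.Etale) (u : Γ(V.left, ⊤)ˣ) : MaxUnit V u := fun w _ => u.isUnit.map _

theorem MaxUnit.res [IsLocallyNoetherian X] {V W : X.Etale} (g : W ⟶ V) {A : Γ(V.left, ⊤)} (hA : MaxUnit V A) :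
    MaxUnit W (g.left.appTop A) := fun w hw => by
  rw [germ_appTop]
  exact (hA _ ((isMaxPt_map_iff g w).2 hw)).map _

variable [IsLocallyNoetherian X]

theorem MaxUnit.isUnit_fst {V : X.Etale} {A : Γ(V.left, ⊤)} (hA : MaxUnit V A) (η : MaxPts X) :
    IsUnit ((fstM η V).appTop A) :=
  ((EtCoh.bc (jmax η)).obj V).left.toRingedSpace.isUnit_of_isUnit_germ ⊤ _ fun p _ => by
    show IsUnit (((EtCoh.bc (jmax η)).obj V).left.presheaf.germ ⊤ p trivial _)
    rw [germ_appTop]
    exact (hA _ (isMaxPt_fstM η V p)).map _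

/-- The class in `P` of a function invertible at the maximal points. -/
noncomputable def psec (V : X.Etale) {A : Γ(V.left, ⊤)} (hA : MaxUnit V A) : EtCoh.sect (PM X) V :=
  (exists_pi_sect (Pfac X) fun η => sec (U := (EtCoh.bc (jmax η)).obj V) (hA.isUnit_fst η).unit).choose

theorem π_psec (η : MaxPts X) {V : X.Etale} {A : Γ(V.left, ⊤)} (hA : MaxUnit V A) :
    (Pi.π (Pfac X) η).hom.app (op V) (psec V hA) = sec (U := (EtCoh.bc (jmax η)).obj V) (hA.isUnit_fst η).unit :=
  (exists_pi_sect (Pfac X) fun η => sec (U := (EtCoh.bc (jmax η)).obj V) (hA.isUnit_fst η).unit).choose_spec η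

theorem π_eM (η : MaxPts X) (V : X.Etale) (u : Γ(V.left, ⊤)ˣ) :
    (Pi.π (Pfac X) η).hom.app (op V) ((eM X).hom.app (op V) (sec u)) =
      sec (U := (EtCoh.bc (jmax η)).obj V) (Units.map (fstM η V).appTop.hom.toMonoidHom u) := by
  rw [← ConcreteCategory.comp_apply, ← NatTrans.comp_app, ← ObjectProperty.FullSubcategory.comp_hom, Pi.lift_π]
  rfl

theorem eM_sec (V : X.Etale) (u : Γ(V.left, ⊤)ˣ) :
    (eM X).hom.app (op V) (sec u) = psec V (maxUnit_units V u) :=
  pi_sect_ext _ _ _ fun η => by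
    rw [π_eM, π_psec]
    exact congrArg sec (Units.ext rfl)

theorem psec_congr {V : X.Etale} {A B : Γ(V.left, ⊤)} (hA : MaxUnit V A) (hB : MaxUnit V B)
    (h : ∀ w, IsMaxPt w → V.left.presheaf.germ ⊤ w trivial A = V.left.presheaf.germ ⊤ w trivial B) :
    psec V hA = psec V hB :=
  pi_sect_ext _ _ _ fun η => by
    rw [π_psec, π_psec]
    exact congrArg sec (Units.ext (appTop_eq_of_germ _ A B fun p => h _ (isMaxPt_fstM η V p)))

theorem psec_mul {V : X.Etale} {A B : Γ(V.left, ⊤)} (hA : MaxUnit V A) (hB : MaxUnit V B) :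
    psec V (hA.mul hB) = psec V hA + psec V hB :=
  pi_sect_ext _ _ _ fun η => by
    rw [map_add, π_psec, π_psec, π_psec]
    exact congrArg (sec (U := (EtCoh.bc (jmax η)).obj V)) (Units.ext (map_mul _ A B))

theorem germ_eq_of_psec_eq {V : X.Etale} {A B : Γ(V.left, ⊤)} (hA : MaxUnit V A) (hB : MaxUnit V B)
    (h : psec V hA = psec V hB) (w : V.left) (hw : IsMaxPt w) :
    V.left.presheaf.germ ⊤ w trivial A = V.left.presheaf.germ ⊤ w trivial B := by
  obtain ⟨η, hη⟩ : ∃ η : MaxPts X, V.hom w = η.1 := ⟨⟨V.hom w, (isMaxPt_hom_iff V w).2 hw⟩, rfl⟩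
  obtain ⟨p, rfl⟩ := exists_pt_max η V w hη
  refine (bijective_stalkMap_fstM η V p).1 ?_
  rw [← germ_appTop, ← germ_appTop]
  have h' := congrArg ((Pi.π (Pfac X) η).hom.app (op V)) h
  rw [π_psec, π_psec] at h'
  exact congrArg _ (congrArg Units.val (sec_injective h') :)

theorem res_psec {V W : X.Etale} (g : W ⟶ V) {A : Γ(V.left, ⊤)} (hA : MaxUnit V A) :
    (PM X).obj.map g.op (psec V hA) = psec W (hA.res g) :=
  pi_sect_ext _ _ _ fun η => by
    rw [app_res, π_psec, π_psec]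
    refine (map_sec ((EtCoh.bc (jmax η)).map g) _).trans (congrArg sec (Units.ext ?_))
    have e : ((EtCoh.bc (jmax η)).map g).left ≫ fstM η V = fstM η W ≫ g.left := pullback.lift_fst _ _ _
    exact congrArg (fun k : ((EtCoh.bc (jmax η)).obj W).left ⟶ V.left => k.appTop A) e

/-- The class of a function. -/
noncomputable def clM (V : X.Etale) {A : Γ(V.left, ⊤)} (hA : MaxUnit V A) : EtCoh.sect (ClM X) V :=
  (cokernel.π (eM X)).hom.app (op V) (psec V hA)

theorem clM_mul {V : X.Etale} {A B : Γ(V.left, ⊤)} (hA : MaxUnit V A) (hB : MaxUnit V B) :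
    clM V (hA.mul hB) = clM V hA + clM V hB := by
  rw [clM, psec_mul, map_add]; rfl

theorem π_eM_zero (V : X.Etale) (u : EtCoh.sect (EtCoh.Gm X) V) :
    (cokernel.π (eM X)).hom.app (op V) ((eM X).hom.app (op V) u) = 0 :=
  ConcreteCategory.congr_hom (congrArg (fun k => k.hom.app (op V)) (cokernel.condition (eM X))) u

theorem clM_units (V : X.Etale) (u : Γ(V.left, ⊤)ˣ) : clM V (maxUnit_units V u) = 0 := by
  rw [clM, ← eM_sec, π_eM_zero]

theorem res_clM {V W : X.Etale} (g : W ⟶ V) {A : Γ(V.left, ⊤)} (hA : MaxUnit V A) :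
    (ClM X).obj.map g.op (clM V hA) = clM W (hA.res g) := by
  rw [clM, ← app_res, res_psec]; rfl

/-- All maximal generalisations agree. -/
def UniqGen {Y : Scheme.{u}} (y : Y) : Prop := ∀ w w' : Y, IsMaxPt w → IsMaxPt w' → w ⤳ y → w' ⤳ y → w = w'

omit [IsLocallyNoetherian X] in
theorem uniqGen_of_isMaxPt {Y : Scheme.{u}} {y : Y} (hy : IsMaxPt y) : UniqGen y :=
  fun w w' _ _ h h' => (hy w h).trans (hy w' h').symm

omit [IsLocallyNoetherian X] in
theorem uniqGen_of_isDomain {Y : Scheme.{u}} (y : Y) (hy : IsDomain (Y.presheaf.stalk y)) : UniqGen y := by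
  intro w w' hw hw' h h'
  let b : Spec (Y.presheaf.stalk y) := ⟨⊥, Ideal.isPrime_bot⟩
  have key : ∀ z : Y, IsMaxPt z → z ⤳ y → (Y.fromSpecStalk y) b = z := fun z hz hzy => by
    obtain ⟨q, hq⟩ : z ∈ Set.range (Y.fromSpecStalk y) := by rw [Scheme.range_fromSpecStalk]; exact hzy
    refine hz _ ?_
    rw [← hq]
    exact ((PrimeSpectrum.le_iff_specializes b q).1 bot_le).map (Y.fromSpecStalk y).continuous
  exact (key w hw h).symm.trans (key w' hw' h')

/-- A neighbourhood with at most one maximal point. -/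
theorem exists_nbhd_uniq (V : X.Etale) (v : V.left) (hv : UniqGen v) (O₀ : V.left.Opens) (hvO : v ∈ O₀) :
    ∃ (O : V.left.Opens), v ∈ O ∧ O ≤ O₀ ∧ IsAffineOpen O ∧
      ∀ w w' : V.left, IsMaxPt w → IsMaxPt w' → w ∈ O → w' ∈ O → w = w' := by
  haveI : Etale V.hom := V.prop
  haveI : IsLocallyNoetherian V.left :=
    haveI : IsLocallyNoetherian ((Functor.fromPUnit X).obj V.right) := inferInstanceAs (IsLocallyNoetherian X)
    LocallyOfFiniteType.isLocallyNoetherian V.hom
  obtain ⟨O₁, hO₁, hvO₁, hle⟩ := exists_isAffineOpen_mem_and_subset hvO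
  haveI : IsAffine O₁.toScheme := hO₁
  haveI : AlgebraicGeometry.IsNoetherian O₁.toScheme := {}
  haveI := finite_isMaxPt O₁.toScheme
  let C : Set V.left := ⋃ w ∈ {w : V.left | IsMaxPt w ∧ w ∈ O₁ ∧ ¬w ⤳ v}, closure {w}
  have hfin : {w : V.left | IsMaxPt w ∧ w ∈ O₁ ∧ ¬w ⤳ v}.Finite := by
    refine (Set.finite_range fun w : {w : O₁.toScheme // IsMaxPt w} => (w.1.1 : V.left)).subset ?_
    rintro w ⟨hw, hwO, -⟩
    exact ⟨⟨⟨w, hwO⟩, fun z hz => Subtype.ext (hw z.1 (hz.map continuous_subtype_val))⟩, rfl⟩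
  have hC : IsClosed C := hfin.isClosed_biUnion fun _ _ => isClosed_closure
  have hvC : v ∉ C := fun hv' => by
    obtain ⟨w, hw, hvw⟩ := Set.mem_iUnion₂.1 hv'
    exact hw.2.2 (specializes_iff_mem_closure.2 hvw)
  obtain ⟨O, hO, hvO', hle'⟩ := exists_isAffineOpen_mem_and_subset (U := O₁ ⊓ ⟨Cᶜ, hC.isOpen_compl⟩) (x := v)
    ⟨hvO₁, hvC⟩
  have key : ∀ w : V.left, IsMaxPt w → w ∈ O → w ⤳ v := fun w hw hwO => by
    by_contra hn
    exact (hle' hwO).2 (Set.mem_iUnion₂.2 ⟨w, ⟨hw, (hle' hwO).1, hn⟩, subset_closure rfl⟩)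
  exact ⟨O, hvO', fun z hz => hle (hle' hz).1, hO, fun w w' hw hw' h h' => hv w w' hw hw' (key w hw h) (key w' hw' h')⟩

/-- On an affine with one maximal point every section is a fraction. -/
theorem exists_frac (V : X.Etale) [IsAffine V.left]
    (hu : ∀ w w' : V.left, IsMaxPt w → IsMaxPt w' → w = w') (a : EtCoh.sect (PM X) V) :
    ∃ (A B : Γ(V.left, ⊤)) (hA : MaxUnit V A) (hB : MaxUnit V B), a + psec V hB = psec V hA := by
  rcases isEmpty_or_nonempty V.left with he | ⟨⟨v₀⟩⟩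
  · refine ⟨1, 1, fun w _ => he.elim w, fun w _ => he.elim w, pi_sect_ext _ _ _ fun η => ?_⟩
    obtain ⟨α, hα⟩ := sec_surjective (U := (EtCoh.bc (jmax η)).obj V) ((Pi.π (Pfac X) η).hom.app (op V) a)
    rw [map_add, π_psec, ← hα]
    refine congrArg sec (Units.ext (TopCat.Presheaf.section_ext ((EtCoh.bc (jmax η)).obj V).left.sheaf ⊤ _ _ fun p _ => ?_))
    exact he.elim (fstM η V p)
  obtain ⟨w₀, hw₀, -⟩ := exists_isMaxPt v₀
  obtain ⟨η₀, hη₀⟩ : ∃ η : MaxPts X, V.hom w₀ = η.1 := ⟨⟨V.hom w₀, (isMaxPt_hom_iff V w₀).2 hw₀⟩, rfl⟩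
  obtain ⟨p₀, hp₀⟩ := exists_pt_max η₀ V w₀ hη₀
  subst hp₀
  obtain ⟨α, hα⟩ := sec_surjective (U := (EtCoh.bc (jmax η₀)).obj V) ((Pi.π (Pfac X) η₀).hom.app (op V) a)
  obtain ⟨q, hq⟩ := (bijective_stalkMap_fstM η₀ V p₀).2
    (((EtCoh.bc (jmax η₀)).obj V).left.presheaf.germ ⊤ p₀ trivial α.val)
  have hq' : IsUnit q := isUnit_of_map_unit ((fstM η₀ V).stalkMap p₀).hom q (by
    show IsUnit ((fstM η₀ V).stalkMap p₀ q)
    rw [hq]; exact α.isUnit.map _)
  letI := TopCat.Presheaf.algebra_section_stalk V.left.presheaf (⟨fstM η₀ V p₀, trivial⟩ : (⊤ : V.left.Opens))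
  haveI := (isAffineOpen_top V.left).isLocalization_stalk ⟨fstM η₀ V p₀, trivial⟩
  obtain ⟨⟨A, B⟩, hAB⟩ := IsLocalization.surj
    ((isAffineOpen_top V.left).primeIdealOf ⟨fstM η₀ V p₀, trivial⟩).asIdeal.primeCompl q
  have hB : IsUnit (V.left.presheaf.germ ⊤ (fstM η₀ V p₀) trivial B.1) :=
    IsLocalization.map_units (V.left.presheaf.stalk (fstM η₀ V p₀)) B
  have hAB' : q * V.left.presheaf.germ ⊤ (fstM η₀ V p₀) trivial B.1 =
      V.left.presheaf.germ ⊤ (fstM η₀ V p₀) trivial A := hAB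
  have hA : IsUnit (V.left.presheaf.germ ⊤ (fstM η₀ V p₀) trivial A) := hAB' ▸ hq'.mul hB
  have mA : MaxUnit V A := fun w hw => by rw [hu w _ hw hw₀]; exact hA
  have mB : MaxUnit V B.1 := fun w hw => by rw [hu w _ hw hw₀]; exact hB
  refine ⟨A, B.1, mA, mB, pi_sect_ext _ _ _ fun η => ?_⟩
  obtain ⟨β, hβ⟩ := sec_surjective (U := (EtCoh.bc (jmax η)).obj V) ((Pi.π (Pfac X) η).hom.app (op V) a)
  rw [map_add, π_psec, π_psec, ← hβ]
  refine congrArg (sec (U := (EtCoh.bc (jmax η)).obj V)) (Units.ext ?_)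
  refine TopCat.Presheaf.section_ext ((EtCoh.bc (jmax η)).obj V).left.sheaf ⊤ _ _ fun p _ => ?_
  obtain rfl : η = η₀ := Subtype.ext (by
    rw [← hom_fstM η V p, hu _ _ (isMaxPt_fstM η V p) hw₀]
    exact hom_fstM η₀ V p₀)
  obtain rfl : p = p₀ := fst_injective (jmax η) V (hu _ _ (isMaxPt_fstM η V p) hw₀)
  obtain rfl : β = α := sec_injective (hβ.trans hα.symm)
  show ((EtCoh.bc (jmax η)).obj V).left.presheaf.germ ⊤ p trivial (β.val * (fstM η V).appTop B.1) = _
  rw [map_mul, germ_appTop, ← hq, ← map_mul, hAB']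
  exact (germ_appTop _ _ _).symm

/-- Classes are differences of classes of functions near a point with a unique generisation. -/
theorem exists_clM (V : X.Etale) (v : V.left) (hv : ∀ (W : X.Etale) (g : W ⟶ V) (w : W.left), g.left w = v → UniqGen w) (s : EtCoh.sect (ClM X) V) :
    ∃ (W : X.Etale) (g : W ⟶ V) (w : W.left) (_ : IsAffine W.left) (A B : Γ(W.left, ⊤)) (hA : MaxUnit W A)
      (hB : MaxUnit W B), g.left w = v ∧ (∀ z z' : W.left, IsMaxPt z → IsMaxPt z' → z = z') ∧
        (ClM X).obj.map g.op s = clM W hA - clM W hB := by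
  haveI : Sheaf.IsLocallySurjective (cokernel.π (eM X)) :=
    (Sheaf.isLocallySurjective_iff_epi' _ (cokernel.π (eM X))).2 inferInstance
  obtain ⟨V₁, g₁, v₁, ⟨a, ha⟩, hv₁⟩ := H18Et.Subterminal.exists_mem_of_cover
    (Presheaf.imageSieve_mem _ (cokernel.π (eM X)).hom s) v
  have hv₁' : UniqGen v₁ := hv V₁ g₁ v₁ hv₁
  obtain ⟨O, hvO, -, hO, hu⟩ := exists_nbhd_uniq V₁ v₁ hv₁' ⊤ trivial
  haveI : IsAffine (sub V₁ O).left := hO
  have hu' : ∀ z z' : (sub V₁ O).left, IsMaxPt z → IsMaxPt z' → z = z' := fun z z' hz hz' =>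
    Subtype.ext (hu z.1 z'.1 ((isMaxPt_map_iff (subι V₁ O) z).2 hz) ((isMaxPt_map_iff (subι V₁ O) z').2 hz') z.2 z'.2)
  obtain ⟨A, B, hA, hB, hAB⟩ := exists_frac (sub V₁ O) hu' ((PM X).obj.map (subι V₁ O).op a)
  refine ⟨sub V₁ O, subι V₁ O ≫ g₁, ⟨v₁, hvO⟩, hO, A, B, hA, hB, hv₁, hu', ?_⟩
  rw [← res_comp, ← ha, ← app_res, eq_sub_iff_add_eq]
  simp only [clM]
  rw [← map_add, hAB]

theorem isUnit_of_forall_germ {W : X.Etale} {A : Γ(W.left, ⊤)}
    (h : ∀ w, IsUnit (W.left.presheaf.germ ⊤ w trivial A)) : IsUnit A :=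
  W.left.toRingedSpace.isUnit_of_isUnit_germ ⊤ _ fun p _ => h p

theorem clM_eq_zero_of_isUnit {W : X.Etale} {A : Γ(W.left, ⊤)} (hA : MaxUnit W A) (h : IsUnit A) :
    clM W hA = 0 := by
  obtain ⟨u, rfl⟩ := h
  exact clM_units W u

theorem isUnit_germ_appTop_sub {W : X.Etale} {A : Γ(W.left, ⊤)} {O : W.left.Opens}
    (hO : O ≤ W.left.basicOpen A) (z : (sub W O).left) :
    IsUnit ((sub W O).left.presheaf.germ ⊤ z trivial ((subι W O).left.appTop A)) := by
  rw [germ_appTop]
  exact ((W.left.mem_basicOpen A _ trivial).1 (hO z.2)).map _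

/-- Divisor classes vanish at maximal points. -/
theorem notMem_supp_maxPt (V : X.Etale) (s : EtCoh.sect (ClM X) V) (v : V.left) (hv : IsMaxPt v) :
    v ∉ EtShriek.sectSupp (ClM X) V s := by
  obtain ⟨W, g, w, -, A, B, hA, hB, rfl, -, hs⟩ := exists_clM V v
    (fun W g w hw => uniqGen_of_isMaxPt ((isMaxPt_map_iff g w).1 (hw ▸ hv))) s
  have hw := (isMaxPt_map_iff g w).1 hv
  refine notMem_supp_of_map g w ?_
  let O : W.left.Opens := W.left.basicOpen A ⊓ W.left.basicOpen B
  have hwO : w ∈ O := ⟨(W.left.mem_basicOpen A w trivial).2 (hA w hw), (W.left.mem_basicOpen B w trivial).2 (hB w hw)⟩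
  refine notMem_supp_of_map (subι W O) (⟨w, hwO⟩ : (sub W O).left) ?_
  rw [hs, map_sub, res_clM, res_clM,
    clM_eq_zero_of_isUnit _ (isUnit_of_forall_germ (isUnit_germ_appTop_sub inf_le_left)),
    clM_eq_zero_of_isUnit _ (isUnit_of_forall_germ (isUnit_germ_appTop_sub inf_le_right)), sub_zero]
  intro h
  exact h _ (𝟙 _) ⟨⟨w, hwO⟩, rfl⟩ (map_zero _)

/-- Classes vanishing come locally from units. -/
theorem exists_eM_of_π_eq_zero (V : X.Etale) (a : EtCoh.sect (PM X) V)
    (ha : (cokernel.π (eM X)).hom.app (op V) a = 0) (v : V.left) :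
    ∃ (W : X.Etale) (g : W ⟶ V) (w : W.left) (u : Γ(W.left, ⊤)ˣ), g.left w = v ∧
      (PM X).obj.map g.op a = (eM X).hom.app (op W) (sec u) := by
  have h0 : (H18Et.FreeSheaf.homEquiv V (PM X)).symm a ≫ cokernel.π (eM X) = 0 := by
    rw [homEquiv_symm_comp, ha]
    apply (H18Et.FreeSheaf.homEquiv V (ClM X)).injective
    rw [Equiv.apply_symm_apply, ← comp_zero (X := (H18Et.FreeSheaf.free X).obj V)
      (f := (H18Et.FreeSheaf.homEquiv V (PM X)).symm a) (Z := ClM X), H18Et.FreeSheaf.homEquiv_comp]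
    rfl
  let k := kernel.lift (cokernel.π (eM X)) ((H18Et.FreeSheaf.homEquiv V (PM X)).symm a) h0
  let b : EtCoh.sect (kernel (cokernel.π (eM X))) V := H18Et.FreeSheaf.homEquiv V _ k
  let l := kernel.lift (cokernel.π (eM X)) (eM X) (cokernel.condition _)
  haveI : Epi l := (ShortComplex.exact_iff_epi_kernel_lift _).1 (ShortComplex.exact_cokernel (eM X))
  haveI : Sheaf.IsLocallySurjective l := (Sheaf.isLocallySurjective_iff_epi' _ l).2 inferInstance
  obtain ⟨W, g, w, ⟨u, hu⟩, hw⟩ := H18Et.Subterminal.exists_mem_of_cover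
    (Presheaf.imageSieve_mem _ l.hom b) v
  obtain ⟨u, rfl⟩ := sec_surjective u
  refine ⟨W, g, w, u, hw, ?_⟩
  have e1 : (eM X).hom.app (op W) (sec u) = (kernel.ι (cokernel.π (eM X))).hom.app (op W) (l.hom.app (op W) (sec u)) := by
    rw [← ConcreteCategory.comp_apply, ← NatTrans.comp_app, ← ObjectProperty.FullSubcategory.comp_hom,
      kernel.lift_ι]
  rw [e1, hu, app_res]
  congr 1
  rw [← H18Et.FreeSheaf.homEquiv_comp, kernel.lift_ι, Equiv.apply_symm_apply]

variable (X) in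
/-- Functions vanishing at the maximal generalisations vanish. -/
def SepMax : Prop :=
  ∀ (V : X.Etale) (v : V.left) (A : Γ(V.left, ⊤)),
    (∀ w, IsMaxPt w → V.left.presheaf.germ ⊤ w trivial A = 0) → V.left.presheaf.germ ⊤ v trivial A = 0

theorem mono_eM (h : SepMax X) : Mono (eM X) := by
  refine Sheaf.mono_of_injective _ fun V s t hst => ?_
  obtain ⟨a, rfl⟩ := sec_surjective (U := V.unop) s
  obtain ⟨b, rfl⟩ := sec_surjective (U := V.unop) t
  rw [eM_sec, eM_sec] at hst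
  refine congrArg (sec (U := V.unop)) (Units.ext ?_)
  refine TopCat.Presheaf.section_ext V.unop.left.sheaf ⊤ _ _ fun v _ => ?_
  refine sub_eq_zero.1 ((map_sub _ _ _).symm.trans (h V.unop v _ fun w hw => ?_))
  rw [map_sub]
  exact sub_eq_zero.2 (germ_eq_of_psec_eq _ _ hst w hw)

end Groth.Agent.H05EGA4.EtCl
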