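import Groth.Agent.H15Site.Shriek.Coprod
import Groth.Agent.H18Et.Coh.Colimit
import Groth.Agent.H18Et.FreeSheaf
import Mathlib.CategoryTheory.Limits.Constructions.Filtered

/-!
# Sheaves which are direct sums of their components

A sheaf with a family of maps to sheaves `G k` is their direct sum if the maps are jointly
injective, every section has locally finitely many components and single components lift locally.
-/

set_option autoImplicit false
set_option linter.style.haveILetI false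
set_option linter.unusedSectionVars false
set_option linter.overlappingInstances false
set_option backward.isDefEq.respectTransparency false
set_option backward.isDefEq.respectTransparency.types false

universe u

open CategoryTheory CategoryTheory.Limits AlgebraicGeometry Opposite

namespace Groth.Agent.H05EGA4.EtCl

open Groth.Agent.H18Et
open scoped Groth.Agent.H18Et

variable {X : Scheme.{u}}

theorem res_comp (F : EtCoh.Ab X) {U V W : X.Etale} (g : V ⟶ U) (h : W ⟶ V) (s : EtCoh.sect F U) :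
    F.obj.map h.op (F.obj.map g.op s) = F.obj.map (h ≫ g).op s := by
  rw [op_comp, Functor.map_comp_apply]

theorem app_res {F G : EtCoh.Ab X} (α : F ⟶ G) {U V : X.Etale} (g : V ⟶ U) (s : EtCoh.sect F U) :
    α.hom.app (op V) (F.obj.map g.op s) = G.obj.map g.op (α.hom.app (op U) s) :=
  NatTrans.naturality_apply α.hom g.op s

/-- Morphisms out of free sheaves are determined by, and determine, sections. -/
theorem homEquiv_symm_comp {U : X.Etale} {F G : EtCoh.Ab X} (s : EtCoh.sect F U) (α : F ⟶ G) :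
    (FreeSheaf.homEquiv U F).symm s ≫ α = (FreeSheaf.homEquiv U G).symm (α.hom.app (op U) s) := by
  apply (FreeSheaf.homEquiv U G).injective
  rw [FreeSheaf.homEquiv_comp, Equiv.apply_symm_apply, Equiv.apply_symm_apply]

theorem pi_sect_ext {ι : Type*} (G : ι → EtCoh.Ab X) [HasProduct G] {U : X.Etale} (a b : EtCoh.sect (∏ᶜ G) U)
    (h : ∀ k, (Pi.π G k).hom.app (op U) a = (Pi.π G k).hom.app (op U) b) : a = b := by
  apply (FreeSheaf.homEquiv U (∏ᶜ G)).symm.injective
  refine Pi.hom_ext _ _ fun k => ?_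
  rw [homEquiv_symm_comp, homEquiv_symm_comp, h k]

theorem exists_pi_sect {ι : Type*} (G : ι → EtCoh.Ab X) [HasProduct G] {U : X.Etale} (a : ∀ k, EtCoh.sect (G k) U) :
    ∃ s : EtCoh.sect (∏ᶜ G) U, ∀ k, (Pi.π G k).hom.app (op U) s = a k := by
  refine ⟨FreeSheaf.homEquiv U _ (Pi.lift fun k => (FreeSheaf.homEquiv U (G k)).symm (a k)), fun k => ?_⟩
  rw [← FreeSheaf.homEquiv_comp, Pi.lift_π, Equiv.apply_symm_apply]

theorem exists_pullback_sect {F G P : EtCoh.Ab X} (α : F ⟶ P) (β : G ⟶ P) {U : X.Etale} (s : EtCoh.sect F U)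
    (t : EtCoh.sect G U) (h : α.hom.app (op U) s = β.hom.app (op U) t) :
    ∃ p : EtCoh.sect (pullback α β) U,
      (pullback.fst α β).hom.app (op U) p = s ∧ (pullback.snd α β).hom.app (op U) p = t := by
  refine ⟨FreeSheaf.homEquiv U _ (pullback.lift ((FreeSheaf.homEquiv U F).symm s) ((FreeSheaf.homEquiv U G).symm t)
    (by rw [homEquiv_symm_comp, homEquiv_symm_comp, h])), ?_, ?_⟩
  · rw [← FreeSheaf.homEquiv_comp, pullback.lift_fst, Equiv.apply_symm_apply]
  · rw [← FreeSheaf.homEquiv_comp, pullback.lift_snd, Equiv.apply_symm_apply]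

theorem epi_of_local {F G : EtCoh.Ab X} (α : F ⟶ G)
    (h : ∀ (V : X.Etale) (s : EtCoh.sect G V) (v : V.left), ∃ (V' : X.Etale) (g : V' ⟶ V) (v' : V'.left)
      (t : EtCoh.sect F V'), g.left v' = v ∧ α.hom.app (op V') t = G.obj.map g.op s) : Epi α := by
  haveI : Sheaf.IsLocallySurjective α := by
    refine ⟨fun {V} s => mem_topology_of_forall_point _ fun v => ?_⟩
    obtain ⟨V', g, v', t, hv, ht⟩ := h V s v
    exact ⟨V', g, v', ⟨t, ht⟩, hv⟩
  exact Sheaf.epi_of_isLocallySurjective α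

theorem mono_of_eq_zero {F G : EtCoh.Ab X} (α : F ⟶ G)
    (h : ∀ (V : X.Etale) (s : EtCoh.sect F V), α.hom.app (op V) s = 0 → s = 0) : Mono α := by
  refine Sheaf.mono_of_injective _ fun V s t hst => ?_
  refine sub_eq_zero.1 (h V.unop (s - t) ?_)
  rw [map_sub]
  exact sub_eq_zero.2 hst

/-- Existence of a neighbourhood on which all of finitely many local properties hold. -/
theorem exists_common_nbhd {ι : Type*} {V : X.Etale} (v : V.left) (Q : ι → ∀ (V' : X.Etale), (V' ⟶ V) → Prop)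
    (hQ : ∀ k V' (g : V' ⟶ V) V'' (h : V'' ⟶ V'), Q k V' g → Q k V'' (h ≫ g)) (S : Finset ι)
    (hS : ∀ k ∈ S, ∃ (V' : X.Etale) (g : V' ⟶ V) (v' : V'.left), g.left v' = v ∧ Q k V' g) :
    ∃ (V' : X.Etale) (g : V' ⟶ V) (v' : V'.left), g.left v' = v ∧ ∀ k ∈ S, Q k V' g := by
  classical
  induction S using Finset.induction with
  | empty => exact ⟨V, 𝟙 V, v, rfl, by simp⟩
  | insert a S ha ih =>
    obtain ⟨V₁, g₁, v₁, h₁, hQ₁⟩ := ih fun k hk => hS k (Finset.mem_insert_of_mem hk)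
    obtain ⟨V₂, g₂, v₂, h₂, hQ₂⟩ := hS a (Finset.mem_insert_self _ _)
    let ξ := geomPt (V.hom v)
    obtain ⟨z, hz⟩ := exists_fiber_over v ξ (geomPt_base _)
    obtain ⟨y₁, hy₁⟩ := exists_fiber_lift g₁ z v₁ (h₁.trans hz.symm)
    obtain ⟨y₂, hy₂⟩ := exists_fiber_lift g₂ z v₂ (h₂.trans hz.symm)
    obtain ⟨⟨Z, ζ⟩, ⟨a₁, ha₁⟩, ⟨a₂, ha₂⟩, -⟩ := IsCofilteredOrEmpty.cone_objs
      (C := (Scheme.pointSmallEtale ξ).fiber.Elements) ⟨V₁, y₁⟩ ⟨V₂, y₂⟩
    dsimp at a₁ a₂ ha₁ ha₂
    obtain ⟨W, b, w, hw, hb⟩ : ∃ (W : X.Etale) (b : W ⟶ Z) (w : (Scheme.pointSmallEtale ξ).fiber.obj W),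
        (Scheme.pointSmallEtale ξ).fiber.map b w = ζ ∧ b ≫ a₁ ≫ g₁ = b ≫ a₂ ≫ g₂ := by
      let F₀ := (Scheme.pointSmallEtale ξ).fiber
      let pZ : F₀.Elements := Functor.elementsMk F₀ Z ζ
      let pV : F₀.Elements := Functor.elementsMk F₀ V z
      let f₁ : pZ ⟶ pV := CategoryOfElements.homMk pZ pV (a₁ ≫ g₁) (by
        show F₀.map (a₁ ≫ g₁) ζ = z
        rw [Functor.map_comp, ConcreteCategory.comp_apply]
        exact (congrArg _ ha₁).trans hy₁)
      let f₂ : pZ ⟶ pV := CategoryOfElements.homMk pZ pV (a₂ ≫ g₂) (by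
        show F₀.map (a₂ ≫ g₂) ζ = z
        rw [Functor.map_comp, ConcreteCategory.comp_apply]
        exact (congrArg _ ha₂).trans hy₂)
      obtain ⟨W, b, he⟩ := IsCofilteredOrEmpty.cone_maps f₁ f₂
      exact ⟨W.1, b.1, W.2, b.2, congrArg Subtype.val he⟩
    refine ⟨W, b ≫ a₁ ≫ g₁, ptOf w, ?_, fun k hk => ?_⟩
    · refine (ptOf_map (b ≫ a₁ ≫ g₁) w).trans ((congrArg ptOf ?_).trans hz)
      simp only [Functor.map_comp, ConcreteCategory.comp_apply]
      exact (congrArg _ ((congrArg _ hw).trans ha₁)).trans hy₁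
    · rcases Finset.mem_insert.1 hk with rfl | hk
      · rw [hb, ← Category.assoc]
        exact hQ _ _ _ _ _ hQ₂
      · rw [← Category.assoc]
        exact hQ _ _ _ _ _ (hQ₁ k hk)

variable {ι : Type (u + 1)} (F : EtCoh.Ab X) (G : ι → EtCoh.Ab X) (π : ∀ k, F ⟶ G k)

/-- Sections of a sum are locally finite sums. -/
theorem exists_local_sum [DecidableEq ι] {V : X.Etale} (t : EtCoh.sect (∐ G) V) (v : V.left) :
    ∃ (V' : X.Etale) (g : V' ⟶ V) (v' : V'.left) (S : Finset ι), g.left v' = v ∧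
      ∀ k ∉ S, (Sigma.π G k).hom.app (op V') ((∐ G).obj.map g.op t) = 0 := by
  obtain ⟨S, O, hvO, hO⟩ := Groth.Agent.H15Site.Shriek.exists_finite_support G t v
  let V' : X.Etale :=
    haveI : Etale V.hom := V.prop
    Scheme.Etale.mk (O.ι ≫ V.hom)
  let g : V' ⟶ V := MorphismProperty.Over.homMk O.ι rfl trivial
  refine ⟨V', g, ⟨v, hvO⟩, S, rfl, fun k hk => ?_⟩
  rw [app_res]
  exact (map_eq_zero_iff_range_subset (G k) _ g).2 (by
    rintro _ ⟨y, rfl⟩
    exact hO k hk _ y.2)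

theorem sigma_ι_π [DecidableEq ι] {V : X.Etale} (k l : ι) (c : EtCoh.sect (G k) V) :
    (Sigma.π G l).hom.app (op V) ((Sigma.ι G k).hom.app (op V) c) =
      if h : k = l then (eqToHom (congrArg G h)).hom.app (op V) c else 0 := by
  rw [← ConcreteCategory.comp_apply, ← NatTrans.comp_app, ← ObjectProperty.FullSubcategory.comp_hom]
  split_ifs with h
  · subst h
    rw [Sigma.ι_π_eq_id]
    rfl
  · rw [Sigma.ι_π_of_ne _ h]
    rfl

/-- The criterion. -/
theorem nonempty_iso_coprod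
    (inj : ∀ (V : X.Etale) (s : EtCoh.sect F V), (∀ k, (π k).hom.app (op V) s = 0) → s = 0)
    (fin : ∀ (V : X.Etale) (s : EtCoh.sect F V) (v : V.left), ∃ (V' : X.Etale) (g : V' ⟶ V) (v' : V'.left)
      (S : Finset ι), g.left v' = v ∧ ∀ k ∉ S, (π k).hom.app (op V') (F.obj.map g.op s) = 0)
    (real : ∀ (k : ι) (V : X.Etale) (c : EtCoh.sect (G k) V) (v : V.left), ∃ (V' : X.Etale) (g : V' ⟶ V)
      (v' : V'.left) (s : EtCoh.sect F V'), g.left v' = v ∧
        (π k).hom.app (op V') s = (G k).obj.map g.op c ∧ ∀ l, l ≠ k → (π l).hom.app (op V') s = 0) :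
    Nonempty (F ≅ ∐ G) := by
  classical
  let D : F ⟶ ∏ᶜ G := Pi.lift π
  let E : (∐ G) ⟶ ∏ᶜ G := Pi.lift fun k => Sigma.π G k
  have hD : ∀ {V : X.Etale} (s : EtCoh.sect F V) (k : ι),
      (Pi.π G k).hom.app (op V) (D.hom.app (op V) s) = (π k).hom.app (op V) s := fun {V} s k => by
    rw [← ConcreteCategory.comp_apply, ← NatTrans.comp_app, ← ObjectProperty.FullSubcategory.comp_hom, Pi.lift_π]
  have hE : ∀ {V : X.Etale} (t : EtCoh.sect (∐ G) V) (k : ι),
      (Pi.π G k).hom.app (op V) (E.hom.app (op V) t) = (Sigma.π G k).hom.app (op V) t := fun {V} t k => by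
    rw [← ConcreteCategory.comp_apply, ← NatTrans.comp_app, ← ObjectProperty.FullSubcategory.comp_hom, Pi.lift_π]
  haveI : Mono D := mono_of_eq_zero _ fun V s hs => inj V s fun k => by rw [← hD, hs, map_zero]
  haveI : Mono E := mono_of_eq_zero _ fun V s hs =>
    Groth.Agent.H15Site.Shriek.eq_zero_of_proj G s fun k => by rw [← hE, hs, map_zero]
  haveI : Epi (pullback.fst D E) := epi_of_local _ fun V s v => by
    obtain ⟨V', g, v', S, hv, hS⟩ := fin V s v
    let t : EtCoh.sect (∐ G) V' :=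
      ∑ k ∈ S, (Sigma.ι G k).hom.app (op V') ((π k).hom.app (op V') (F.obj.map g.op s))
    obtain ⟨p, hp, -⟩ := exists_pullback_sect D E (F.obj.map g.op s) t (pi_sect_ext _ _ _ fun l => by
      rw [hD, hE, map_sum]
      simp only [sigma_ι_π]
      by_cases hl : l ∈ S
      · rw [Finset.sum_eq_single l (fun k _ hk => dif_neg hk) (fun hn => absurd hl hn), dif_pos rfl]
        rfl
      · rw [Finset.sum_eq_zero fun k hk => dif_neg fun e => hl (by rwa [← e]), hS l hl])
    exact ⟨V', g, v', p, hv, hp⟩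
  haveI : Epi (pullback.snd D E) := epi_of_local _ fun V t v => by
    obtain ⟨V₁, g₁, v₁, S, hv₁, hS⟩ := exists_local_sum G t v
    let c := fun k => (Sigma.π G k).hom.app (op V₁) ((∐ G).obj.map g₁.op t)
    let Q : ι → ∀ (V' : X.Etale), (V' ⟶ V₁) → Prop := fun k V' g => ∃ s : EtCoh.sect F V',
      (π k).hom.app (op V') s = (G k).obj.map g.op (c k) ∧ ∀ l, l ≠ k → (π l).hom.app (op V') s = 0
    obtain ⟨V', g, v', hv', hQ⟩ := exists_common_nbhd v₁ Q (fun k V' g V'' h => by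
      rintro ⟨s, hs, hs'⟩
      refine ⟨F.obj.map h.op s, ?_, fun l hl => ?_⟩
      · rw [app_res, hs, res_comp]
      · rw [app_res, hs' l hl, map_zero]) S fun k _ => by
      obtain ⟨V', g, v', s, hv', hs, hs'⟩ := real k V₁ (c k) v₁
      exact ⟨V', g, v', hv', s, hs, hs'⟩
    choose s hs hs' using hQ
    let s₀ : EtCoh.sect F V' := ∑ k ∈ S.attach, s k.1 k.2
    obtain ⟨p, -, hp⟩ := exists_pullback_sect D E s₀ ((∐ G).obj.map (g ≫ g₁).op t) (pi_sect_ext _ _ _ fun l => by
      rw [hD, hE, map_sum, ← res_comp, app_res]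
      by_cases hl : l ∈ S
      · rw [Finset.sum_eq_single ⟨l, hl⟩ (fun k _ hk => hs' k.1 k.2 l fun e => hk (Subtype.ext e.symm))
          (fun hn => absurd (Finset.mem_attach _ _) hn)]
        exact hs l hl
      · rw [Finset.sum_eq_zero fun k _ => hs' k.1 k.2 l fun e => hl (e ▸ k.2), hS l hl, map_zero])
    exact ⟨V', g ≫ g₁, v', p, (show g₁.left (g.left v') = v by rw [hv', hv₁]), hp⟩
  haveI := isIso_of_mono_of_epi (pullback.fst D E)
  haveI := isIso_of_mono_of_epi (pullback.snd D E)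
  exact ⟨(asIso (pullback.fst D E)).symm ≪≫ asIso (pullback.snd D E)⟩

variable [CompactSpace X] [QuasiSeparatedSpace X]

open scoped Groth.Agent.H18Et.CohColim in
/-- Classes of a sum are finite sums of classes. -/
theorem H_sum_surj [DecidableEq ι] (n : ℕ) (x : EtCoh.H X (∐ G) n) :
    ∃ (S : Finset ι) (y : ∀ k, EtCoh.H X (G k) n), x = ∑ k ∈ S, Sheaf.H.map (Sigma.ι G k) n (y k) := by
  classical
  let J := Finset (Discrete ι)
  let K := CoproductsFromFiniteFiltered.liftToFinsetObj (Discrete.functor G)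
  let e : colimit K ≅ ∐ G := IsColimit.coconePointUniqueUpToIso (colimit.isColimit K)
    (CoproductsFromFiniteFiltered.isColimitFiniteSubproductsCocone G)
  obtain ⟨j, z, hz⟩ := (CohColim.hSurj_hInj n K).1 (Sheaf.H.map e.inv n x)
  let q : K.obj j ⟶ ∐ G := (CoproductsFromFiniteFiltered.finiteSubcoproductsCocone G).ι.app j
  have hq : ∀ s : j, (Sigma.ι (fun s : j => (Discrete.functor G).obj s.1) s : (Discrete.functor G).obj s.1 ⟶ K.obj j) ≫ q =
      Sigma.ι G s.1.as := fun s => Sigma.ι_desc _ _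
  have hcomp : colimit.ι K j ≫ e.hom = q := IsColimit.comp_coconePointUniqueUpToIso_hom _ _ j
  have hx : x = Sheaf.H.map q n z := by
    refine Eq.trans ?_ (congrArg (fun k => Sheaf.H.map k n z) hcomp)
    refine Eq.trans ?_ (Sheaf.H.map_comp_apply (colimit.ι K j) e.hom z).symm
    refine Eq.trans ?_ (congrArg (Sheaf.H.map e.hom n) hz).symm
    refine Eq.trans ?_ (Sheaf.H.map_comp_apply e.inv e.hom x)
    rw [e.inv_hom_id, Sheaf.H.map_id_apply]
  let S : Finset ι := j.image Discrete.as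
  have hdec : q = ∑ k ∈ S, (q ≫ Sigma.π G k) ≫ Sigma.ι G k := by
    show (q : (∐ fun s : j => (Discrete.functor G).obj s.1) ⟶ ∐ G) = _
    refine Sigma.hom_ext _ _ fun s => ?_
    refine (hq s).trans (Eq.trans ?_ (Preadditive.comp_sum _ _ _).symm)
    have key : ∀ k, (Sigma.ι (fun s : j => (Discrete.functor G).obj s.1) s : (Discrete.functor G).obj s.1 ⟶ K.obj j) ≫
        (q ≫ Sigma.π G k) ≫ Sigma.ι G k = (Sigma.ι G s.1.as ≫ Sigma.π G k) ≫ Sigma.ι G k := fun k => by
      simp only [← Category.assoc]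
      rw [hq s]
    refine Eq.symm ((Finset.sum_congr rfl fun k _ => key k).trans ?_)
    rw [Finset.sum_eq_single s.1.as (fun k _ hk => by rw [Sigma.ι_π_of_ne _ hk.symm, zero_comp])
      (fun hn => absurd (Finset.mem_image_of_mem _ s.2) hn), Sigma.ι_π_eq_id, Category.id_comp]
  refine ⟨S, fun k => Sheaf.H.map (q ≫ Sigma.π G k) n z, ?_⟩
  let L : (K.obj j ⟶ ∐ G) →+ EtCoh.H X (∐ G) n :=
    AddMonoidHom.mk' (fun k => Sheaf.H.map k n z) fun a b => Sheaf.H.map_add_apply a b z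
  refine hx.trans ((congrArg L hdec).trans ((map_sum L _ _).trans (Finset.sum_congr rfl fun k _ => ?_)))
  exact Sheaf.H.map_comp_apply (q ≫ Sigma.π G k) (Sigma.ι G k) z

theorem exists_nsmul_H_coprod (n : ℕ) (h : ∀ k (y : EtCoh.H X (G k) n), ∃ m, 0 < m ∧ m • y = 0)
    (x : EtCoh.H X (∐ G) n) : ∃ m, 0 < m ∧ m • x = 0 := by
  classical
  obtain ⟨S, y, rfl⟩ := H_sum_surj G n x
  choose m hm hm0 using h
  refine ⟨∏ k ∈ S, m k (y k), Finset.prod_pos fun k _ => hm k (y k), ?_⟩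
  rw [Finset.smul_sum]
  refine Finset.sum_eq_zero fun k hk => ?_
  obtain ⟨c, hc⟩ := Finset.dvd_prod_of_mem (fun k => m k (y k)) hk
  rw [hc, mul_comm, mul_smul, ← map_nsmul, hm0, map_zero, smul_zero]

theorem subsingleton_H_coprod (n : ℕ) (h : ∀ k, Subsingleton (EtCoh.H X (G k) n)) :
    Subsingleton (EtCoh.H X (∐ G) n) := by
  classical
  refine subsingleton_of_forall_eq 0 fun x => ?_
  obtain ⟨S, y, rfl⟩ := H_sum_surj G n x
  refine Finset.sum_eq_zero fun k _ => ?_
  rw [(h k).elim (y k) 0, map_zero]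

end Groth.Agent.H05EGA4.EtCl
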