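import Groth.Agent.H05EGA4.EtCl.Primary
import Groth.Agent.H05EGA4.EtCl.Lifts
import Groth.Agent.H15Site.SpecArrows
import Groth.Agent.H7CDiv.Stalks
import Groth.Agent.S2817
import Groth.Prelude.Def_Cyc

/-!
# The fibres of strict localisations over the points
-/

set_option autoImplicit false
set_option linter.style.haveILetI false
set_option linter.unusedSectionVars false
set_option linter.overlappingInstances false
set_option backward.isDefEq.respectTransparency false
set_option backward.isDefEq.respectTransparency.types false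

universe u

open CategoryTheory CategoryTheory.Limits AlgebraicGeometry Opposite TensorProduct

namespace Groth.Agent.H05EGA4.EtCl

/-- Pullbacks do not see monomorphisms. -/
noncomputable def pullbackCompMono {A B C S : Scheme.{u}} (a : A ⟶ C) (b : B ⟶ C) (m : C ⟶ S) [Mono m] :
    pullback (a ≫ m) (b ≫ m) ≅ pullback a b where
  hom := pullback.lift (pullback.fst _ _) (pullback.snd _ _)
    ((cancel_mono m).1 (by simpa only [Category.assoc] using pullback.condition (f := a ≫ m) (g := b ≫ m)))
  inv := pullback.lift (pullback.fst _ _) (pullback.snd _ _) (by rw [pullback.condition_assoc])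
  hom_inv_id := pullback.hom_ext (by simp) (by simp)
  inv_hom_id := pullback.hom_ext (by simp) (by simp)

variable {X : Scheme.{u}} {x y : X}

theorem fromSpecResidueField_eq (h : x ⤳ y) :
    X.fromSpecResidueField x = Spec.map (CommRingCat.ofHom (Cyc.specMap y x h)) ≫ X.fromSpecStalk y := by
  rw [Scheme.fromSpecResidueField, ← Scheme.SpecMap_stalkSpecializes_fromSpecStalk h, ← Category.assoc, ← Spec.map_comp]
  rfl

theorem exists_mul_specMap (h : x ⤳ y) (a : X.residueField x) :
    ∃ s t, t ∉ RingHom.ker (Cyc.specMap y x h) ∧ a * Cyc.specMap y x h t = Cyc.specMap y x h s := by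
  obtain ⟨b, rfl⟩ := X.residue_surjective x a
  letI := (X.presheaf.stalkSpecializes h).hom.toAlgebra
  haveI := H7CDiv.isLocalization_stalkSpecializes h
  obtain ⟨⟨s, t⟩, hst⟩ := IsLocalization.surj (M := (H7CDiv.primeOf h).asIdeal.primeCompl) b
  refine ⟨s, t.1, fun ht => t.2 ?_, ?_⟩
  · show (X.presheaf.stalkSpecializes h).hom t.1 ∈ IsLocalRing.maximalIdeal _
    exact (IsLocalRing.residue_eq_zero_iff _).1 ht
  · exact ((map_mul (X.residue x).hom b _).symm).trans (congrArg (X.residue x).hom hst)

/-- The fibre over `x` of a strict localisation at `y` consists of finitely many reduced points, at the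
primes minimal over that of `x`. -/
theorem strictFibre_props [IsLocallyNoetherian X] (h : x ⤳ y) (R : Type u) [CommRing R] [IsLocalRing R]
    [Algebra (X.presheaf.stalk y) R] [IsLocalHom (algebraMap (X.presheaf.stalk y) R)]
    [Hensel.IsStrictHenselization (X.presheaf.stalk y) R] :
    AlgebraicGeometry.IsNoetherian (pullback (X.fromSpecResidueField x) (Hens2.specOf X y R)) ∧
      ∀ z : ↥(pullback (X.fromSpecResidueField x) (Hens2.specOf X y R)),
        IsClosed ({z} : Set ↥(pullback (X.fromSpecResidueField x) (Hens2.specOf X y R))) ∧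
        ((pullback.snd (X.fromSpecResidueField x) (Hens2.specOf X y R)) z).asIdeal ∈
          ((RingHom.ker (Cyc.specMap y x h)).map (algebraMap (X.presheaf.stalk y) R)).minimalPrimes := by
  let φ := Cyc.specMap y x h
  let p := RingHom.ker φ
  haveI : p.IsPrime := RingHom.ker_isPrime φ
  obtain ⟨n, K, _, _, -, ⟨eK⟩⟩ := Groth.Agent.S2817.result (X.presheaf.stalk y) R p
  letI : Algebra (X.presheaf.stalk y) (X.residueField x) := φ.toAlgebra
  have hker : p ≤ RingHom.ker (algebraMap (X.presheaf.stalk y) (X.residueField x)) := le_rfl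
  let ψ : p.ResidueField →ₐ[X.presheaf.stalk y] X.residueField x :=
    Ideal.ResidueField.liftₐ p (Algebra.ofId _ _) hker (fun a ha => Ne.isUnit fun h0 => ha h0)
  have hψ : Function.Bijective ψ := by
    refine ⟨ψ.toRingHom.injective, fun a => ?_⟩
    obtain ⟨s, t, ht, hst⟩ := exists_mul_specMap h a
    refine ⟨algebraMap _ _ s / algebraMap _ _ t, ?_⟩
    rw [map_div₀, AlgHom.commutes, AlgHom.commutes]
    exact (div_eq_iff (b := φ t) fun h0 => ht h0).2 hst.symm
  let eT : (X.residueField x ⊗[X.presheaf.stalk y] R) ≃+* (Π i, K i) :=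
    (Algebra.TensorProduct.congr (AlgEquiv.ofBijective ψ hψ).symm AlgEquiv.refl).toRingEquiv.trans eK.toRingEquiv
  let e : pullback (X.fromSpecResidueField x) (Hens2.specOf X y R) ≅ Spec (CommRingCat.of (Π i, K i)) :=
    pullback.congrHom (fromSpecResidueField_eq h) rfl ≪≫ pullbackCompMono _ _ _ ≪≫
      pullbackSpecIso (X.presheaf.stalk y) (X.residueField x) R ≪≫ Scheme.Spec.mapIso eT.symm.toCommRingCatIso.op
  haveI : IsArtinianRing (Π i, K i) := inferInstance
  haveI hN : AlgebraicGeometry.IsNoetherian (pullback (X.fromSpecResidueField x) (Hens2.specOf X y R)) := by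
    haveI : IsLocallyNoetherian (pullback (X.fromSpecResidueField x) (Hens2.specOf X y R)) :=
      isLocallyNoetherian_of_isOpenImmersion e.hom
    haveI : CompactSpace ↥(pullback (X.fromSpecResidueField x) (Hens2.specOf X y R)) :=
      e.hom.homeomorph.symm.compactSpace
    exact {}
  have hcl : ∀ z : ↥(pullback (X.fromSpecResidueField x) (Hens2.specOf X y R)),
      IsClosed ({z} : Set ↥(pullback (X.fromSpecResidueField x) (Hens2.specOf X y R))) := fun z => by
    haveI : DiscreteTopology (Spec (CommRingCat.of (Π i, K i))) := inferInstanceAs (DiscreteTopology (PrimeSpectrum _))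
    have h1 := (isClosed_discrete ({e.hom z} : Set (Spec (CommRingCat.of (Π i, K i))))).preimage e.hom.continuous
    rwa [show e.hom.base ⁻¹' {e.hom z} = {z} from
      Set.ext fun w => ⟨fun hw => e.hom.homeomorph.injective hw, fun hw => congrArg e.hom hw⟩] at h1
  refine ⟨hN, fun z => ⟨hcl z, ?_⟩⟩
  let f₁ := X.fromSpecResidueField x
  let b := Spec.map (CommRingCat.ofHom (algebraMap (X.presheaf.stalk y) R))
  let P := (pullback.snd f₁ (Hens2.specOf X y R)) z
  have hcomap : ∀ z' : ↥(pullback f₁ (Hens2.specOf X y R)),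
      ((pullback.snd f₁ (Hens2.specOf X y R)) z').asIdeal.comap (algebraMap (X.presheaf.stalk y) R) = p := fun z' => by
    have h1 : (X.fromSpecStalk y) (b ((pullback.snd f₁ (Hens2.specOf X y R)) z')) =
        (X.fromSpecStalk y) ((Spec.map (CommRingCat.ofHom φ)) ((pullback.fst f₁ (Hens2.specOf X y R)) z')) := by
      show (pullback.snd f₁ (Hens2.specOf X y R) ≫ b ≫ X.fromSpecStalk y) z' =
        (pullback.fst f₁ (Hens2.specOf X y R) ≫ Spec.map (CommRingCat.ofHom φ) ≫ X.fromSpecStalk y) z'
      refine congrArg (fun k : pullback f₁ (Hens2.specOf X y R) ⟶ X => k z') ?_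
      refine pullback.condition.symm.trans ?_
      exact congrArg (pullback.fst f₁ (Hens2.specOf X y R) ≫ ·) (fromSpecResidueField_eq h)
    have h2 := (X.fromSpecStalk y).isEmbedding.injective h1
    refine (congrArg PrimeSpectrum.asIdeal h2).trans ?_
    show Ideal.comap φ ((pullback.fst f₁ (Hens2.specOf X y R)) z').asIdeal = p
    rw [(Ideal.eq_bot_or_top ((pullback.fst f₁ (Hens2.specOf X y R)) z').asIdeal).resolve_right
      ((pullback.fst f₁ (Hens2.specOf X y R)) z').isPrime.ne_top]
    rfl
  refine ⟨⟨P.isPrime, Ideal.map_le_iff_le_comap.2 (hcomap z).ge⟩, fun Q hQ hQP => ?_⟩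
  haveI := hQ.1
  have hQc : Q.comap (algebraMap (X.presheaf.stalk y) R) = p :=
    le_antisymm ((Ideal.comap_mono hQP).trans (hcomap z).le) (Ideal.map_le_iff_le_comap.1 hQ.2)
  have hmem : (Hens2.specOf X y R) ⟨Q, hQ.1⟩ = x := by
    refine Eq.trans ?_ (X.fromSpecResidueField_apply x (IsLocalRing.closedPoint _))
    rw [fromSpecResidueField_eq h, Scheme.Hom.comp_apply, Scheme.Hom.comp_apply]
    refine congrArg (X.fromSpecStalk y) (PrimeSpectrum.ext ?_)
    refine hQc.trans ?_
    show p = Ideal.comap φ (IsLocalRing.maximalIdeal (X.residueField x))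
    rw [IsLocalRing.maximalIdeal_eq_bot]
    rfl
  obtain ⟨z', -, hz'⟩ := Scheme.Pullback.exists_preimage_pullback (f := f₁) (g := Hens2.specOf X y R)
    (IsLocalRing.closedPoint (X.residueField x)) ⟨Q, hQ.1⟩ ((X.fromSpecResidueField_apply x _).trans hmem.symm)
  have hsp : z' ⤳ z := by
    refine (pullback.snd f₁ (Hens2.specOf X y R)).isEmbedding.isInducing.specializes_iff.1 ?_
    rw [hz']
    exact (PrimeSpectrum.le_iff_specializes ⟨Q, hQ.1⟩ P).1 hQP
  have h4 : z ∈ closure ({z'} : Set _) := specializes_iff_mem_closure.1 hsp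
  rw [(hcl z').closure_eq] at h4
  rw [Set.mem_singleton_iff.1 h4, hz']

end Groth.Agent.H05EGA4.EtCl
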