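import Groth.Agent.H05EGA4.EtCl.FactorialSum
import Groth.Agent.H18Et.ConstHom

/-!
# The classes at a point of height one form the constant sheaf `ℤ`
-/

set_option autoImplicit false
set_option linter.style.haveILetI false
set_option linter.unusedSectionVars false
set_option linter.overlappingInstances false
set_option backward.isDefEq.respectTransparency false
set_option backward.isDefEq.respectTransparency.types false

universe u

open CategoryTheory CategoryTheory.Limits AlgebraicGeometry Opposite TopologicalSpace IsLocalRing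

namespace Groth.Agent.H05EGA4.EtCl

open Groth.Agent.H18Et
open scoped Groth.Agent.H18Et

variable {X : Scheme.{u}} [IsLocallyNoetherian X]

theorem eq_zero_of_zsmul_clM (hF : Factorial X) {W : X.Etale} {t : Γ(W.left, ⊤)} {z : W.left} (ht : IsEq W t z)
    (m : ℤ) (h : z ∉ EtShriek.sectSupp (ClM X) W (m • clM W ht.maxUnit)) : m = 0 := by
  suffices key : ∀ i : ℕ, z ∉ EtShriek.sectSupp (ClM X) W ((i : ℤ) • clM W ht.maxUnit) → i = 0 by
    rcases Int.eq_nat_or_neg m with ⟨i, rfl | rfl⟩
    · rw [key i h, Nat.cast_zero]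
    · have h' := notMem_supp_neg h
      rw [neg_smul, neg_neg] at h'
      rw [key i h', Nat.cast_zero, neg_zero]
  intro i hi
  haveI := (hF W z).1
  rw [← clM_pow] at hi
  have h1 : MaxUnit W (1 : Γ(W.left, ⊤)) := maxUnit_units W 1
  have h0 : clM W h1 = 0 := clM_units W 1
  have h' : AssocAt (t ^ i) (1 : Γ(W.left, ⊤)) z :=
    assoc_of_notMem_supp hF (maxUnit_pow ht.maxUnit i) h1 (by rw [h0, sub_zero]; exact hi)
  rw [AssocAt, map_one, associated_one_iff_isUnit, map_pow] at h'
  by_contra hne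
  have hu := (isUnit_pow_iff hne).1 h'
  have htop := ht.span.trans (Ideal.span_singleton_eq_top.2 hu)
  exact (maximalIdeal.isMaximal (W.left.presheaf.stalk z)).ne_top htop

/-- The classes at a point of height one. -/
theorem nonempty_pull_ClM_iso (hF : Factorial X) (x : X) (hx : ringKrullDim (X.presheaf.stalk x) = 1) :
    Nonempty (EtCoh.const (Spec (X.residueField x)) ℤ ≅ (EtCoh.pull (X.fromSpecResidueField x)).obj (ClM X)) := by
  let i := X.fromSpecResidueField x
  obtain ⟨O, hO, hxO, -⟩ := exists_isAffineOpen_mem_and_subset (U := (⊤ : X.Opens)) (x := x) trivial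
  let W := sub (EtCoh.top X) O
  haveI : IsAffine W.left := hO
  let w : W.left := ⟨x, hxO⟩
  have hw : HtOne W w := (htOne_iff W w).2 hx
  obtain ⟨O', -, hwO', t, ht'⟩ := exists_isEq hF W w w hw le_rfl
  let W' := sub W O'
  let z₀ : W'.left := ⟨w, hwO'⟩
  have ht : IsEq W' t z₀ := ht' z₀ rfl
  haveI : IsOpenImmersion W'.hom := inferInstanceAs (IsOpenImmersion (O'.ι ≫ O.ι ≫ 𝟙 X))
  have honly : ∀ z : W'.left, W'.hom z = x → z = z₀ := fun z hz =>
    W'.hom.isOpenEmbedding.injective (hz.trans (show x = W'.hom z₀ from rfl))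
  have hrange : Set.range i ⊆ Set.range W'.hom := by
    rw [Scheme.range_fromSpecResidueField]
    rintro _ rfl
    exact ⟨z₀, rfl⟩
  let l := IsOpenImmersion.lift W'.hom i hrange
  let τ : EtCoh.top (Spec (X.residueField x)) ⟶ (EtCoh.bc i).obj W' :=
    MorphismProperty.Over.homMk (pullback.lift l (𝟙 _)
      ((IsOpenImmersion.lift_fac W'.hom i hrange).trans (Category.id_comp _).symm)) (pullback.lift_snd _ _ _) trivial
  let S : EtCoh.sect ((EtCoh.pull i).obj (ClM X)) (EtCoh.top (Spec (X.residueField x))) :=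
    ((EtCoh.pull i).obj (ClM X)).obj.map τ.op (unit i (ClM X) W' (clM W' ht.maxUnit))
  let M := AddCommGrpCat.of (ULift.{u + 1} ℤ)
  let φ : M ⟶ ((EtCoh.pull i).obj (ClM X)).obj.obj (op (EtCoh.top (Spec (X.residueField x)))) :=
    AddCommGrpCat.ofHom ((zmultiplesHom _ S).comp AddEquiv.ulift.toAddMonoidHom)
  haveI : IsIso (ConstSheaf.homConst ((EtCoh.pull i).obj (ClM X)) φ) := by
    refine ConstSheaf.isIso_homConst _ φ ?_
    intro Ω _ _ ζ U y
    let y₁ := (Scheme.pointSmallEtale ζ).fiber.map τ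
      ((Scheme.pointSmallEtale ζ).fiber.map ((EtCore.topIsTerminal _).from U) y)
    let z₁ := (fiberCompIso i ζ).hom.app W' y₁
    have hz₁ : ptOf z₁ = z₀ := by
      refine honly _ ?_
      rw [ptOf_fiberComp, hom_fst]
      exact Set.mem_singleton_iff.1 ((Scheme.range_fromSpecResidueField (X := X) x).le ⟨_, rfl⟩)
    have key : (fun m : M => germ ζ ((EtCoh.pull i).obj (ClM X)) U y
          (ConstSheaf.rest ((EtCoh.pull i).obj (ClM X)) U (φ m))) =
        (fun p => (stalkPullIso i ζ).inv.app (ClM X) p) ∘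
          (fun m : ℤ => m • germ (ζ ≫ i) (ClM X) W' z₁ (clM W' ht.maxUnit)) ∘ (fun m : M => m.down) :=
      funext fun m => by
        show germ ζ ((EtCoh.pull i).obj (ClM X)) U y
          (ConstSheaf.rest ((EtCoh.pull i).obj (ClM X)) U (m.down • S)) = _
        rw [ConstSheaf.germ_rest ζ _ U y, map_zsmul, ConstSheaf.germ_map, germ_unit]
        exact (map_zsmul _ _ _).symm
    rw [key]
    refine (ConcreteCategory.bijective_of_isIso ((stalkPullIso i ζ).inv.app (ClM X))).comp
      (Function.Bijective.comp ⟨?_, fun p => ?_⟩ AddEquiv.ulift.bijective)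
    · intro a b hab
      have hh : ptOf z₁ ∉ EtShriek.sectSupp (ClM X) W' ((a - b) • clM W' ht.maxUnit) := by
        refine (germ_eq_zero_iff (ClM X) z₁ _).1 ?_
        rw [map_zsmul, sub_smul]
        exact sub_eq_zero.2 hab
      rw [hz₁] at hh
      exact sub_eq_zero.1 (eq_zero_of_zsmul_clM hF ht (a - b) hh)
    · obtain ⟨U', u', s, rfl⟩ := germ_surjective (ζ ≫ i) (ClM X) p
      obtain ⟨⟨Z, v⟩, ⟨a, ha⟩, ⟨b, hb⟩, -⟩ := IsCofilteredOrEmpty.cone_objs
        (C := (Scheme.pointSmallEtale (ζ ≫ i)).fiber.Elements) ⟨U', u'⟩ ⟨W', z₁⟩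
      dsimp at a b ha hb
      haveI := etale_left b
      have hbv : b.left (ptOf v) = z₀ := (ptOf_map b v).trans ((congrArg ptOf hb).trans hz₁)
      have hspan : maximalIdeal (Z.left.presheaf.stalk (ptOf v)) =
          Ideal.span {Z.left.presheaf.germ ⊤ (ptOf v) trivial (b.left.appTop t)} := by
        have hsp := ht.span
        rw [← hbv] at hsp
        rw [germ_appTop b.left (ptOf v), ← map_maximalIdeal_stalk b.left (ptOf v), hsp, Ideal.map_span,
          Set.image_singleton]
        rfl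
      obtain ⟨n, hn⟩ := exists_zsmul_near hF (ht.maxUnit.res b) hspan ((ClM X).obj.map a.op s)
      refine ⟨n, ?_⟩
      have h0 := (germ_eq_zero_iff (ClM X) v _).2 hn
      rw [map_sub, map_zsmul, ← res_clM, ConstSheaf.germ_map, ConstSheaf.germ_map, ha, hb, sub_eq_zero] at h0
      exact h0.symm
  exact ⟨asIso (ConstSheaf.homConst ((EtCoh.pull i).obj (ClM X)) φ)⟩

/-- The classes are the sum of constant sheaves at the points of height one. -/
theorem nonempty_iso_coprod_const (hF : Factorial X) :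
    Nonempty (ClM X ≅ ∐ fun x : {x : X // ringKrullDim (X.presheaf.stalk x) = 1} =>
      (EtCoh.push (X.fromSpecResidueField x.1)).obj (EtCoh.const (Spec (X.residueField x.1)) ℤ)) := by
  obtain ⟨e⟩ := nonempty_iso_coprod_factorial hF
  let G := fun x : {x : X // ringKrullDim (X.presheaf.stalk x) = 1} =>
    (EtCoh.push (X.fromSpecResidueField x.1)).obj (EtCoh.const (Spec (X.residueField x.1)) ℤ)
  let w : ∀ k : HPts X, G k.down ≅ HFac X k := fun k =>
    (EtCoh.push (X.fromSpecResidueField k.down.1)).mapIso (nonempty_pull_ClM_iso hF k.down.1 k.down.2).some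
  let e' : (∐ HFac X) ≅ ∐ G :=
    Sigma.whiskerEquiv (f := HFac X) (g := G) (Equiv.ulift : HPts X ≃ {x : X // ringKrullDim (X.presheaf.stalk x) = 1}) w
  exact ⟨e ≪≫ e'⟩

end Groth.Agent.H05EGA4.EtCl
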