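import Groth.Agent.H05EGA4.EtCl.Layers
import Groth.Agent.H05EGA4.EtCl.PushVanish
import Groth.Agent.H18Et.Coh.TorsionRpush
import Groth.Agent.H18Et.Cons.Criteria
import Groth.Agent.H15Site.IntDesc.PushH
import Groth.Prelude.Def_Dix

/-!
# Primary torsion sheaves
-/

set_option autoImplicit false
set_option linter.style.haveILetI false
set_option linter.unusedSectionVars false
set_option linter.overlappingInstances false
set_option backward.isDefEq.respectTransparency false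
set_option backward.isDefEq.respectTransparency.types false

universe u

open CategoryTheory CategoryTheory.Limits AlgebraicGeometry Opposite
open scoped Classical

namespace Groth.Agent.H05EGA4.EtCl

open Groth.Agent.H18Et
open scoped Groth.Agent.H18Et

variable {X Y : Scheme.{u}} {ℓ : ℕ}

theorem isPrimaryTorsion_iff_stalk (F : EtCoh.Ab X) :
    Dix.IsPrimaryTorsion ℓ F ↔ ∀ (Ω : Type u) [Field Ω] [IsSepClosed Ω] (ξ : Spec (CommRingCat.of Ω) ⟶ X)
      (p : (EtCoh.stalk ξ).obj F), ∃ k : ℕ, ℓ ^ k • p = 0 := by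
  refine ⟨fun h Ω _ _ ξ p => ?_, fun h U s x => ?_⟩
  · obtain ⟨U, z, s, rfl⟩ := germ_surjective ξ F p
    obtain ⟨V, g, ⟨v, hv⟩, k, hk⟩ := h U s (ptOf z)
    obtain ⟨y, hy⟩ := exists_fiber_lift g z v hv
    refine ⟨k, ?_⟩
    have h1 : germ ξ F V y (F.obj.map g.op s) = germ ξ F U z s := by
      rw [← hy]
      exact (Scheme.pointSmallEtale ξ).toPresheafFiber_w_apply g y F.obj s
    exact (congrArg (ℓ ^ k • ·) h1.symm).trans ((map_nsmul (germ ξ F V y).hom (ℓ ^ k) (F.obj.map g.op s)).symm.trans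
      ((congrArg (germ ξ F V y) hk).trans (map_zero _)))
  · obtain ⟨z, hz⟩ := exists_fiber_over x (geomPt (U.hom.base x)) (geomPt_base _)
    obtain ⟨k, hk⟩ := h _ _ (germ (geomPt (U.hom.base x)) F U z s)
    obtain ⟨V, g, y, hy, he⟩ := (germ_eq_iff _ F U z (ℓ ^ k • s) 0).1
      ((map_nsmul _ _ s).trans (hk.trans (map_zero _).symm))
    rw [map_nsmul, map_zero] at he
    exact ⟨V, g, ⟨ptOf y, (ptOf_map g y).trans ((congrArg ptOf hy).trans hz)⟩, k, he⟩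

theorem isPrimaryTorsion_pull (f : Y ⟶ X) {F : EtCoh.Ab X} (hF : Dix.IsPrimaryTorsion ℓ F) :
    Dix.IsPrimaryTorsion ℓ ((EtCoh.pull f).obj F) := by
  rw [isPrimaryTorsion_iff_stalk] at hF ⊢
  intro Ω _ _ ξ p
  let e : (EtCoh.stalk ξ).obj ((EtCoh.pull f).obj F) ≅ (EtCoh.stalk (ξ ≫ f)).obj F := (stalkPullIso f ξ).app F
  obtain ⟨q, rfl⟩ : ∃ q, e.inv q = p := ⟨e.hom p, ConcreteCategory.congr_hom e.hom_inv_id p⟩
  obtain ⟨k, hk⟩ := hF Ω (ξ ≫ f) q
  exact ⟨k, (map_nsmul e.inv.hom _ q).symm.trans ((congrArg e.inv hk).trans (map_zero _))⟩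

theorem isPrimaryTorsion_of_iso {F G : EtCoh.Ab X} (e : F ≅ G) (hF : Dix.IsPrimaryTorsion ℓ F) :
    Dix.IsPrimaryTorsion ℓ G := fun U s x => by
  obtain ⟨V, g, hv, k, hk⟩ := hF U (e.inv.hom.app (op U) s) x
  refine ⟨V, g, hv, k, ?_⟩
  have h1 : e.hom.hom.app (op V) (F.obj.map g.op (e.inv.hom.app (op U) s)) = G.obj.map g.op s := by
    rw [app_res]
    exact congrArg (G.obj.map g.op) (ConcreteCategory.congr_hom (congrArg (fun m => m.hom.app (op U)) e.inv_hom_id) s)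
  rw [← h1, ← map_nsmul, hk, map_zero]

theorem isPrimaryTorsion_kernel {F G : EtCoh.Ab X} (φ : F ⟶ G) (hF : Dix.IsPrimaryTorsion ℓ F) :
    Dix.IsPrimaryTorsion ℓ (kernel φ) := fun U s x => by
  obtain ⟨V, g, hv, k, hk⟩ := hF U ((kernel.ι φ).hom.app (op U) s) x
  refine ⟨V, g, hv, k, injective_app' (kernel.ι φ) V ?_⟩
  rw [map_zero, map_nsmul, app_res]
  exact hk

theorem isPrimaryTorsion_cokernel {F G : EtCoh.Ab X} (φ : F ⟶ G) (hG : Dix.IsPrimaryTorsion ℓ G) :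
    Dix.IsPrimaryTorsion ℓ (cokernel φ) := fun U s x => by
  haveI : Sheaf.IsLocallySurjective (cokernel.π φ) :=
    (Sheaf.isLocallySurjective_iff_epi' _ (cokernel.π φ)).2 inferInstance
  obtain ⟨U₁, g₁, u₁, ⟨b, hb⟩, hu⟩ := H18Et.Subterminal.exists_mem_of_cover
    (Presheaf.imageSieve_mem _ (cokernel.π φ).hom s) x
  obtain ⟨V, g, ⟨v, hv⟩, k, hk⟩ := hG U₁ b u₁
  refine ⟨V, g ≫ g₁, ⟨v, (congrArg g₁.left.base hv).trans hu⟩, k, ?_⟩
  rw [← res_comp, show (cokernel φ).obj.map g₁.op s = (cokernel.π φ).hom.app (op U₁) b from hb.symm, ← app_res,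
    ← map_nsmul, hk, map_zero]

theorem isPrimaryTorsion_push (f : Y ⟶ X)
    (hf : ∀ (P : X.Etale) [IsAffine P.left], CompactSpace ((EtCoh.bc f).obj P).left) (G : EtCoh.Ab Y)
    (hG : Dix.IsPrimaryTorsion ℓ G) : Dix.IsPrimaryTorsion ℓ ((EtCoh.push f).obj G) := fun U s u => by
  obtain ⟨z, hz⟩ := exists_fiber_over u (geomPt (U.hom.base u)) (geomPt_base _)
  obtain ⟨P, hP, i, z', hz'⟩ := Cons.exists_affine_nbhd z
  haveI := hP
  let W := (EtCoh.bc f).obj P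
  haveI : CompactSpace W.left := hf P
  let t : EtCoh.sect G W := ((EtCoh.push f).obj G).obj.map i.op s
  choose V g hv k hk using fun w => hG W t w
  choose v hv using hv
  obtain ⟨S, hS⟩ := (isCompact_univ (X := W.left)).elim_finite_subcover
    (fun w => Set.range (g w).left.base)
    (fun w => haveI := etale_left (g w); (g w).left.isOpenMap.isOpen_range)
    fun w _ => Set.mem_iUnion.2 ⟨w, v w, hv w⟩
  refine ⟨P, i, ⟨ptOf z', (ptOf_map i z').trans ((congrArg ptOf hz').trans hz)⟩, S.sup k, ?_⟩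
  show ℓ ^ S.sup k • t = 0
  refine eq_zero_of_supp fun w => ?_
  obtain ⟨w₀, hw₀, y, rfl⟩ := Set.mem_iUnion₂.1 (hS (Set.mem_univ w))
  refine notMem_supp_of_map (g w₀) y ?_
  obtain ⟨r, hr⟩ := Nat.exists_eq_add_of_le (Finset.le_sup (f := k) hw₀)
  rw [map_nsmul, hr, pow_add, mul_comm, mul_nsmul', hk, nsmul_zero]
  exact fun h => h _ (𝟙 _) ⟨y, rfl⟩ (map_zero _)

theorem isPrimaryTorsion_skyPush [AlgebraicGeometry.IsNoetherian X] (x : X) (G : EtCoh.Ab (Spec (X.residueField x)))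
    (hG : Dix.IsPrimaryTorsion ℓ G) : Dix.IsPrimaryTorsion ℓ ((Dix.skyPush X x).obj G) :=
  isPrimaryTorsion_push (X.fromSpecResidueField x) (fun P _ => EtTors.compactSpace_bc_point X x P) G hG

/-- Cohomological dimension is invariant under isomorphisms. -/
theorem cohDimLEAt_of_iso (e : Y ⟶ X) [IsIso e] {d : ℕ} (h : Dix.CohDimLEAt X ℓ d) : Dix.CohDimLEAt Y ℓ d :=
  fun F hF q hq => by
  obtain ⟨i⟩ := Groth.Agent.H15Site.IntDesc.nonempty_H_push e F q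
  haveI := h _ (isPrimaryTorsion_push e (fun P _ => (H18Et.Coh.qcqs_bc e P).1) F hF) q hq
  exact Function.Injective.subsingleton (β := EtCoh.H X ((EtCoh.push e).obj F) q)
    i.addCommGroupIsoToAddEquiv.symm.injective

theorem isPrimaryTorsion_sigma [AlgebraicGeometry.IsNoetherian X] {ι : Type (u + 1)} (G : ι → EtCoh.Ab X)
    (h : ∀ k, Dix.IsPrimaryTorsion ℓ (G k)) : Dix.IsPrimaryTorsion ℓ (∐ G) := fun U s u => by
  obtain ⟨U', g', u', S, hu', hS⟩ := exists_local_sum G s u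
  let Q : ι → ∀ (V : X.Etale), (V ⟶ U') → Prop := fun j V g =>
    ∃ k, ℓ ^ k • (G j).obj.map g.op ((Sigma.π G j).hom.app (op U') ((∐ G).obj.map g'.op s)) = 0
  obtain ⟨V, g, v, hv, hQ⟩ := exists_common_nbhd u' Q (fun j V g V'' h => by
    rintro ⟨k, hk⟩
    exact ⟨k, by rw [← res_comp, ← map_nsmul, hk, map_zero]⟩) S fun j _ => by
    obtain ⟨V, g, ⟨v, hv⟩, hk⟩ := h j U' ((Sigma.π G j).hom.app (op U') ((∐ G).obj.map g'.op s)) u'
    exact ⟨V, g, v, hv, hk⟩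
  choose k hk using hQ
  refine ⟨V, g ≫ g', ⟨v, (congrArg g'.left.base hv).trans hu'⟩, S.attach.sup fun j => k j.1 j.2,
    Groth.Agent.H15Site.Shriek.eq_zero_of_proj G _ fun j => ?_⟩
  rw [map_nsmul, ← res_comp, app_res (Sigma.π G j)]
  by_cases hj : j ∈ S
  · obtain ⟨r, hr⟩ := Nat.exists_eq_add_of_le (Finset.le_sup (f := fun j : {j // j ∈ S} => k j.1 j.2)
      (Finset.mem_attach S ⟨j, hj⟩))
    rw [hr, pow_add, mul_comm, mul_nsmul', hk j hj, nsmul_zero]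
  · rw [hS j hj, map_zero, nsmul_zero]

theorem isPrimaryTorsion_of_supp_stalk (F : EtCoh.Ab X)
    (h : ∀ (y : X), ∃ (Ω : Type u) (_ : Field Ω) (_ : IsSepClosed Ω) (ξ : Spec (CommRingCat.of Ω) ⟶ X),
      ξ.base default = y ∧ ∀ p : (EtCoh.stalk ξ).obj F, ∃ k : ℕ, ℓ ^ k • p = 0) :
    Dix.IsPrimaryTorsion ℓ F := by
  rw [isPrimaryTorsion_iff_stalk]
  intro Ω _ _ ξ p
  obtain ⟨Ω', _, _, ξ', hξ', hk'⟩ := h (ξ.base default)
  obtain ⟨a⟩ := LC.stalk_iso_geomPt ξ F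
  obtain ⟨b⟩ := LC.stalk_iso_geomPt ξ' F
  let e : (EtCoh.stalk ξ).obj F ≅ (EtCoh.stalk ξ').obj F :=
    a ≪≫ eqToIso (congrArg (fun y => (EtCoh.stalk (geomPt y)).obj F) hξ'.symm) ≪≫ b.symm
  obtain ⟨k, hk⟩ := hk' (e.hom p)
  refine ⟨k, e.addCommGroupIsoToAddEquiv.injective ?_⟩
  rw [map_zero, map_nsmul]
  exact hk

theorem notMem_supp_of_stalk (F : EtCoh.Ab X) {Ω : Type u} [Field Ω] [IsSepClosed Ω]
    (ξ : Spec (CommRingCat.of Ω) ⟶ X) (h : Subsingleton ((EtCoh.stalk ξ).obj F)) :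
    ξ.base default ∉ EtPBC.supp F := fun hm => by
  obtain ⟨V, v, s, hv, hs⟩ := (mem_supp_iff F _ ξ rfl).1 hm
  obtain ⟨w, hw⟩ := exists_fiber_over v ξ hv.symm
  exact (germ_eq_zero_iff F w s).1 (Subsingleton.elim _ _) (hw ▸ hs)

end Groth.Agent.H05EGA4.EtCl
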