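import Groth.Agent.H05EGA4.EtCl.FiniteCd
import Groth.Agent.H1DFun.StalkRpush
import Groth.Agent.S0540

/-!
# Relative cohomological dimension of morphisms of schemes of finite type over a field
-/

set_option autoImplicit false
set_option linter.style.haveILetI false
set_option linter.unusedSectionVars false
set_option linter.overlappingInstances false
set_option backward.isDefEq.respectTransparency false
set_option backward.isDefEq.respectTransparency.types false

universe u

open CategoryTheory CategoryTheory.Limits AlgebraicGeometry Opposite Abelian TensorProduct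
open scoped Classical

namespace Groth.Agent.H05EGA4.EtCl

open scoped Groth.Agent.H18Et

variable {X Y : Scheme.{u}} (f : X ⟶ Y) (s : Y) (R : Type u) [CommRing R] [IsLocalRing R]
  [Algebra (Y.presheaf.stalk s) R] [IsLocalHom (algebraMap (Y.presheaf.stalk s) R)]
  [Hensel.IsStrictHenselization (Y.presheaf.stalk s) R]

/-- The fibres of strict localisations are integral over the residue fields. -/
theorem isIntegralHom_strictFibre [IsLocallyNoetherian Y] {y : Y} (h : y ⤳ s) :
    IsIntegralHom (pullback.fst (Y.fromSpecResidueField y) (Hens2.specOf Y s R)) := by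
  let φ := Cyc.specMap s y h
  let p := RingHom.ker φ
  haveI : p.IsPrime := RingHom.ker_isPrime φ
  obtain ⟨n, K, _, _, hsep, ⟨eK⟩⟩ := Groth.Agent.S2817.result (Y.presheaf.stalk s) R p
  haveI : ∀ i, Algebra.IsSeparable p.ResidueField (K i) := hsep
  letI : Algebra (Y.presheaf.stalk s) (Y.residueField y) := φ.toAlgebra
  let ψ : p.ResidueField →ₐ[Y.presheaf.stalk s] Y.residueField y :=
    Ideal.ResidueField.liftₐ p (Algebra.ofId _ _) (le_rfl : p ≤ RingHom.ker (algebraMap _ (Y.residueField y)))
      (fun a ha => Ne.isUnit fun h0 => ha h0)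
  have hψ : Function.Bijective ψ := by
    refine ⟨ψ.toRingHom.injective, fun a => ?_⟩
    obtain ⟨b, t, ht, hbt⟩ := exists_mul_specMap h a
    refine ⟨algebraMap _ _ b / algebraMap _ _ t, ?_⟩
    rw [map_div₀, AlgHom.commutes, AlgHom.commutes]
    exact (div_eq_iff (b := φ t) fun h0 => ht h0).2 hbt.symm
  let c := Algebra.TensorProduct.congr (AlgEquiv.ofBijective ψ hψ)
    (AlgEquiv.refl (R := Y.presheaf.stalk s) (A₁ := R))
  let ι : Y.residueField y →+* Y.residueField y ⊗[Y.presheaf.stalk s] R := Algebra.TensorProduct.includeLeftRingHom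
  have hint : ι.IsIntegral := by
    have h1 : (algebraMap p.ResidueField (p.ResidueField ⊗[Y.presheaf.stalk s] R)).IsIntegral := fun t => by
      have h2 : IsIntegral p.ResidueField (eK t) := by
        refine ⟨∏ i, minpoly p.ResidueField (eK t i),
          Polynomial.monic_prod_of_monic _ _ fun i _ => minpoly.monic (Algebra.IsIntegral.isIntegral _),
          funext fun i => ?_⟩
        show Pi.evalRingHom K i (Polynomial.eval₂ _ (eK t) _) = 0
        rw [Polynomial.hom_eval₂]
        show Polynomial.aeval (eK t i) (∏ j, minpoly p.ResidueField (eK t j)) = 0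
        rw [map_prod]
        exact Finset.prod_eq_zero (Finset.mem_univ i) (minpoly.aeval _ _)
      have h3 := h2.map eK.symm
      rwa [AlgEquiv.symm_apply_apply] at h3
    refine RingHom.IsIntegral.tower_top ψ.toRingHom _ ?_
    rw [show (ι.comp ψ.toRingHom :
        p.ResidueField →+* Y.residueField y ⊗[Y.presheaf.stalk s] R) =
      c.toRingEquiv.toRingHom.comp (algebraMap p.ResidueField _) from RingHom.ext fun a => by
        show (ψ a) ⊗ₜ (1 : R) = c (a ⊗ₜ (1 : R))
        simp [c]]
    exact h1.trans _ _ (RingHom.isIntegral_of_surjective _ c.toRingEquiv.surjective)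
  haveI : IsIntegralHom (Spec.map (CommRingCat.ofHom ι)) := IsIntegralHom.SpecMap_iff.2 hint
  let e : pullback (Y.fromSpecResidueField y) (Hens2.specOf Y s R) ≅
      Spec (CommRingCat.of (Y.residueField y ⊗[Y.presheaf.stalk s] R)) :=
    pullback.congrHom (fromSpecResidueField_eq h) rfl ≪≫ pullbackCompMono _ _ _ ≪≫
      pullbackSpecIso (Y.presheaf.stalk s) (Y.residueField y) R
  have he : e.inv ≫ pullback.fst (Y.fromSpecResidueField y) (Hens2.specOf Y s R) =
      Spec.map (CommRingCat.ofHom ι) := by
    simp [e, pullbackCompMono]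
    exact pullbackSpecIso_inv_fst _ _ _
  rw [show pullback.fst (Y.fromSpecResidueField y) (Hens2.specOf Y s R) =
    e.hom ≫ Spec.map (CommRingCat.ofHom ι) from
      by rw [← he, Iso.hom_inv_id_assoc]]
  infer_instance

variable [IsLocallyNoetherian Y]

/-- The fibres of a base change to a strict localisation are integral over the residue fields. -/
theorem isIntegralHom_fibre (x : X) (h : f x ⤳ s) :
    IsIntegralHom (pullback.fst (X.fromSpecResidueField x) (pullback.fst f (Hens2.specOf Y s R))) := by
  haveI := isIntegralHom_strictFibre s R h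
  let ρ := Spec.map (f.residueFieldMap x)
  let e : pullback (X.fromSpecResidueField x) (pullback.fst f (Hens2.specOf Y s R)) ≅
      pullback ρ (pullback.fst (Y.fromSpecResidueField (f x)) (Hens2.specOf Y s R)) :=
    pullbackRightPullbackFstIso f _ _ ≪≫
      pullback.congrHom (f.SpecMap_residueFieldMap_fromSpecResidueField x).symm rfl ≪≫
      (pullbackRightPullbackFstIso (Y.fromSpecResidueField (f x)) (Hens2.specOf Y s R) ρ).symm
  rw [show pullback.fst (X.fromSpecResidueField x) (pullback.fst f (Hens2.specOf Y s R)) =
    e.hom ≫ pullback.fst ρ (pullback.fst (Y.fromSpecResidueField (f x)) (Hens2.specOf Y s R)) by simp [e, pullback.map, ρ]]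
  haveI : IsIntegralHom (pullback.fst ρ (pullback.fst (Y.fromSpecResidueField (f x)) (Hens2.specOf Y s R))) :=
    MorphismProperty.pullback_fst _ _ inferInstance
  infer_instance

/-- The points of a scheme integral over a field are closed. -/
theorem isClosed_singleton_of_isIntegralHom {W : Scheme.{u}} {K : Type u} [Field K]
    (h : W ⟶ Spec (CommRingCat.of K)) [IsIntegralHom h] (w : W) : IsClosed ({w} : Set W) := by
  haveI : IsAffine W := isAffine_of_isAffineHom h
  obtain ⟨φ, hφ⟩ := Spec.map_surjective (W.isoSpec.inv ≫ h)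
  haveI : IsIntegralHom (Spec.map φ) := by rw [hφ]; infer_instance
  have hint : φ.hom.IsIntegral := IsIntegralHom.SpecMap_iff.1 inferInstance
  letI := φ.hom.toAlgebra
  haveI : Algebra.IsIntegral K Γ(W, ⊤) := ⟨hint⟩
  have h1 : IsClosed ({W.isoSpec.hom w} : Set (Spec Γ(W, ⊤))) :=
    (PrimeSpectrum.isClosed_singleton_iff_isMaximal _).2
      (Ideal.isMaximal_of_isIntegral_of_isMaximal_comap (R := K) _
        (by
          haveI : ((W.isoSpec.hom w).asIdeal.comap (algebraMap K Γ(W, ⊤))).IsPrime := inferInstance
          rw [(Ideal.eq_bot_or_top ((W.isoSpec.hom w).asIdeal.comap (algebraMap K Γ(W, ⊤)))).resolve_right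
            this.ne_top]
          exact Ideal.bot_isMaximal))
  have h2 := h1.preimage W.isoSpec.hom.continuous
  rwa [show W.isoSpec.hom.base ⁻¹' {W.isoSpec.hom w} = {w} from
    Set.ext fun v => ⟨fun hv => W.isoSpec.hom.homeomorph.injective hv, fun hv => congrArg W.isoSpec.hom hv⟩] at h2

theorem specializes_of_pullback (z : ↥(pullback f (Hens2.specOf Y s R))) :
    f (pullback.fst f (Hens2.specOf Y s R) z) ⤳ s := by
  rw [← Scheme.Hom.comp_apply, pullback.condition, Scheme.Hom.comp_apply, Scheme.Hom.comp_apply]
  exact (Scheme.range_fromSpecStalk (x := s)).le ⟨_, rfl⟩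

/-- The residue fields of the base change are algebraic over those of the source. -/
theorem isIntegral_residueFieldMap_fst (z : ↥(pullback f (Hens2.specOf Y s R))) :
    ((pullback.fst f (Hens2.specOf Y s R)).residueFieldMap z).hom.IsIntegral := by
  let g := pullback.fst f (Hens2.specOf Y s R)
  haveI := isIntegralHom_fibre f s R (g z) (specializes_of_pullback f s R z)
  let l := pullback.lift (f := X.fromSpecResidueField (g z)) (g := g) (Spec.map (g.residueFieldMap z))
    ((pullback f (Hens2.specOf Y s R)).fromSpecResidueField z) (g.SpecMap_residueFieldMap_fromSpecResidueField z)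
  haveI : IsPreimmersion (l ≫ pullback.snd (X.fromSpecResidueField (g z)) g) := by
    rw [pullback.lift_snd]; infer_instance
  haveI : IsPreimmersion l := IsPreimmersion.of_comp l (pullback.snd (X.fromSpecResidueField (g z)) g)
  haveI : Subsingleton ↥(Spec ((pullback f (Hens2.specOf Y s R)).residueField z)) :=
    inferInstanceAs (Subsingleton (PrimeSpectrum _))
  haveI : IsClosedImmersion l := IsClosedImmersion.of_isPreimmersion l (by
    rw [show Set.range l = {l (IsLocalRing.closedPoint _)} from Set.ext fun w =>
      ⟨fun ⟨a, ha⟩ => ha.symm.trans (congrArg l (Subsingleton.elim _ _)), fun hw => ⟨_, hw.symm⟩⟩]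
    exact isClosed_singleton_of_isIntegralHom (pullback.fst (X.fromSpecResidueField (g z)) g) _)
  haveI : IsIntegralHom (Spec.map (g.residueFieldMap z)) := by
    rw [← pullback.lift_fst (f := X.fromSpecResidueField (g z)) (g := g) (Spec.map (g.residueFieldMap z))
      ((pullback f (Hens2.specOf Y s R)).fromSpecResidueField z) (g.SpecMap_residueFieldMap_fromSpecResidueField z)]
    infer_instance
  exact IsIntegralHom.SpecMap_iff.1 inferInstance

/-- No specialisations in the fibres over the source. -/
theorem eq_of_specializes_fst {z z' : ↥(pullback f (Hens2.specOf Y s R))} (h : z ⤳ z')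
    (he : pullback.fst f (Hens2.specOf Y s R) z = pullback.fst f (Hens2.specOf Y s R) z') : z = z' := by
  let g := pullback.fst f (Hens2.specOf Y s R)
  haveI := isIntegralHom_fibre f s R (g z) (specializes_of_pullback f s R z)
  have hr : ∀ v, g v = g z → v ∈ Set.range (pullback.snd (X.fromSpecResidueField (g z)) g) := fun v hv => by
    rw [Scheme.Pullback.range_snd, Set.mem_preimage, X.range_fromSpecResidueField, Set.mem_singleton_iff]
    exact hv
  obtain ⟨w, hw⟩ := hr z rfl
  obtain ⟨w', hw'⟩ := hr z' he.symm
  rw [← hw, ← hw', (pullback.snd (X.fromSpecResidueField (g z)) g).isEmbedding.isInducing.specializes_iff] at h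
  have h2 : w ∈ ({w'} : Set _) := by
    have h3 := isClosed_singleton_of_isIntegralHom (pullback.fst (X.fromSpecResidueField (g z)) g) w
    have h4 : w' ∈ ({w} : Set _) := h.mem_closed h3 rfl
    exact (Set.mem_singleton_iff.1 h4).symm
  rw [← hw, ← hw', Set.mem_singleton_iff.1 h2]

/-- Morphisms of schemes of finite type over a field have finite cohomological dimension. -/
theorem exists_relCohDimLE {k : Type u} [Field k] (a : X ⟶ Spec (CommRingCat.of k))
    (b : Y ⟶ Spec (CommRingCat.of k)) [LocallyOfFiniteType a] [QuasiCompact a]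
    [LocallyOfFiniteType b] [QuasiCompact b] (w : f ≫ b = a) [EtCoh.BCCont f] :
    ∃ d : ℕ, EtCoh.RelCohDimLE f d := by
  haveI : IsLocallyNoetherian X := LocallyOfFiniteType.isLocallyNoetherian a
  haveI : CompactSpace X := QuasiCompact.compactSpace_of_compactSpace a
  haveI : AlgebraicGeometry.IsNoetherian X := {}
  haveI : LocallyOfFiniteType (f ≫ b) := by rw [w]; infer_instance
  haveI : LocallyOfFiniteType f := locallyOfFiniteType_of_comp f b
  haveI : QuasiCompact (f ≫ b) := by rw [w]; infer_instance
  haveI : QuasiCompact f := QuasiCompact.of_comp f b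
  haveI : CompactSpace Y := QuasiCompact.compactSpace_of_compactSpace b
  haveI : AlgebraicGeometry.IsNoetherian Y := {}
  obtain ⟨n, hn⟩ := exists_delta_bound a
  refine ⟨2 * n, fun F hF q hq => H18Et.Cons.isZero_of_supp_eq_empty _ fun t ht => ?_⟩
  obtain ⟨R, _, _, _, _, _, hsc⟩ := exists_strictHens (Y.presheaf.stalk t)
  haveI := hsc
  haveI : IsNoetherianRing R := (S0540.result (Y.presheaf.stalk t) R).1 inferInstance
  haveI := (inferInstance : Hensel.IsStrictHenselization (Y.presheaf.stalk t) R).henselian
  let Z := pullback f (Hens2.specOf Y t R)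
  let g := pullback.fst f (Hens2.specOf Y t R)
  haveI : IsLocallyNoetherian Z := LocallyOfFiniteType.isLocallyNoetherian (pullback.snd f (Hens2.specOf Y t R))
  haveI : CompactSpace Z := QuasiCompact.compactSpace_of_compactSpace (pullback.snd f (Hens2.specOf Y t R))
  haveI : AlgebraicGeometry.IsNoetherian Z := {}
  -- the separable closure of the base field in the strict localisation
  obtain ⟨L, _, _, hL, halg, c, hc⟩ :=
    exists_hom_strictHens ((algebraMap (Y.presheaf.stalk t) R).comp (toStalk b t))
  haveI := hL
  let gZ : Z ⟶ Spec (CommRingCat.of L) := pullback.snd f (Hens2.specOf Y t R) ≫ Spec.map (CommRingCat.ofHom c)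
  have hgZ : gZ ≫ Spec.map (CommRingCat.ofHom (algebraMap k L)) = g ≫ a := by
    rw [Category.assoc, ← Spec.map_comp, ← CommRingCat.ofHom_comp, hc, CommRingCat.ofHom_comp, Spec.map_comp,
      ← w, pullback.condition_assoc]
    congr 1
    show _ ≫ Spec.map (Spec.preimage (Y.fromSpecStalk t ≫ b)) = (_ ≫ Y.fromSpecStalk t) ≫ b
    rw [Spec.map_preimage, Category.assoc]
  have htr : ∀ z : Z, @Algebra.trdeg L (Z.residueField z) _ _ (toResidue gZ z).toAlgebra = delta a (g z) := fun z => by
    letI : Algebra k (X.residueField (g z)) := (toResidue a (g z)).toAlgebra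
    letI : Algebra (X.residueField (g z)) (Z.residueField z) := (g.residueFieldMap z).hom.toAlgebra
    letI : Algebra L (Z.residueField z) := (toResidue gZ z).toAlgebra
    letI : Algebra k (Z.residueField z) := ((g.residueFieldMap z).hom.comp (toResidue a (g z))).toAlgebra
    haveI : IsScalarTower k (X.residueField (g z)) (Z.residueField z) := IsScalarTower.of_algebraMap_eq' rfl
    haveI : IsScalarTower k L (Z.residueField z) := by
      refine IsScalarTower.of_algebraMap_eq' (congrArg CommRingCat.Hom.hom (Spec.map_injective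
        (a₁ := CommRingCat.ofHom (toResidue a (g z)) ≫ g.residueFieldMap z)
        (a₂ := CommRingCat.ofHom (algebraMap k L) ≫ CommRingCat.ofHom (toResidue gZ z)) ?_))
      rw [Spec.map_comp, Spec.map_comp, ← toResidue_spec, ← toResidue_spec,
        g.SpecMap_residueFieldMap_fromSpecResidueField_assoc, Category.assoc, hgZ]
    haveI : Algebra.IsIntegral (X.residueField (g z)) (Z.residueField z) :=
      ⟨isIntegral_residueFieldMap_fst f t R z⟩
    have h1 := trdeg_add_eq k (X.residueField (g z)) (A := Z.residueField z)
    have h2 := trdeg_add_eq k L (A := Z.residueField z)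
    rw [trdeg_eq_zero (R := X.residueField (g z)) (A := Z.residueField z), add_zero, trdeg_eq_delta a] at h1
    rw [trdeg_eq_zero (R := k) (A := L), zero_add, ← h1] at h2
    exact h2
  have hlt : ∀ {z z' : Z}, z ⤳ z' → z ≠ z' → delta a (g z') < delta a (g z) := fun {z z'} h hne =>
    delta_lt a (h.map g.continuous) fun he => hne (eq_of_specializes_fst f t R h he)
  have hZ : EtCoh.CohDimLE Z (2 * n) := cohDimLE_of_cohDimLEAt _ fun ℓ hℓ G hG j hj => by
    have h0 : Dix.CohDimLEAt (Spec (CommRingCat.of L)) ℓ 0 := fun G _ q hq => by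
      obtain ⟨i, rfl⟩ := Nat.exists_eq_add_of_le' hq
      exact subsingleton_H_over_sepClosed L L G i
    refine subsingleton_H_of_cdFun (cdFunOfTrdeg gZ (fun z => delta a (g z)) htr hℓ hlt h0) hℓ G hG j fun z _ => ?_
    have := hn (g z)
    show 0 + 2 * delta a (g z) < j
    omega
  haveI : QuasiSeparated f := inferInstance
  obtain ⟨i⟩ := H1DFun.nonempty_Rpush_geomPt_iso f t R q
  haveI := hZ _ (H18Et.Coh.isTorsion_pull g F hF) q hq
  refine notMem_supp_of_stalk _ (Hens2.geomPt Y t R) ?_ (by rw [hensGeomPt_base]; exact ht)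
  exact AddCommGrpCat.isZero_iff_subsingleton.1 (IsZero.of_iso
    (AddCommGrpCat.isZero_iff_subsingleton.2 this) (i.app F))

end Groth.Agent.H05EGA4.EtCl
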