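import Groth.Agent.H05EGA4.EtCl.Restrict
import Groth.Agent.H05EGA4.EtCl.PointConst
import Groth.Agent.H05EGA4.EtCl.DimOne

/-!
# Restriction of `H²(G_m)`: the factorial and the one dimensional case
-/

set_option autoImplicit false
set_option linter.style.haveILetI false
set_option linter.unusedSectionVars false
set_option backward.isDefEq.respectTransparency false
set_option backward.isDefEq.respectTransparency.types false

universe u

open CategoryTheory CategoryTheory.Limits AlgebraicGeometry Opposite Abelian IsLocalRing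

namespace Groth.Agent.H05EGA4.EtCl

open scoped Groth.Agent.H18Et

variable {X : Scheme.{u}} [AlgebraicGeometry.IsNoetherian X]

theorem subsingleton_H1_ClM_factorial (hF : Factorial X) : Subsingleton (EtCoh.H X (ClM X) 1) := by
  obtain ⟨e⟩ := nonempty_iso_coprod_factorial hF
  refine subsingleton_H_of_iso e 1 (subsingleton_H_coprod _ _ fun k => ?_)
  refine subsingleton_H_of_iso ((EtCoh.push (X.fromSpecResidueField k.down.1)).mapIso
    (nonempty_pull_ClM_iso hF k.down.1 k.down.2).some.symm) 1 ?_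
  exact EtTors.subsingleton_H1_skyPush_const X k.down.1 ℤ

theorem restrict_injective_factorial (hF : Factorial X)
    [∀ x : X, PreservesFiniteLimits (EtCoh.pull (X.fromSpecStalk x))] (ξ : EtCoh.H X (EtCoh.Gm X) 2)
    (hξ : ∀ x : X, (∀ y : X, y ⤳ x → y = x) → EtLim.HGmPull (X.fromSpecStalk x) 2 ξ = 0) : ξ = 0 := by
  haveI := isReduced_of_factorial hF
  exact restrict_injective sepMax_of_isReduced (subsingleton_H1_ClM_factorial hF) ξ hξ

theorem subsingleton_H1_ClM_dim_le_one (hdim : topologicalKrullDim X ≤ 1)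
    (hs : ∀ x : X, IsClosed ({x} : Set X) → IsSepClosed (X.residueField x)) :
    Subsingleton (EtCoh.H X (ClM X) 1) := by
  obtain ⟨e⟩ := nonempty_iso_coprod_closed (ClM X) (isClosed_of_mem_supp hdim)
  refine subsingleton_H_of_iso e 1 (subsingleton_H_coprod _ _ fun k => ?_)
  haveI := hs k.down.1 k.down.2
  exact subsingleton_H1_skyPush_of_point k.down.1 _ (subsingleton_H1_sepClosed (X.residueField k.down.1) _)

theorem eq_zero_of_mul_map {R S : Type u} [CommRing R] [CommRing S] (f : R →+* S) (hf : f.Flat) {t : R}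
    (ht : t ∈ nonZeroDivisors R) {b : S} (hb : f t * b = 0) : b = 0 := by
  algebraize [f]
  haveI : Module.Flat R S := hf
  have hreg : IsSMulRegular R t := fun p q e =>
    sub_eq_zero.1 ((mem_nonZeroDivisors_iff.1 ht).1 _ ((mul_sub _ _ _).trans (sub_eq_zero.2 e)))
  exact (IsSMulRegular.of_flat (S := S) hreg) (show f t * b = f t * 0 by rw [hb, mul_zero])

/-- Without embedded points functions are determined at the maximal points. -/
theorem sepMax_of_no_embedded (hdim : topologicalKrullDim X ≤ 1)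
    (hemb : ∀ x : X, (∃ y : X, y ≠ x ∧ y ⤳ x) →
      ∃ t ∈ maximalIdeal (X.presheaf.stalk x), t ∈ nonZeroDivisors (X.presheaf.stalk x)) : SepMax X := by
  intro V₀ v₀ A₀ hA₀
  obtain ⟨O, hO, hvO, -⟩ := exists_isAffineOpen_mem_and_subset (U := (⊤ : V₀.left.Opens)) (x := v₀) trivial
  let V := sub V₀ O
  haveI : IsAffine V.left := hO
  let v : V.left := ⟨v₀, hvO⟩
  let A : Γ(V.left, ⊤) := (subι V₀ O).left.appTop A₀
  haveI := H18Et.etale_left (subι V₀ O)
  have hA : ∀ w, IsMaxPt w → V.left.presheaf.germ ⊤ w trivial A = 0 := fun w hw => by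
    rw [germ_appTop, hA₀ _ ((isMaxPt_map_iff (subι V₀ O) w).2 hw), map_zero]
  suffices h : V.left.presheaf.germ ⊤ v trivial A = 0 by
    rw [germ_appTop] at h
    exact H22Alg.stalkMap_injective_of_flat (subι V₀ O).left v (h.trans (map_zero _).symm)
  by_cases hv : IsMaxPt v
  · exact hA v hv
  haveI : Etale V.hom := V.prop
  have hx : ¬IsMaxPt (V.hom v) := fun h => hv ((isMaxPt_hom_iff V v).1 h)
  obtain ⟨y, hy, hyx⟩ : ∃ y : X, y ≠ V.hom v ∧ y ⤳ V.hom v := by
    simp only [IsMaxPt, not_forall] at hx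
    obtain ⟨y, h1, h2⟩ := hx
    exact ⟨y, h2, h1⟩
  obtain ⟨t, htm, htd⟩ := hemb (V.hom v) ⟨y, hy, hyx⟩
  let a : V.left.presheaf.stalk v := V.left.presheaf.germ ⊤ v trivial A
  let t' : V.left.presheaf.stalk v := V.hom.stalkMap v t
  have ht'm : t' ∈ maximalIdeal (V.left.presheaf.stalk v) :=
    (mem_maximalIdeal _).2 fun hu => htm (isUnit_of_map_unit (V.hom.stalkMap v).hom _ hu)
  have ht'd : ∀ b : V.left.presheaf.stalk v, t' * b = 0 → b = 0 :=
    fun b hb => eq_zero_of_mul_map (V.hom.stalkMap v).hom (Flat.stalkMap V.hom v) htd hb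
  letI := TopCat.Presheaf.algebra_section_stalk V.left.presheaf (⟨v, trivial⟩ : (⊤ : V.left.Opens))
  haveI : IsLocalization.AtPrime (V.left.presheaf.stalk v) (pid v) :=
    (isAffineOpen_top V.left).isLocalization_stalk ⟨v, trivial⟩
  let J : Ideal (V.left.presheaf.stalk v) := LinearMap.ker (LinearMap.toSpanSingleton _ _ a)
  have hrad : t' ∈ J.radical := by
    rw [Ideal.radical_eq_sInf, Submodule.mem_sInf]
    rintro P ⟨hJP, hP⟩
    by_contra htP
    haveI := hP
    obtain ⟨w, hw⟩ := exists_pt (Ideal.comap (algebraMap Γ(V.left, ⊤) (V.left.presheaf.stalk v)) P)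
    have hwv : w ⤳ v := specializes_of_le (hw.le.trans fun c hc => by
      by_contra hcv
      exact hP.ne_top (Ideal.eq_top_of_isUnit_mem _ hc ((isUnit_germ_iff v c).2 hcv)))
    have hne : w ≠ v := fun e => by
      subst e
      refine htP ?_
      rw [← IsLocalization.map_comap (pid v).primeCompl (V.left.presheaf.stalk v) P, Ideal.under_def, ← hw,
        IsLocalization.AtPrime.map_eq_maximalIdeal]
      exact ht'm
    have hwmax : IsMaxPt w := by
      refine (isMaxPt_hom_iff V w).1 (by_contra fun hn => hne ?_)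
      have h2 : V.hom v = V.hom w :=
        Set.mem_singleton_iff.1 ((hwv.map V.hom.continuous).mem_closed (isClosed_of_dim_le_one hdim hn) rfl)
      exact eq_of_specializes_of_fibre V.hom hwv h2.symm
    letI := TopCat.Presheaf.algebra_section_stalk V.left.presheaf (⟨w, trivial⟩ : (⊤ : V.left.Opens))
    haveI : IsLocalization.AtPrime (V.left.presheaf.stalk w) (pid w) :=
      (isAffineOpen_top V.left).isLocalization_stalk ⟨w, trivial⟩
    obtain ⟨⟨s, hs⟩, hsA⟩ := (IsLocalization.map_eq_zero_iff (pid w).primeCompl (V.left.presheaf.stalk w) A).1 (hA w hwmax)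
    refine hs ((SetLike.ext_iff.1 hw s).2 (hJP ?_))
    show V.left.presheaf.germ ⊤ v trivial s * a = 0
    rw [← map_mul, hsA, map_zero]
  obtain ⟨N, hN⟩ := hrad
  replace hN : t' ^ N * a = 0 := hN
  suffices hpow : ∀ (n : ℕ) (b : V.left.presheaf.stalk v), t' ^ n * b = 0 → b = 0 from hpow N a hN
  intro n
  induction n with
  | zero => exact fun b hb => by simpa using hb
  | succ n ih => exact fun b hb => ih b (ht'd _ (by rw [← mul_assoc, ← pow_succ']; exact hb))

end Groth.Agent.H05EGA4.EtCl
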