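import Groth.Agent.H05EGA4.EtCl.CurveTors
import Groth.Agent.H8Props.FieldDimScheme
import Groth.Agent.H9Hens.SepClosed
import Groth.Agent.H18Et.Cons.Presentation

/-!
# Curves over separably closed fields: closed points and maximal points
-/

set_option autoImplicit false
set_option linter.style.haveILetI false
set_option linter.unusedSectionVars false
set_option linter.overlappingInstances false
set_option backward.isDefEq.respectTransparency false
set_option backward.isDefEq.respectTransparency.types false

universe u

open CategoryTheory CategoryTheory.Limits AlgebraicGeometry Opposite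

namespace Groth.Agent.H05EGA4.EtCl

open scoped Groth.Agent.H18Et

variable {k : Type u} [Field k] {X : Scheme.{u}} (f : X ⟶ Spec (CommRingCat.of k)) [LocallyOfFiniteType f]

include f

/-- Closed points have algebraic residue fields, hence separably closed ones over separably closed fields. -/
theorem isSepClosed_residueField_of_isClosed [IsSepClosed k] (x : X) (hx : IsClosed ({x} : Set X)) :
    IsSepClosed (X.residueField x) := by
  obtain ⟨φ, hφ⟩ : ∃ φ : CommRingCat.of k ⟶ CommRingCat.of (X.residueField x),
      X.fromSpecResidueField x ≫ f = Spec.map φ :=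
    ⟨Spec.preimage (X.fromSpecResidueField x ≫ f), (Spec.map_preimage _).symm⟩
  letI := φ.hom.toAlgebra
  obtain ⟨s, hc, hs⟩ := H8Props.FieldDim.exists_trdeg f (L := X.residueField x) (X.fromSpecResidueField x)
    (hφ.trans (by rfl)) (default : PrimeSpectrum (X.residueField x))
  erw [Scheme.fromSpecResidueField_apply] at hc
  rw [H8Props.FieldDim.cdim, hx.closure_eq] at hc
  haveI : DiscreteTopology ({x} : Set X) := inferInstance
  have h0 := hc ▸ topologicalKrullDim_zero_of_discreteTopology ({x} : Set X)
  have hs0 : s = 0 := Nat.le_zero.1 (by exact_mod_cast h0)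
  subst hs0
  haveI : Algebra.IsAlgebraic k (X.residueField x) := trdeg_eq_zero_iff.1 (by rw [hs, Nat.cast_zero])
  exact H9Hens.isSepClosed_of_isAlgebraic k

omit f [LocallyOfFiniteType f]

/-- Sheaves with vanishing stalks over the maximal points have support away from them. -/
theorem notMem_supp_of_stalks (F : EtCoh.Ab X)
    (hgen : ∀ (Ω : Type u) [Field Ω] [IsSepClosed Ω] (ξ : Spec (CommRingCat.of Ω) ⟶ X),
      (∀ x ∈ Set.range ξ.base, IsMaxPt x) → IsZero ((EtCoh.stalk ξ).obj F))
    (V : X.Etale) (s : EtCoh.sect F V) (v : V.left) (hv : IsMaxPt (V.hom v)) :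
    v ∉ EtShriek.sectSupp F V s := by
  intro hs
  let ξ := H18Et.geomPt (V.hom v)
  have hb : ξ.base default = V.hom v := H18Et.geomPt_base _
  haveI : Subsingleton ((EtCoh.stalk ξ).obj F) := (AddCommGrpCat.isZero_iff_subsingleton).1 <| hgen _ ξ
    (fun x hx => by obtain ⟨p, rfl⟩ := hx; have e := Subsingleton.elim p default; exact (e ▸ hb).symm ▸ hv)
  refine H18Et.Cons.notMem_supp_of_subsingleton F ξ ?_
  exact (H18Et.mem_supp_iff F _ ξ rfl).2 ⟨V, v, s, hb.symm, hs⟩

end Groth.Agent.H05EGA4.EtCl
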