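import Groth.Agent.H05EGA4.EtCl.PushVanish
import Groth.Agent.H05EGA4.EtCl.SumIso
import Groth.Agent.H05EGA4.EtCl.CurvePoints
import Groth.Agent.H8Props.FieldDimSmooth

/-!
# Sums of skyscraper sheaves at closed points over an algebraically closed field
-/

set_option autoImplicit false
set_option linter.style.haveILetI false
set_option linter.unusedSectionVars false
set_option linter.overlappingInstances false
set_option backward.isDefEq.respectTransparency false
set_option backward.isDefEq.respectTransparency.types false

universe u

open CategoryTheory CategoryTheory.Limits AlgebraicGeometry Opposite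

namespace Groth.Agent.H05EGA4.EtCl

open scoped Groth.Agent.H18Et

variable {k : Type u} [Field k] {X : Scheme.{u}} (f : X ⟶ Spec (CommRingCat.of k))

/-- A direct sum of skyscraper sheaves at closed points has no higher cohomology. -/
theorem subsingleton_H_cofan_skyPush [IsAlgClosed k] [LocallyOfFiniteType f] [CompactSpace X]
    [QuasiSeparatedSpace X] (G : ∀ x : {x : X // IsClosed ({x} : Set X)}, EtCoh.Ab (Spec (X.residueField x.1)))
    (c : Cofan fun x : {x : X // IsClosed ({x} : Set X)} => (EtCoh.push (X.fromSpecResidueField x.1)).obj (G x)) (hc : IsColimit c) (n : ℕ) :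
    Subsingleton (EtCoh.H X c.pt (n + 1)) := by
  let H : ULift.{u + 1} {x : X // IsClosed ({x} : Set X)} → EtCoh.Ab X :=
    fun j => (EtCoh.push (X.fromSpecResidueField j.down.1)).obj (G j.down)
  let e0 : (∐ fun x : {x : X // IsClosed ({x} : Set X)} => (EtCoh.push (X.fromSpecResidueField x.1)).obj (G x)) ≅ ∐ H :=
    Sigma.whiskerEquiv (g := H) Equiv.ulift.{u + 1}.symm fun x => Iso.refl _
  let e := hc.coconePointUniqueUpToIso (coproductIsCoproduct _) ≪≫ e0
  haveI : Subsingleton (EtCoh.H X (∐ H) (n + 1)) := subsingleton_H_coprod (G := H) _ fun j => by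
    haveI := isAlgClosed_residueField_of_isClosed f j.down.1 j.down.2
    exact subsingleton_H_skyPush_sepClosed X j.down.1 (G j.down) n
  exact Function.Injective.subsingleton (β := EtCoh.H X (∐ H) (n + 1))
    ((Sheaf.functorH _ (n + 1)).mapIso e).addCommGroupIsoToAddEquiv.injective

/-- Smooth curves over a field have dimension at most one. -/
theorem topologicalKrullDim_le_of_smooth [SmoothOfRelativeDimension 1 f] : topologicalKrullDim X ≤ 1 := by
  haveI := SmoothOfRelativeDimension.smooth 1 f
  rw [H8Props.FieldDim.dim_eq_iSup_cdim]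
  refine iSup_le fun x => le_trans
    (le_iSup (fun η : {η : X // η ⤳ x} => H8Props.FieldDim.cdim η.1) ⟨x, specializes_rfl⟩)
    ((H8Props.FieldDim.localDim_eq f x).symm.trans_le ?_)
  exact (H8Props.FieldDim.localDim_eq_of_smooth f 1 x).le

end Groth.Agent.H05EGA4.EtCl
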