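import Groth.Agent.H05EGA4.EtCl.Reduced
import Groth.Agent.H05EGA4.EtTors.Point
import Groth.Agent.H05EGA4.EtTors.HofPush

/-!
# Torsion of the cohomology of units at maximal points
-/

set_option autoImplicit false
set_option linter.style.haveILetI false
set_option linter.unusedSectionVars false
set_option backward.isDefEq.respectTransparency false
set_option backward.isDefEq.respectTransparency.types false

universe u

open CategoryTheory CategoryTheory.Limits AlgebraicGeometry Opposite Abelian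

namespace Groth.Agent.H05EGA4.EtCl

open scoped Groth.Agent.H18Et

variable {X : Scheme.{u}}

/-- Direct images along a map from the spectrum of a field have torsion higher cohomology. -/
theorem exists_nsmul_H_push_field [CompactSpace X] [QuasiSeparatedSpace X] {K : Type u} [Field K]
    (f : Spec (CommRingCat.of K) ⟶ X) (F : EtCoh.Ab (Spec (CommRingCat.of K))) (n : ℕ)
    (y : EtCoh.H X ((EtCoh.push f).obj F) (n + 1)) : ∃ m, 0 < m ∧ m • y = 0 := by
  haveI := H18Et.pull_preservesFiniteLimits f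
  refine EtTors.exists_nsmul_H_push f
    (fun F z => isOfFinAddOrder_iff_nsmul_eq_zero.1
      (H9GalCoh.Killing.isOfFinAddOrder (K := K) F 1 Nat.one_pos z))
    (fun F k z => isOfFinAddOrder_iff_nsmul_eq_zero.1 (S0124.result X _ ?_ k z)) n F y
  exact EtTors.isTorsion_Rpush_succ _ F 0 fun P _ y => by
    haveI : CompactSpace ((EtCoh.bc f).obj P).left := (H18Et.Coh.qcqs_bc f P).1
    exact EtTors.exists_nsmul_ext_field (K := K) Nat.one_pos y

theorem exists_nsmul_H_push_jmax [AlgebraicGeometry.IsNoetherian X] [IsReduced X] (η : MaxPts X) (n : ℕ)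
    (y : EtCoh.H X (Pfac X η) (n + 1)) : ∃ m, 0 < m ∧ m • y = 0 := by
  letI := (isField_stalk_of_isMaxPt η.1 η.2).toField
  exact exists_nsmul_H_push_field (K := X.presheaf.stalk η.1) (jmax η) _ n y

/-- Classes of a finite product are sums over the factors. -/
theorem eq_sum_H_pi {ι : Type u} [Fintype ι] [DecidableEq ι] (G : ι → EtCoh.Ab X) [HasProduct G] (n : ℕ)
    (x : EtCoh.H X (∏ᶜ G) n) :
    x = ∑ k, Sheaf.H.map (Pi.lift fun l => if h : k = l then eqToHom (congrArg G h) else 0) n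
      (Sheaf.H.map (Pi.π G k) n x) := by
  let inc : ∀ k, G k ⟶ ∏ᶜ G := fun k => Pi.lift fun l => if h : k = l then eqToHom (congrArg G h) else 0
  have hid : 𝟙 (∏ᶜ G) = ∑ k, Pi.π G k ≫ inc k := by
    refine Pi.hom_ext _ _ fun l => ?_
    rw [Category.id_comp, Preadditive.sum_comp, Finset.sum_eq_single l]
    · simp only [inc, Category.assoc, Pi.lift_π, dite_true, eqToHom_refl, Category.comp_id]
    · intro k _ hk
      simp only [inc, Category.assoc, Pi.lift_π, dif_neg hk, comp_zero]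
    · intro h
      exact absurd (Finset.mem_univ l) h
  let L : (∏ᶜ G ⟶ ∏ᶜ G) →+ EtCoh.H X (∏ᶜ G) n :=
    AddMonoidHom.mk' (fun k => Sheaf.H.map k n x) fun a b => Sheaf.H.map_add_apply a b x
  refine (Sheaf.H.map_id_apply (F := ∏ᶜ G) x).symm.trans
    ((congrArg L hid).trans ((map_sum L _ _).trans (Finset.sum_congr rfl fun k _ => ?_)))
  exact Sheaf.H.map_comp_apply (Pi.π G k) (inc k) x

theorem exists_nsmul_H_PM [AlgebraicGeometry.IsNoetherian X] [IsReduced X] (n : ℕ) (x : EtCoh.H X (PM X) (n + 1)) :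
    ∃ m, 0 < m ∧ m • x = 0 := by
  classical
  haveI := finite_isMaxPt X
  haveI := Fintype.ofFinite (MaxPts X)
  choose m hm hm0 using fun k => exists_nsmul_H_push_jmax k n (Sheaf.H.map (Pi.π (Pfac X) k) (n + 1) x)
  refine ⟨∏ k, m k, Finset.prod_pos fun k _ => hm k, ?_⟩
  rw [eq_sum_H_pi (Pfac X) (n + 1) x, Finset.smul_sum]
  refine Finset.sum_eq_zero fun k hk => ?_
  obtain ⟨c, hc⟩ := Finset.dvd_prod_of_mem m hk
  rw [hc, mul_comm, mul_smul, ← map_nsmul, hm0, map_zero, smul_zero]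

/-- Torsion for the middle term of an extension by units. -/
theorem exists_nsmul_H_Gm [AlgebraicGeometry.IsNoetherian X] [IsReduced X] (n : ℕ)
    (hCl : ∀ y : EtCoh.H X (ClM X) (n + 1), ∃ m, 0 < m ∧ m • y = 0) (x : EtCoh.H X (EtCoh.Gm X) (n + 2)) :
    ∃ m, 0 < m ∧ m • x = 0 := by
  haveI := mono_eM (X := X) sepMax_of_isReduced
  have hS : (ShortComplex.mk (eM X) (cokernel.π (eM X)) (cokernel.condition _)).ShortExact :=
    { exact := ShortComplex.exact_cokernel _, mono_f := inferInstanceAs (Mono (eM X)),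
      epi_g := inferInstanceAs (Epi (cokernel.π _)) }
  obtain ⟨a, ha, ha0⟩ := exists_nsmul_H_PM (n + 1) (x.comp (Ext.mk₀ (eM X)) (add_zero _))
  obtain ⟨z, hz⟩ := Ext.covariant_sequence_exact₁ _ hS (a • x) ((EtTors.comp_nsmul_eq _ _ _ a).trans ha0)
    (rfl : n + 1 + 1 = n + 2)
  obtain ⟨b, hb, hb0⟩ := hCl z
  refine ⟨b * a, Nat.mul_pos hb ha, ?_⟩
  rw [mul_nsmul', ← hz, ← EtTors.comp_nsmul_eq, hb0, Ext.zero_comp]

/-- Cohomology of a sheaf at closed points is torsion. -/
theorem exists_nsmul_H_compObj [CompactSpace X] [QuasiSeparatedSpace X] (F : EtCoh.Ab X) {P : X → Prop}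
    (k : ULift.{u + 1} {x : X // P x}) (n : ℕ) (y : EtCoh.H X (compObj F k) (n + 1)) : ∃ m, 0 < m ∧ m • y = 0 :=
  EtTors.isAddTorsion_H_skyPush X k.down.1 _ n y

theorem exists_nsmul_H_of_iso {F G : EtCoh.Ab X} (e : F ≅ G) (n : ℕ)
    (h : ∀ y : EtCoh.H X G n, ∃ m, 0 < m ∧ m • y = 0) (x : EtCoh.H X F n) : ∃ m, 0 < m ∧ m • x = 0 := by
  obtain ⟨m, hm, hm0⟩ := h (Sheaf.H.map e.hom n x)
  refine ⟨m, hm, ?_⟩
  have := congrArg (Sheaf.H.map e.inv n) hm0
  rwa [← map_nsmul, ← Sheaf.H.map_comp_apply, e.hom_inv_id, Sheaf.H.map_id_apply, map_zero] at this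

end Groth.Agent.H05EGA4.EtCl
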