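import Groth.Agent.H05EGA4.EtCl.FieldTrdeg
import Groth.Agent.H8Props.FieldDimScheme
import Groth.Agent.S0539
import Groth.Agent.S2817
import Mathlib.RingTheory.Ideal.GoingDown
import Mathlib.RingTheory.AlgebraicIndependent.TranscendenceBasis

/-!
# The dimension function of a scheme of finite type over a field
-/

set_option autoImplicit false
set_option linter.style.haveILetI false
set_option linter.unusedSectionVars false
set_option linter.overlappingInstances false
set_option backward.isDefEq.respectTransparency false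
set_option backward.isDefEq.respectTransparency.types false

universe u

open CategoryTheory CategoryTheory.Limits AlgebraicGeometry Opposite Abelian TensorProduct
open scoped Classical

namespace Groth.Agent.H05EGA4.EtCl

open scoped Groth.Agent.H18Et

/-- The fraction fields at the minimal primes of strict henselizations are algebraic over the residue field. -/
theorem isAlgebraic_minimalPrime {A R : Type u} [CommRing A] [IsLocalRing A] [IsNoetherianRing A]
    [CommRing R] [IsLocalRing R] [Algebra A R] [IsLocalHom (algebraMap A R)] [Hensel.IsStrictHenselization A R]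
    (p : Ideal A) [p.IsPrime] (P : Ideal R) (hP : P ∈ (p.map (algebraMap A R)).minimalPrimes) :
    haveI : P.IsPrime := hP.1.1
    ∃ (χ : p.ResidueField →ₐ[A] FractionRing (R ⧸ P)), χ.toRingHom.IsIntegral := by
  haveI : P.IsPrime := hP.1.1
  haveI : Module.FaithfullyFlat A R := Groth.Agent.S0539.result A R
  have hcomap : P.comap (algebraMap A R) = p := by
    refine le_antisymm ?_ (Ideal.map_le_iff_le_comap.1 hP.1.2)
    haveI : P.LiesOver (P.comap (algebraMap A R)) := ⟨rfl⟩
    obtain ⟨Q, hQP, hQ, hQp⟩ := Ideal.exists_ideal_le_liesOver_of_le (S := R) (p := p) P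
      (Ideal.map_le_iff_le_comap.1 hP.1.2)
    have h1 := hP.2 ⟨hQ, Ideal.map_le_iff_le_comap.2 hQp.over.le⟩ hQP
    exact (Ideal.comap_mono h1).trans hQp.over.ge
  let L := FractionRing (R ⧸ P)
  have hker : p ≤ RingHom.ker (algebraMap A L) := fun a ha => by
    rw [RingHom.mem_ker, IsScalarTower.algebraMap_apply A (R ⧸ P) L, IsScalarTower.algebraMap_apply A R (R ⧸ P),
      Ideal.Quotient.algebraMap_eq, Ideal.Quotient.eq_zero_iff_mem.2 (by rw [← Ideal.mem_comap, hcomap]; exact ha),
      map_zero]
  have hu : p.primeCompl ≤ (IsUnit.submonoid L).comap (algebraMap A L).toMonoidHom := fun a ha => by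
    refine Ne.isUnit fun h0 => ha ?_
    change algebraMap A L a = 0 at h0
    rw [IsScalarTower.algebraMap_apply A (R ⧸ P) L,
      (map_eq_zero_iff _ (IsFractionRing.injective (R ⧸ P) L)), IsScalarTower.algebraMap_apply A R (R ⧸ P),
      Ideal.Quotient.algebraMap_eq, Ideal.Quotient.eq_zero_iff_mem] at h0
    rwa [← Ideal.mem_comap, hcomap] at h0
  let χ : p.ResidueField →ₐ[A] L := Ideal.ResidueField.liftₐ p (Algebra.ofId A L) hker hu
  refine ⟨χ, ?_⟩
  obtain ⟨n, K, _, _, hsep, ⟨e⟩⟩ := Groth.Agent.S2817.result A R p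
  letI : Algebra p.ResidueField L := χ.toRingHom.toAlgebra
  haveI : IsScalarTower A p.ResidueField L := IsScalarTower.of_algebraMap_eq fun a => (χ.commutes a).symm
  let Ψ : p.ResidueField ⊗[A] R →ₐ[p.ResidueField] L :=
    Algebra.TensorProduct.lift (Algebra.ofId _ L) (IsScalarTower.toAlgHom A R L) fun _ _ => mul_comm _ _
  haveI : ∀ i, Algebra.IsSeparable p.ResidueField (K i) := hsep
  have hint : ∀ r : R, IsIntegral p.ResidueField (algebraMap R L r) := fun r => by
    have h1 : IsIntegral p.ResidueField (e ((1 : p.ResidueField) ⊗ₜ r)) := by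
      set v := e ((1 : p.ResidueField) ⊗ₜ r)
      refine ⟨∏ i, minpoly p.ResidueField (v i),
        Polynomial.monic_prod_of_monic _ _ fun i _ => minpoly.monic (Algebra.IsIntegral.isIntegral _), funext fun i => ?_⟩
      show Pi.evalRingHom K i (Polynomial.eval₂ _ v _) = 0
      rw [Polynomial.hom_eval₂]
      show Polynomial.aeval (v i) (∏ j, minpoly p.ResidueField (v j)) = 0
      rw [map_prod]
      exact Finset.prod_eq_zero (Finset.mem_univ i) (minpoly.aeval _ _)
    have h2 := (h1.map e.symm).map Ψ
    rw [AlgEquiv.symm_apply_apply] at h2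
    simpa [Ψ] using h2
  intro z
  obtain ⟨a, b, -, rfl⟩ := IsFractionRing.div_surjective (R ⧸ P) z
  obtain ⟨a, rfl⟩ := Ideal.Quotient.mk_surjective a
  obtain ⟨b, rfl⟩ := Ideal.Quotient.mk_surjective b
  rw [← Ideal.Quotient.algebraMap_eq, ← IsScalarTower.algebraMap_apply, ← IsScalarTower.algebraMap_apply,
    div_eq_mul_inv]
  exact (hint a).mul (isAlgebraic_iff_isIntegral.1 ((isAlgebraic_iff_isIntegral.2 (hint b)).inv))

/-- The separable closure of a field inside a strictly henselian algebra over it. -/
theorem exists_hom_strictHens {K R : Type u} [Field K] [CommRing R] [HenselianLocalRing R]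
    [IsSepClosed (IsLocalRing.ResidueField R)] (φ : K →+* R) :
    ∃ (R' : Type u) (_ : Field R') (_ : Algebra K R'), IsSepClosed R' ∧ Algebra.IsAlgebraic K R' ∧
      ∃ g : R' →+* R, g.comp (algebraMap K R') = φ := by
  obtain ⟨R', _, _, _, _, h, hsc, hf, hint⟩ := exists_strictHens_field K (Field.toIsField K)
  haveI : IsLocalHom φ := ⟨fun a ha => Ne.isUnit fun h0 => not_isUnit_zero (M₀ := R) (by rwa [h0, map_zero] at ha)⟩
  haveI := h.isSepClosure
  letI : Algebra (IsLocalRing.ResidueField K) (IsLocalRing.ResidueField R) :=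
    (IsLocalRing.ResidueField.map φ).toAlgebra
  haveI : Algebra.IsSeparable (IsLocalRing.ResidueField K) (IsLocalRing.ResidueField R') := h.isSepClosure.2
  let τ : IsLocalRing.ResidueField R' →ₐ[IsLocalRing.ResidueField K] IsLocalRing.ResidueField R := IsSepClosed.lift
  obtain ⟨g, ⟨hg, -⟩, -⟩ := h.universal R φ τ.toRingHom τ.comp_algebraMap
  letI := hf.toField
  haveI : Algebra.IsIntegral K R' := ⟨hint⟩
  refine ⟨R', hf.toField, _, ?_, Algebra.IsIntegral.isAlgebraic, g, hg⟩
  let eR : R' ≃+* IsLocalRing.ResidueField R' := RingEquiv.ofBijective (IsLocalRing.residue R')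
    ⟨(IsLocalRing.residue R').injective, IsLocalRing.residue_surjective⟩
  refine IsSepClosed.of_exists_root _ fun p _ hirr hsep => ?_
  haveI := hsc
  obtain ⟨x, hx⟩ := IsSepClosed.exists_root (p.map (eR : R' →+* IsLocalRing.ResidueField R'))
    (by rw [Polynomial.degree_map]; exact hirr.degree_pos.ne') hsep.map
  refine ⟨eR.symm x, eR.injective ?_⟩
  rw [map_zero, ← hx.eq_zero, show eR (p.eval (eR.symm x)) = (eR : R' →+* IsLocalRing.ResidueField R') (p.eval (eR.symm x)) from rfl,
    ← Polynomial.eval_map_apply]
  congr 1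
  exact eR.apply_symm_apply x

variable {k : Type u} [Field k] {X : Scheme.{u}} (f : X ⟶ Spec (CommRingCat.of k))

/-- The constants in a local ring. -/
noncomputable def toStalk (y : X) : k →+* X.presheaf.stalk y := (Spec.preimage (X.fromSpecStalk y ≫ f)).hom

/-- The constants in a residue field. -/
noncomputable def toResidue (y : X) : k →+* X.residueField y := (X.residue y).hom.comp (toStalk f y)

theorem toResidue_spec (y : X) :
    X.fromSpecResidueField y ≫ f = Spec.map (CommRingCat.ofHom (toResidue f y)) := by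
  show (Spec.map (X.residue y) ≫ X.fromSpecStalk y) ≫ f =
    Spec.map ((Spec.preimage (X.fromSpecStalk y ≫ f)) ≫ X.residue y)
  rw [Category.assoc, Spec.map_comp, Spec.map_preimage]

theorem specMap_toStalk {x y : X} (h : x ⤳ y) : (Cyc.specMap y x h).comp (toStalk f y) = toResidue f x := by
  have h1 := toResidue_spec f x
  rw [fromSpecResidueField_eq h, Category.assoc, ← Spec.map_preimage (X.fromSpecStalk y ≫ f), ← Spec.map_comp] at h1
  exact congrArg CommRingCat.Hom.hom (Spec.map_injective h1)

section Delta

variable [LocallyOfFiniteType f] [QuasiCompact f]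

theorem exists_delta (x : X) : ∃ s : ℕ, H8Props.FieldDim.cdim x = s ∧
    @Algebra.trdeg k (X.residueField x) _ _ (toResidue f x).toAlgebra = s := by
  letI := (toResidue f x).toAlgebra
  obtain ⟨s, hs, hs'⟩ := H8Props.FieldDim.exists_trdeg f (L := X.residueField x) (X.fromSpecResidueField x)
    (toResidue_spec f x) (IsLocalRing.closedPoint _)
  exact ⟨s, by rw [← hs]; erw [Scheme.fromSpecResidueField_apply], hs'⟩

/-- The transcendence degree of the residue field. -/
noncomputable def delta (x : X) : ℕ := (exists_delta f x).choose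

theorem cdim_eq_delta (x : X) : H8Props.FieldDim.cdim x = delta f x := (exists_delta f x).choose_spec.1

theorem trdeg_eq_delta (x : X) : @Algebra.trdeg k (X.residueField x) _ _ (toResidue f x).toAlgebra = delta f x :=
  (exists_delta f x).choose_spec.2

theorem delta_lt {x y : X} (h : x ⤳ y) (hne : x ≠ y) : delta f y < delta f x := by
  have h1 := H8Props.FieldDim.cdim_lt f h hne
  rw [cdim_eq_delta f, cdim_eq_delta f] at h1
  exact_mod_cast h1

theorem delta_le {n : ℕ} (hn : topologicalKrullDim X ≤ n) (x : X) : delta f x ≤ n := by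
  have h1 : H8Props.FieldDim.cdim x ≤ topologicalKrullDim X := by
    rw [H8Props.FieldDim.dim_eq_iSup_cdim]
    exact le_iSup (fun z : X => H8Props.FieldDim.cdim z) x
  have h2 := h1.trans hn
  rw [cdim_eq_delta f] at h2
  exact_mod_cast h2

end Delta

variable [AlgebraicGeometry.IsNoetherian X] {ℓ : ℕ} (δ : X → ℕ)
  (hδ : ∀ x, @Algebra.trdeg k (X.residueField x) _ _ (toResidue f x).toAlgebra = δ x)

include hδ

/-- The residue fields at the minimal primes have small cohomological dimension. -/
theorem cohDimLEAt_minimalPrime (hℓ : ℓ.Prime) {x y : X} (h : x ⤳ y) (R : Type u) [CommRing R] [IsLocalRing R]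
    [Algebra (X.presheaf.stalk y) R] [IsLocalHom (algebraMap (X.presheaf.stalk y) R)]
    [Hensel.IsStrictHenselization (X.presheaf.stalk y) R] (P : Ideal R)
    (hP : P ∈ ((RingHom.ker (Cyc.specMap y x h)).map (algebraMap (X.presheaf.stalk y) R)).minimalPrimes) :
    haveI : P.IsPrime := hP.1.1
    Dix.CohDimLEAt (Spec (CommRingCat.of (FractionRing (R ⧸ P)))) ℓ (δ x - δ y) := by
  haveI : P.IsPrime := hP.1.1
  let A := X.presheaf.stalk y
  let φ := Cyc.specMap y x h
  let p := RingHom.ker φ
  haveI : p.IsPrime := RingHom.ker_isPrime φ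
  let L := FractionRing (R ⧸ P)
  letI : Algebra k A := (toStalk f y).toAlgebra
  letI : Algebra k R := ((algebraMap A R).comp (toStalk f y)).toAlgebra
  haveI : IsScalarTower k A R := IsScalarTower.of_algebraMap_eq' rfl
  letI : Algebra A (X.residueField x) := φ.toAlgebra
  letI : Algebra k (X.residueField x) := (toResidue f x).toAlgebra
  haveI : IsScalarTower k A (X.residueField x) := IsScalarTower.of_algebraMap_eq' (specMap_toStalk f h).symm
  let ψ : p.ResidueField →ₐ[A] X.residueField x :=
    Ideal.ResidueField.liftₐ p (Algebra.ofId _ _) (le_rfl : p ≤ RingHom.ker (algebraMap A (X.residueField x)))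
      (fun a ha => Ne.isUnit fun h0 => ha h0)
  have hψ : Function.Bijective ψ := by
    refine ⟨ψ.toRingHom.injective, fun a => ?_⟩
    obtain ⟨s, t, ht, hst⟩ := exists_mul_specMap h a
    refine ⟨algebraMap _ _ s / algebraMap _ _ t, ?_⟩
    rw [map_div₀, AlgHom.commutes, AlgHom.commutes]
    exact (div_eq_iff (b := φ t) fun h0 => ht h0).2 hst.symm
  have hp : Algebra.trdeg k p.ResidueField = δ x := by
    rw [← hδ x]
    exact (AlgEquiv.ofBijective (ψ.restrictScalars k) hψ).trdeg_eq
  obtain ⟨χ, hχ⟩ := isAlgebraic_minimalPrime p P hP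
  have hL : Algebra.trdeg k L = δ x := by
    letI : Algebra p.ResidueField L := χ.toRingHom.toAlgebra
    haveI : IsScalarTower k p.ResidueField L := IsScalarTower.of_algebraMap_eq fun c => by
      show algebraMap k L c = χ (algebraMap k p.ResidueField c)
      rw [IsScalarTower.algebraMap_apply k A p.ResidueField, χ.commutes, ← IsScalarTower.algebraMap_apply]
    haveI : Algebra.IsIntegral p.ResidueField L := ⟨hχ⟩
    haveI : Algebra.IsAlgebraic p.ResidueField L := Algebra.IsIntegral.isAlgebraic
    rw [← trdeg_add_eq k p.ResidueField (A := L), hp, trdeg_eq_zero (R := p.ResidueField) (A := L), add_zero]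
  -- a transcendence basis of the residue field at `y`
  letI : Algebra k (X.residueField y) := (toResidue f y).toAlgebra
  obtain ⟨s, hs⟩ := exists_isTranscendenceBasis k (X.residueField y)
  have hcard : Cardinal.mk s = δ y := hs.cardinalMk_eq_trdeg.trans (hδ y)
  choose t ht using fun i : s => X.residue_surjective y i.1
  let θ : MvPolynomial s k →ₐ[k] R := MvPolynomial.aeval fun i => algebraMap A R (t i)
  haveI := (inferInstance : Hensel.IsStrictHenselization A R).henselian
  haveI : IsSepClosed (IsLocalRing.ResidueField R) := (inferInstance : Hensel.IsStrictHenselization A R).isSepClosure.1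
  have hθ : ∀ q : nonZeroDivisors (MvPolynomial s k), IsUnit (θ q.1) := fun q => by
    let resA : A →ₐ[k] X.residueField y := { (X.residue y).hom with commutes' := fun c => rfl }
    have h1 : (X.residue y).hom ((MvPolynomial.aeval t) q.1) ≠ 0 := fun h0 => by
      have h2 : MvPolynomial.aeval (fun i : s => (i : X.residueField y)) q.1 = 0 := by
        rw [← h0, show (fun i : s => (i : X.residueField y)) = fun i => resA (t i) from funext fun i => (ht i).symm,
          ← MvPolynomial.comp_aeval_apply]
        rfl
      exact nonZeroDivisors.ne_zero q.2 (hs.1 (h2.trans (map_zero _).symm))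
    have h3 : IsUnit ((MvPolynomial.aeval t) q.1) := by
      by_contra hu
      exact h1 ((IsLocalRing.residue_eq_zero_iff _).2 hu)
    have h4 := h3.map (IsScalarTower.toAlgHom k A R)
    rwa [MvPolynomial.comp_aeval_apply] at h4
  let K := FractionRing (MvPolynomial s k)
  let φK : K →+* R := IsLocalization.lift (M := nonZeroDivisors (MvPolynomial s k)) (g := θ.toRingHom) hθ
  obtain ⟨R', _, _, hsc, halg, g, hg⟩ := exists_hom_strictHens φK
  letI : Algebra R' L := ((algebraMap R L).comp g).toAlgebra
  letI : Algebra k R' := ((algebraMap K R').comp (algebraMap k K)).toAlgebra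
  haveI : IsScalarTower k K R' := IsScalarTower.of_algebraMap_eq' rfl
  haveI : IsScalarTower k R' L := IsScalarTower.of_algebraMap_eq fun c => by
    show algebraMap k L c = algebraMap R L (g (algebraMap K R' (algebraMap k K c)))
    rw [← RingHom.comp_apply g, hg, IsScalarTower.algebraMap_apply k (MvPolynomial s k) K]
    erw [IsLocalization.lift_eq]
    show _ = algebraMap R L (θ (algebraMap k (MvPolynomial s k) c))
    rw [AlgHom.commutes, ← IsScalarTower.algebraMap_apply]
  have hK : Algebra.trdeg k K = δ y := by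
    haveI : Algebra.IsAlgebraic (MvPolynomial s k) K := IsLocalization.isAlgebraic _ (nonZeroDivisors (MvPolynomial s k))
    haveI : FaithfulSMul (MvPolynomial s k) K :=
      (faithfulSMul_iff_algebraMap_injective _ _).2 (IsFractionRing.injective _ _)
    rw [← trdeg_add_eq k (MvPolynomial s k) (A := K), MvPolynomial.trdeg_of_isDomain,
      trdeg_eq_zero (R := MvPolynomial s k) (A := K), add_zero, hcard, Cardinal.lift_natCast]
  have hR' : Algebra.trdeg k R' = δ y := by
    rw [← trdeg_add_eq k K (A := R'), hK, trdeg_eq_zero (R := K) (A := R'), add_zero]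
  have hsum := trdeg_add_eq k R' (A := L)
  rw [hR', hL] at hsum
  have hfin : Algebra.trdeg R' L < Cardinal.aleph0 :=
    lt_of_le_of_lt (hsum ▸ le_add_self) Cardinal.natCast_lt_aleph0
  obtain ⟨c, hc⟩ := Cardinal.lt_aleph0.1 hfin
  rw [hc] at hsum
  have hsum' : δ y + c = δ x := by exact_mod_cast hsum
  have h0 : Dix.CohDimLEAt (Spec (CommRingCat.of R')) ℓ 0 := fun F _ q hq => by
    obtain ⟨i, rfl⟩ := Nat.exists_eq_add_of_le' hq
    haveI := hsc
    exact subsingleton_H_over_sepClosed R' R' F i
  have := cohDimLEAt_trdeg hℓ R' L c hc.le h0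
  exact fun F hF q hq => this F hF q (by omega)

/-- The dimension function `e + 2δ` of a scheme over a field. -/
noncomputable def cdFunOfTrdeg (hℓ : ℓ.Prime) (hlt : ∀ {x y : X}, x ⤳ y → x ≠ y → δ y < δ x) {e : ℕ}
    (he : Dix.CohDimLEAt (Spec (CommRingCat.of k)) ℓ e) : CdFun X ℓ where
  φ x := e + 2 * δ x
  cd x := fun F hF q hq => by
    letI := (toResidue f x).toAlgebra
    exact cohDimLEAt_trdeg hℓ k (X.residueField x) (δ x) (hδ x).le he F hF q (by omega)
  strict x y h hne R _ _ _ _ _ P hP :=
    ⟨δ x - δ y, by have := hlt h hne; omega, cohDimLEAt_minimalPrime f δ hδ hℓ h R P hP⟩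

omit hδ

/-- The dimension function of a scheme of finite type over a field. -/
noncomputable def trdegCdFun [LocallyOfFiniteType f] [QuasiCompact f] (hℓ : ℓ.Prime) {e : ℕ}
    (he : Dix.CohDimLEAt (Spec (CommRingCat.of k)) ℓ e) : CdFun X ℓ :=
  cdFunOfTrdeg f (delta f) (trdeg_eq_delta f) hℓ (fun h hne => delta_lt f h hne) he

end Groth.Agent.H05EGA4.EtCl
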